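import Cfsg.Agent.Lib.MTwentyFour.Six.Family
import Cfsg.Agent.Lib.GW.FusedApply
import Cfsg.Agent.Lib.Block.CyclicPrimeValues

/-!
The cofactor 192 at 7 is impossible: the member of degree 22 takes values `1 + 7 m` on a subgroup of
order 64, and no such rational character is faithful there.
-/

set_option autoImplicit false
set_option linter.style.haveILetI false
set_option linter.unusedSectionVars false
set_option maxHeartbeats 1000000

namespace Cfsg.Lib.MTwentyFour.Six

open Cfsg Cfsg.Lib Cfsg.Lib.Block Cfsg.Lib.MTwentyFour.Eleven Cfsg.Lib.MTwentyFour.Local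
open Cfsg.Lib.MTwentyFour.Search (ord24)
open scoped ComplexConjugate Classical

universe u

noncomputable local instance (priority := high) fintypeSubgroupBig {A : Type u}
    [Group A] [Fintype A] (H : Subgroup A) : Fintype H := Fintype.ofFinite H

local notation "C[" P "]" => Subgroup.centralizer (SetLike.coe P)

theorem isCharacter_powFn {H : Type u} [Group H] {χ : H → ℂ} (hχ : IsCharacter H χ) :
    ∀ n : ℕ, IsCharacter H fun h => χ h ^ n
  | 0 => by simpa using Char.isCharacter_one (G := H)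
  | n + 1 => by
    have e : (fun h => χ h ^ (n + 1)) = (fun h => χ h ^ n) * χ := funext fun h => pow_succ _ _
    rw [e]
    exact (isCharacter_powFn hχ n).mul hχ

/-- A product of integral translates of a character sums to a multiple of the order. -/
theorem sum_translates_dvd {H : Type u} [Group H] [Fintype H] {χ : H → ℂ} (hχ : IsCharacter H χ) :
    ∀ (l : List ℤ) (n : ℕ), ∃ k : ℤ,
      ∑ h : H, χ h ^ n * (l.map fun a : ℤ => χ h - (a : ℂ)).prod = (Nat.card H : ℂ) * (k : ℂ)
  | [], n => by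
    obtain ⟨k, hk⟩ := (isCharacter_powFn hχ n).exists_nat_classInner (Char.isCharacter_one (G := H))
    simp only [classInner, map_one, mul_one] at hk
    rw [inv_mul_eq_iff_eq_mul₀ (Char.card_cast_ne_zero (G := H))] at hk
    exact ⟨k, by simpa using hk⟩
  | a :: l, n => by
    obtain ⟨k₁, h₁⟩ := sum_translates_dvd hχ l (n + 1)
    obtain ⟨k₂, h₂⟩ := sum_translates_dvd hχ l n
    refine ⟨k₁ - a * k₂, ?_⟩
    push_cast
    rw [mul_sub, ← h₁, show (Nat.card H : ℂ) * ((a : ℂ) * (k₂ : ℂ)) = (a : ℂ) * ((Nat.card H : ℂ) * k₂) by ring,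
      ← h₂, Finset.mul_sum, ← Finset.sum_sub_distrib]
    refine Finset.sum_congr rfl fun h _ => ?_
    rw [List.map_cons, List.prod_cons, pow_succ]
    ring

theorem big_check : fams192.all (fun l => l.countP (fun x => x.natAbs == 22) == 1 && l.contains 22) = true := by
  decide +kernel

variable {G : Type u} [Group G] [Fintype G] [IsSimpleGroup G] [Fact (Nat.Prime 5)] [Fact (Nat.Prime 7)]
  (X : Ctx G) {Q : Sylow 5 G} {q : ℕ} {S5 : Small.Shape Q 4} {χA χa χB χE : IrrCharacter G}
  (hF : FiveFam Q q S5 χA χa χB χE) {P : Sylow 7 G} {c : ℕ} (S : Small.Shape P 6)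
  (hP : Nat.card C[(P : Subgroup G)] = 7 * c)
include X hF S hP

theorem not_big : c ≠ 192 := by
  rintro rfl
  obtain ⟨l, hl, hlv⟩ := family X hF S hP
  rw [famsFor, if_pos rfl] at hl
  have hc := List.all_eq_true.1 big_check l hl
  simp only [Bool.and_eq_true, beq_iff_eq, List.contains_iff_mem] at hc
  obtain ⟨hcount, h22⟩ := hc
  obtain ⟨χ, hχ, hsd⟩ := Multiset.mem_map.1 (show (22 : ℤ) ∈ (five (χa := χa) S).val.map (sd S) by
    rw [← hlv]; exact h22)
  have hχZ : χ ∈ S.Z := Finset.mem_of_mem_erase (Finset.mem_of_mem_erase hχ)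
  have hdχ : dg χ = 22 := by rw [← sd_natAbs S hχZ, hsd]; rfl
  have hσ : S.σ χ = 1 := by
    rcases S.sign χ hχZ with h | h
    · exact h
    · rw [sd, h, hdχ] at hsd; norm_num at hsd
  have hcard : (((five (χa := χa) S).filter fun ψ => (sd S ψ).natAbs = 22)).card = 1 := by
    have e : Multiset.countP (fun x : ℤ => x.natAbs = 22) (l : Multiset ℤ) = 1 := by
      rw [Multiset.coe_countP, ← hcount]
      rfl
    rw [hlv, Multiset.countP_map] at e
    exact e
  have huniq : ∀ ψ ∈ S.X ∪ S.Y, dg ψ = dg χ → ψ = χ := by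
    intro ψ hψ hd
    have hY : S.Y = {S.θ} := by
      refine Finset.eq_singleton_iff_unique_mem.2 ⟨S.θ_mem, fun w hw => ?_⟩
      exact Finset.card_le_one.1 (le_of_eq (show S.Y.card = 1 by rw [S.card_Y])) w hw _ S.θ_mem
    have hψZ : ψ ∈ S.Z := by
      rw [hY, Finset.mem_union, Finset.mem_singleton] at hψ
      exact S.mem_Z.2 hψ.symm
    have h1 : ψ ≠ Small.one' G := fun h => by
      rw [h, hdχ, show dg (Small.one' G) = 1 from Small.charDegree_one'] at hd
      norm_num at hd
    have h2 : ψ ≠ χa := fun h => by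
      rw [h, hdχ, hF.2.2.2.2.1] at hd
      norm_num at hd
    obtain ⟨a, ha⟩ := Finset.card_eq_one.1 hcard
    have hm : ∀ φ ∈ five (χa := χa) S, dg φ = 22 → φ = a := fun φ hφ hdφ => by
      rw [← Finset.mem_singleton, ← ha, Finset.mem_filter]
      exact ⟨hφ, by rw [sd_natAbs S (Finset.mem_of_mem_erase (Finset.mem_of_mem_erase hφ)), hdφ]⟩
    rw [hm ψ (Finset.mem_erase.2 ⟨h2, Finset.mem_erase.2 ⟨h1, hψZ⟩⟩) (hd.trans hdχ), hm χ hχ hdχ]
  obtain ⟨x, hx⟩ : ∃ x, x ∈ pnt P := by
    haveI : Nontrivial (P : Subgroup G) := by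
      rw [← Finite.one_lt_card_iff_nontrivial, S.card_P]; norm_num
    obtain ⟨⟨x, hx⟩, hx1⟩ := exists_ne (1 : (P : Subgroup G))
    exact ⟨x, mem_pnt.2 ⟨hx, fun h => hx1 (Subtype.ext h)⟩⟩
  obtain ⟨hxP, hx1⟩ := mem_pnt.1 hx
  -- the values on regular elements of the centralizer
  have hval : ∀ s ∈ regs P, ∃ t : ℤ, (χ : G → ℂ) s = t ∧ (7 : ℤ) ∣ 1 - t ∧ t.natAbs ≤ 22 ∧
      (t = 22 → s = 1) := by
    intro s hs
    obtain ⟨t, ht⟩ := Char.exists_int_of_pow_invariant χ.2.isCharacter s fun k hk =>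
      pow_invariant S hP (by norm_num) hχZ (fun ψ hψ hd => by rw [huniq ψ hψ hd]) hk
    have hn := χ.2.isCharacter.norm_le s
    rw [ht, apply_one_eq_charDegree, show charDegree (χ : G → ℂ) = 22 from hdχ] at hn
    simp only [Complex.norm_intCast, Complex.natCast_re] at hn
    have hn' : t.natAbs ≤ 22 := by
      have h2 : |t| ≤ 22 := by exact_mod_cast hn
      have h3 := abs_le.1 h2
      omega
    refine ⟨t, ht, ?_, hn', fun h => ?_⟩
    · have hxs : x * s ∈ sing P := mul_mem_sing S.card_P hx hs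
      have h := charVal_sub_pReg_mem S.hM χ.2.isCharacter (x * s)
      rw [← eq_pReg (q := 7) rfl (Subgroup.mem_centralizer_iff.1 (mem_regs.1 hs).1 x hxP)
        (show orderOf x = 7 ^ 1 by rw [pow_one]; exact orderOf_of_mem S.card_P hxP hx1) (mem_regs.1 hs).2,
        val_one S hP hχZ hxs, hσ, ht] at h
      exact int_dvd_of_memLocalIdeal S.hM (by simpa using h)
    · refine GW.eq_one_of_apply_eq_degree χ (fun e => ?_) (by
        rw [ht, h, apply_one_eq_charDegree, show charDegree (χ : G → ℂ) = 22 from hdχ]; rfl)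
      rw [e, show dg (trivChar G) = 1 from deg_triv] at hdχ
      norm_num at hdχ
  obtain ⟨V, hV⟩ := Sylow.exists_subgroup_card_pow_prime 2 (G := C[(P : Subgroup G)]) (n := 6)
    (by rw [hP]; norm_num)
  have hVs : ∀ v : V, ((v : C[(P : Subgroup G)]) : G) ∈ regs P := fun v => by
    refine mem_regs.2 ⟨(v : C[(P : Subgroup G)]).2, fun h => ?_⟩
    have h2 := h.trans (Subgroup.orderOf_coe (v : C[(P : Subgroup G)]) ▸
      Subgroup.orderOf_coe v ▸ orderOf_dvd_natCard v)
    rw [hV] at h2
    norm_num at h2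
  set f := (C[(P : Subgroup G)]).subtype.comp V.subtype
  obtain ⟨k, hk⟩ := sum_translates_dvd (χ.2.isCharacter.comp f) [-20, -13, -6, 1, 8, 15] 0
  simp only [pow_zero, one_mul, List.map_cons, List.map_nil, List.prod_cons, List.prod_nil, mul_one] at hk
  rw [← Finset.add_sum_erase _ _ (Finset.mem_univ (1 : V)), Finset.sum_eq_zero fun v hv => ?_] at hk
  · rw [map_one, apply_one_eq_charDegree, show charDegree (χ : G → ℂ) = 22 from hdχ, hV] at hk
    norm_num at hk
    have : (64 : ℤ) * k = 84707280 := by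
      have h' : ((64 * k : ℤ) : ℂ) = ((84707280 : ℤ) : ℂ) := by push_cast; linear_combination -hk
      exact_mod_cast h'
    omega
  · obtain ⟨t, ht, h7, hn, hone⟩ := hval _ (hVs v)
    have hne : t ≠ 22 := fun e => Finset.ne_of_mem_erase hv (Subtype.ext (Subtype.ext (hone e)))
    have hcases : t = -20 ∨ t = -13 ∨ t = -6 ∨ t = 1 ∨ t = 8 ∨ t = 15 := by omega
    rw [show f v = ((v : C[(P : Subgroup G)]) : G) from rfl, ht]
    rcases hcases with rfl | rfl | rfl | rfl | rfl | rfl <;> norm_num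

end Cfsg.Lib.MTwentyFour.Six
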