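import Cfsg.Agent.Lib.MTwentyFour.Six.FamilyChecks

/-!
Value rows at involutions when the automizer at 7 has order 6 and its cofactor is 24: the computed lists.
-/

set_option autoImplicit false

namespace Cfsg.Lib.MTwentyFour.Six

open Cfsg.Lib.MTwentyFour.Eleven (dv isq notSq)
open Cfsg.Lib.MTwentyFour.Search (ord24 v11)

/-- Values of the four named characters and signed values of the five further members. -/
structure TRow where
  C : ℕ
  A : ℤ
  B : ℤ
  a : ℤ
  E : ℤ
  u : List ℤ
deriving DecidableEq

/-- The values at an involution congruent to the degree modulo `m`, with the bound of an inverter if asked. -/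
def vd (C d m : ℕ) (bd : Bool) : List ℤ :=
  let q := d / Nat.gcd d (ord24 / C)
  let r₀ := min (isq C) (d - 1)
  let r := (if bd then min r₀ (((d : ℤ) + 10 * v11 d).toNat / 11) else r₀) / q
  ((List.range (2 * r + 1)).map fun (i : ℕ) => (q : ℤ) * ((i : ℤ) - (r : ℤ))).filter fun v =>
    (v - (d : ℤ)) % (m : ℤ) == 0

/-- Membership in the values at an involution. -/
def inVd (C d m : ℕ) (bd : Bool) (v : ℤ) : Bool :=
  let q := d / Nat.gcd d (ord24 / C)
  let r₀ := min (isq C) (d - 1)
  let r := (if bd then min r₀ (((d : ℤ) + 10 * v11 d).toNat / 11) else r₀) / q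
  Nat.ble v.natAbs (r * q) && Nat.beq (v.natAbs % q) 0 && (v - (d : ℤ)) % (m : ℤ) == 0

/-- Multiply by the sign of `d`. -/
def sgv (d u : ℤ) : ℤ := if (0 : ℤ) ≤ d then u else -u

def mNamed (C : ℕ) : ℕ := 4 * (if C % 7 == 0 then 7 else 1) * (if C % 5 == 0 then 5 else 1)

def mFam (C d : ℕ) : ℕ := 4 * (if C % 7 == 0 then 7 else 1) * (if C % 5 == 0 && d % 5 == 0 then 5 else 1)

/-- The signed values of a member. -/
def udom (C : ℕ) (bd : Bool) (s : ℤ) : List ℤ := (vd C s.natAbs (mFam C s.natAbs) bd).map (sgv s)

def sqFive (q C : ℕ) (A B a E : ℤ) : Bool :=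
  let num : ℤ := (q : ℤ) * (ord24 : ℤ) * (127512 + 22 * (A * A) - 23 * (B * B) - 63 * (a * a) + 72 * (E * E))
  let den : ℤ := 5 * ((C : ℤ) * (C : ℤ)) * 127512
  num % den == 0 && !notSq (num / den)

/-- The named values. -/
def fives (q C : ℕ) (bd : Bool) (md : ℕ) : List (ℤ × ℤ × ℤ × ℤ) :=
  let m := mNamed C
  ((vd C 2024 m bd).filter fun a => (24192 * (2024 - a)) % ((C * md : ℕ) : ℤ) == 0).flatMap fun a =>
    (vd C 5796 m bd).flatMap fun A => (vd C 5544 m bd).filterMap fun B =>
      if decide (1 + A * A + B * B + a * a + (a + B - 1 - A) * (a + B - 1 - A) ≤ (C : ℤ)) &&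
          inVd C 1771 m bd (a + B - 1 - A) && sqFive q C A B a (a + B - 1 - A) then
        some (A, B, a, a + B - 1 - A)
      else none

/-- The tuples from the given lists with given sum and bounded square sum. -/
def dfs (last : ℤ → Bool) : List (List ℤ) → ℤ → ℤ → List (List ℤ)
  | [], b, need => if decide (need * need ≤ b) && last need then [[need]] else []
  | D :: Ds, b, need =>
    if decide (b * ((Ds.length : ℤ) + 2) < need * need) then []
    else D.flatMap fun u =>
      if decide (u * u ≤ b) then (dfs last Ds (b - u * u) (need - u)).map (u :: ·) else []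

/-- The search with the membership test for the last member. -/
def search (C : ℕ) (bd : Bool) (l : List ℤ) (b need : ℤ) : List (List ℤ) :=
  match l.reverse with
  | [] => []
  | s :: rest =>
    dfs (fun u => inVd C s.natAbs (mFam C s.natAbs) bd (sgv s u)) (rest.reverse.map (udom C bd)) b need

/-- A common multiple of the degrees. -/
def lc (l : List ℤ) : ℕ := l.foldl (fun L d => Nat.lcm L d.natAbs) 2024

/-- The signed weighted sum of products of the values of the members. -/
def mix (L : ℤ) : List ℤ → List ℤ → List ℤ → ℤ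
  | d :: l, u :: us, w :: ws => u * w * (L / d) + mix L l us ws
  | _, _, _ => 0

/-- The scaled number of pairs of inverters at 7. -/
def tnum (l : List ℤ) (r s : TRow) : ℤ :=
  let L : ℤ := (lc l : ℤ)
  24 * (ord24 : ℤ) * (L + (L / 2024) * (r.a * s.a) + mix L l r.u s.u)

/-- The square condition at 7, with at most 24 inverting members for each element. -/
def sqSeven (l : List ℤ) (r : TRow) : Bool :=
  let den : ℤ := 7 * ((r.C : ℤ) * (r.C : ℤ)) * (lc l : ℤ)
  let num := tnum l r r
  num % den == 0 && !notSq (num / den) && decide (num / den ≤ 576)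

/-- The rows at a centralizer order. -/
def trows (l : List ℤ) (q : ℕ) (bd : Bool) (md C : ℕ) : List TRow :=
  (fives q C bd md).flatMap fun f =>
    ((search C bd l ((C : ℤ) - (1 + f.1 * f.1 + f.2.1 * f.2.1 + f.2.2.1 * f.2.2.1 + f.2.2.2 * f.2.2.2))
      (-1 - f.2.2.1)).map fun us => TRow.mk C f.1 f.2.1 f.2.2.1 f.2.2.2 us).filter (sqSeven l)

/-- The squared mixed count is the product of the two squares. -/
def pairOk (l : List ℤ) (r s : TRow) : Bool :=
  let n := tnum l r s
  decide (0 ≤ n) && n * n == tnum l r r * tnum l s s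

/-- Centralizer orders with a Sylow count at 7 congruent to one. -/
def cSeven (C : ℕ) : Bool :=
  (C % 336 == 0 && C / 336 % 7 == 1) || (C % 1008 == 0 && C / 1008 % 7 == 1)

def centsV : List ℕ := (dv 967680).filter cSeven
def centsVFree : List ℕ := centsV.filter fun C => !(C % 5 == 0)
def centsZ : List ℕ := (dv 967680).filter fun C => C % 10 == 0
def centsZFree : List ℕ := centsZ.filter fun C => !(C % 7 == 0)
def centsJ : List ℕ := (dv 967680).filter fun C => C % 70 == 0

def listV (l : List ℤ) (q : ℕ) : List TRow := centsVFree.flatMap (trows l q false 56)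
def listVAny (l : List ℤ) (q : ℕ) : List TRow := centsV.flatMap (trows l q false 7)
def listZ (l : List ℤ) (q : ℕ) : List TRow := centsZFree.flatMap (trows l q true 56)
def listZAny (l : List ℤ) (q : ℕ) : List TRow := centsZ.flatMap (trows l q true 7)
def listJ (l : List ℤ) (q : ℕ) : List TRow := centsJ.flatMap (trows l q false 7)

/-- The signed values at an element of order 5. -/
def xlist (l : List ℤ) (q : ℕ) : List (List ℤ) :=
  let ok := fun (s x : ℤ) =>
    if s % 5 == 0 then x == 0 else decide (x * x ≤ 5 * (q : ℤ) - 5) && (x - s) % 5 == 0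
  match l.reverse with
  | [] => []
  | s :: rest =>
    dfs (ok s) (rest.reverse.map fun s => ((List.range 63).map fun (i : ℕ) => (i : ℤ) - 31).filter (ok s))
      (5 * (q : ℤ) - 5) 0

/-- The power of 5 and 2 dividing the centralizer order. -/
def uFive : ℕ → ℕ
  | 2 => 10
  | 12 => 20
  | 32 => 160
  | 192 => 320
  | _ => 5

/-- The numerator of the number of products singular at 7 with an element of order 5. -/
def cxNum (l : List ℤ) (r : TRow) (x : List ℤ) : ℤ :=
  let L : ℤ := (lc l : ℤ)
  34974720 * (L - (L / 2024) * r.a + mix L l r.u x)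

def cxOk (l : List ℤ) (q : ℕ) (r : TRow) (x : List ℤ) : Bool :=
  decide (0 ≤ cxNum l r x) && cxNum l r x % ((r.C * lc l * uFive q : ℕ) : ℤ) == 0

/-- The congruence at 7 for a further character. -/
def rootOk (C d : ℕ) (t : ℤ) : Bool :=
  d == 45 || (C % 1008 == 0 && C / 1008 % 7 == 1 && ((t - (d : ℤ)) % 7 == 0 || (t + (d : ℤ)) % 7 == 0)) ||
    (C % 336 == 0 && C / 336 % 7 == 1 &&
      ((t - (d : ℤ)) % 7 == 0 || (d == 540 && (3 * t + (d : ℤ)) % 7 == 0)))

/-- The possible values of a further character at the two involutions. -/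
def extras (v z : TRow) : List (ℕ × ℤ × ℤ) :=
  [45, 540, 3840].flatMap fun d =>
    ((vd v.C d 4 false).filter (rootOk v.C d)).flatMap fun t => (vd z.C d 20 true).map fun w => (d, t, w)

def dot : List ℤ → List ℤ → ℤ
  | a :: as, b :: bs => a * b + dot as bs
  | _, _ => 0

/-- One of the vectors contradicts the orthogonality of the columns. -/
def bessel (norms : List ℤ) (pts : List (List ℤ)) (us : List (List ℤ)) : Bool :=
  us.any fun u =>
    decide (dot (u.map fun a => a * a) norms < (pts.map fun p => dot u p * dot u p).sum)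

def namedRow (l : List ℤ) (r : TRow) : List ℤ := [1, r.A, r.B, r.a, r.E] ++ List.zipWith sgv l r.u
def yRow (l : List ℤ) : List ℤ :=
  [1, v11 5796, v11 5544, v11 2024, v11 1771] ++ l.map fun s => v11 s.natAbs
def xRow (l x : List ℤ) : List ℤ := [1, 1, -1, -1, 1] ++ List.zipWith sgv l x

def pts3 (l : List ℤ) (v z : TRow) : List (List ℤ) :=
  List.zipWith (fun p yy => p ++ [yy]) (List.zipWith (fun a b => [a, b]) (namedRow l v) (namedRow l z)) (yRow l)

def pts4 (l x : List ℤ) (v z : TRow) : List (List ℤ) :=
  List.zipWith (fun p xx => p ++ [xx]) (pts3 l v z) (xRow l x)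

/-- The vectors for the four columns. -/
def vecs4 : List (List ℤ) := [[7, -1, 0, 0], [2, 6, 0, 1], [2, -1, 0, 0], [0, 0, -1, 1], [0, -1, 4, 2]]

/-- The row survives alone against the column at an element of order 11. -/
def aliveY (l : List ℤ) (r : TRow) : Bool :=
  let k := namedRow l r
  let y := yRow l
  let a : ℤ := (r.C : ℤ) - dot k k
  let b : ℤ := 11 - dot y y
  decide (0 ≤ a) && decide (0 ≤ b) && decide (dot k y * dot k y ≤ a * b)

end Cfsg.Lib.MTwentyFour.Six
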