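import Cfsg.Agent.Lib.MTwentyFour.Six.Family
import Cfsg.Agent.Lib.MTwentyFour.Six.RowDefs
import Cfsg.Agent.Lib.MTwentyFour.Index
import Cfsg.Agent.Lib.MTwentyFour.Local.Shape

/-!
An involution of the centralizer at 7 whose orbit under the normalizer has length one, or length three
with the orbit and the identity a four-group.
-/

set_option autoImplicit false
set_option linter.style.haveILetI false
set_option linter.unusedSectionVars false

namespace Cfsg.Lib.MTwentyFour.Six

open Cfsg Cfsg.Lib Cfsg.Lib.Block Cfsg.Lib.MTwentyFour.Eleven Cfsg.Lib.MTwentyFour.Local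
open Cfsg.Lib.MTwentyFour.Search (ord24)
open scoped ComplexConjugate Classical

universe u

noncomputable local instance (priority := high) fintypeSubgroupCentral {A : Type u}
    [Group A] [Fintype A] (H : Subgroup A) : Fintype H := Fintype.ofFinite H

local notation "C[" P "]" => Subgroup.centralizer (SetLike.coe P)

/-- An involution of the centralizer of `P` with a short orbit under the normalizer. -/
def Central {G : Type u} [Group G] (P : Sylow 7 G) (v : G) : Prop :=
  orderOf v = 2 ∧ v ∈ C[(P : Subgroup G)] ∧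
    (((∀ n ∈ Subgroup.normalizer ((P : Subgroup G) : Set G), Commute n v) ∧
        Nat.card (Subgroup.centralizer ({v} : Set G)) % 1008 = 0 ∧
        Nat.card (Subgroup.centralizer ({v} : Set G)) / 1008 % 7 = 1) ∨
      (∃ O : Finset G, O.card = 3 ∧ v ∈ O ∧
        (∀ w, w ∈ O ↔ ∃ n ∈ Subgroup.normalizer ((P : Subgroup G) : Set G), n * v * n⁻¹ = w) ∧
        (∀ a ∈ O, ∀ b ∈ O, a ≠ b → a * b ∈ O) ∧
        Nat.card (Subgroup.centralizer ({v} : Set G)) % 336 = 0 ∧
        Nat.card (Subgroup.centralizer ({v} : Set G)) / 336 % 7 = 1))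

theorem Central.cSeven {G : Type u} [Group G] {P : Sylow 7 G} {v : G} (h : Central P v) :
    cSeven (Nat.card (Subgroup.centralizer ({v} : Set G))) = true := by
  rcases h.2.2 with ⟨-, h1, h2⟩ | ⟨O, -, -, -, -, h1, h2⟩ <;> simp [Six.cSeven, h1, h2]

/-- The length of the orbit times the order of the stabilizer. -/
theorem card_orbit {G : Type u} [Group G] [Fintype G] (N : Subgroup G) (v : G) :
    ((Finset.univ.filter (· ∈ N)).image fun n => n * v * n⁻¹).card *
      Nat.card ↥(N ⊓ Subgroup.centralizer ({v} : Set G)) = Nat.card N := by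
  set s := Finset.univ.filter (· ∈ N) with hs
  set f := fun n : G => n * v * n⁻¹ with hf
  have hN : Nat.card N = s.card := by
    rw [hs, ← Fintype.card_subtype, ← Nat.card_eq_fintype_card]
  rw [hN, Finset.card_eq_sum_card_image f s, Finset.sum_congr rfl fun w hw => ?_, Finset.sum_const, smul_eq_mul]
  obtain ⟨n₀, hn₀, rfl⟩ := Finset.mem_image.1 hw
  have hn₀' : n₀ ∈ N := (Finset.mem_filter.1 hn₀).2
  rw [Nat.card_eq_fintype_card, ← Finset.card_univ]
  symm
  refine Finset.card_bij (fun c _ => n₀ * (c : G)) ?_ ?_ ?_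
  · intro c _
    obtain ⟨hcN, hcv⟩ := Subgroup.mem_inf.1 c.2
    refine Finset.mem_filter.2 ⟨Finset.mem_filter.2 ⟨Finset.mem_univ _, mul_mem hn₀' hcN⟩, ?_⟩
    simp only [hf]
    rw [show n₀ * (c : G) * v * (n₀ * (c : G))⁻¹ = n₀ * ((c : G) * v * (c : G)⁻¹) * n₀⁻¹ by group,
      Subgroup.mem_centralizer_singleton_iff.1 hcv, mul_inv_cancel_right]
  · intro a _ b _ h
    exact Subtype.ext (mul_left_cancel h)
  · intro n hn
    obtain ⟨h1, h2⟩ := Finset.mem_filter.1 hn
    simp only [hf] at h2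
    refine ⟨⟨n₀⁻¹ * n, Subgroup.mem_inf.2 ⟨mul_mem (inv_mem hn₀') (Finset.mem_filter.1 h1).2,
      Subgroup.mem_centralizer_singleton_iff.2 ?_⟩⟩, Finset.mem_univ _, by simp⟩
    calc n₀⁻¹ * n * v = n₀⁻¹ * (n * v * n⁻¹) * n := by group
      _ = v * (n₀⁻¹ * n) := by rw [h2]; group

variable {G : Type u} [Group G] [Fintype G] [IsSimpleGroup G] [Fact (Nat.Prime 5)] [Fact (Nat.Prime 7)]
  (X : Ctx G) {P : Sylow 7 G} (S : Small.Shape P 6)
  (hP : Nat.card C[(P : Subgroup G)] = 7 * 24)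
include X S hP

/-- A nontrivial elementary abelian 2-subgroup of the centralizer invariant under the normalizer. -/
theorem exists_omega : ∃ E : Subgroup G, E ≤ C[(P : Subgroup G)] ∧
    (∀ n ∈ Subgroup.normalizer ((P : Subgroup G) : Set G), ∀ x ∈ E, n * x * n⁻¹ ∈ E) ∧
    (∀ x ∈ E, x ^ 2 = 1) ∧ (∀ x ∈ E, ∀ y ∈ E, Commute x y) ∧ 2 ∣ Nat.card E ∧ Nat.card E ≤ 8 := by
  haveI : Fact (Nat.Prime 2) := ⟨Nat.prime_two⟩
  set W := C[(P : Subgroup G)] with hW
  have hfac : (Nat.card W).factorization 2 = 3 := by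
    rw [hP, show 7 * 24 = 2 ^ 3 * 21 by norm_num]; exact factorization_eq (r := 2) (k := 3) (m := 21) (by norm_num) (by norm_num) (by norm_num)
  have hS8 : ∀ T : Sylow 2 W, Nat.card (T : Subgroup W) = 8 := fun T => by
    rw [T.card_eq_multiplicity, hfac]; norm_num
  set R : Subgroup W := ⨅ T : Sylow 2 W, (T : Subgroup W) with hR
  obtain ⟨T₀⟩ : Nonempty (Sylow 2 W) := inferInstance
  have hRT : R ≤ (T₀ : Subgroup W) := iInf_le _ T₀
  -- the intersection is nontrivial
  have hne : ∃ x ∈ R, x ≠ 1 := by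
    set M := Subgroup.normalizer ((T₀ : Subgroup W) : Set W) with hM
    have hPM : (P : Subgroup G).subgroupOf W ≤ M := fun x hx => by
      refine Subgroup.centralizer_le_normalizer _ (Subgroup.mem_centralizer_iff.2 fun y _ => Subtype.ext ?_)
      exact (Subgroup.mem_centralizer_iff.1 y.2 x (Subgroup.mem_subgroupOf.1 hx)).symm
    have h7 : 7 ∣ Nat.card M := by
      have := Subgroup.card_dvd_of_le hPM
      rwa [Nat.card_congr (Subgroup.subgroupOfEquivOfLe (le_centralizer_self S.card_P)).toEquiv, S.card_P] at this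
    have h8 : 8 ∣ Nat.card M := hS8 T₀ ▸ Subgroup.card_dvd_of_le Subgroup.le_normalizer
    have hn3 : Nat.card (Sylow 2 W) ∣ 3 := by
      rw [T₀.card_eq_index_normalizer]
      obtain ⟨k, hk⟩ := Nat.Coprime.mul_dvd_of_dvd_of_dvd (by norm_num : Nat.Coprime 8 7) h8 h7
      have h := M.card_mul_index
      rw [hP, hk] at h
      refine ⟨k, ?_⟩
      generalize M.index = i at h ⊢
      rw [show 8 * 7 * k * i = 56 * (i * k) by ring] at h
      omega
    set K := (MulAction.toPermHom W (Sylow 2 W)).ker with hK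
    have hKdvd : K.index ∣ 6 := by
      rw [hK, Subgroup.index_ker]
      refine (Subgroup.card_subgroup_dvd_card _).trans ?_
      rw [Nat.card_perm]
      rcases (Nat.dvd_prime Nat.prime_three).1 hn3 with e | e <;> rw [e] <;> norm_num [Nat.factorial]
    have h2K : 2 ∣ Nat.card K := by
      have h := K.card_mul_index
      rw [hP] at h
      obtain ⟨k, hk⟩ := hKdvd
      exact ⟨14 * k, Nat.eq_of_mul_eq_mul_right (Nat.pos_of_ne_zero fun e : K.index = 0 => by
        rw [e, zero_mul] at hk; norm_num at hk) (h.trans (by rw [mul_assoc, mul_assoc, mul_comm k, ← hk]; norm_num))⟩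
    obtain ⟨⟨x, hxK⟩, hx⟩ := exists_prime_orderOf_dvd_card' (G := K) 2 h2K
    rw [Subgroup.orderOf_mk] at hx
    refine ⟨x, ?_, fun e => by rw [e, orderOf_one] at hx; norm_num at hx⟩
    rw [hR, Subgroup.mem_iInf]
    intro T
    have hfix : x • T = T := by
      have := congrArg (fun f => f T) (MonoidHom.mem_ker.1 hxK)
      simpa using this
    have hxN : x ∈ Subgroup.normalizer ((T : Subgroup W) : Set W) := Sylow.smul_eq_iff_mem_normalizer.1 hfix
    have hpg : IsPGroup 2 (Subgroup.zpowers x) := IsPGroup.of_card (n := 1) (by rw [Nat.card_zpowers, hx, pow_one])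
    have hle := T.is_maximal' (hpg.to_sup_of_normal_right' T.isPGroup' (Subgroup.zpowers_le.2 hxN)) le_sup_right
    exact hle ▸ Subgroup.mem_sup_left (Subgroup.mem_zpowers x)
  -- invariance under the normalizer
  have hinv : ∀ n ∈ Subgroup.normalizer ((P : Subgroup G) : Set G), ∀ x ∈ R, ∀ h : n * (x : G) * n⁻¹ ∈ W, (⟨_, h⟩ : W) ∈ R := by
    intro n hn x hx h
    have hmem : ∀ m ∈ Subgroup.normalizer ((P : Subgroup G) : Set G), ∀ y : W, m * (y : G) * m⁻¹ ∈ W := fun m hm y => conj_centralizer_mem hm y.2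
    let φ : W ≃* W :=
      { toFun := fun y => ⟨_, hmem n hn y⟩
        invFun := fun y => ⟨_, hmem n⁻¹ (inv_mem hn) y⟩
        left_inv := fun y => Subtype.ext (by group)
        right_inv := fun y => Subtype.ext (by group)
        map_mul' := fun y z => Subtype.ext (by simp only [Subgroup.coe_mul]; group) }
    rw [hR, Subgroup.mem_iInf] at hx ⊢
    intro T
    have := hx (T.comapOfInjective φ.toMonoidHom φ.injective (fun y _ => ⟨φ.symm y, φ.apply_symm_apply y⟩))
    exact this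
  set E : Subgroup G :=
    { carrier := {g | ∃ x : W, (x : G) = g ∧ x ∈ R ∧ x ^ 2 = 1 ∧ ∀ r ∈ R, Commute x r}
      one_mem' := ⟨1, rfl, one_mem _, one_pow 2, fun r _ => Commute.one_left r⟩
      mul_mem' := by
        rintro _ _ ⟨x, rfl, hx, hx2, hxc⟩ ⟨y, rfl, hy, hy2, hyc⟩
        exact ⟨x * y, rfl, mul_mem hx hy, by rw [(hxc y hy).mul_pow, hx2, hy2, one_mul],
          fun r hr => (hxc r hr).mul_left (hyc r hr)⟩
      inv_mem' := by
        rintro _ ⟨x, rfl, hx, hx2, hxc⟩
        exact ⟨x⁻¹, rfl, inv_mem hx, by rw [inv_pow, hx2, inv_one], fun r hr => (hxc r hr).inv_left⟩ } with hE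
  have hmemE : ∀ {g : G}, g ∈ E ↔ ∃ x : W, (x : G) = g ∧ x ∈ R ∧ x ^ 2 = 1 ∧ ∀ r ∈ R, Commute x r := Iff.rfl
  refine ⟨E, ?_, ?_, ?_, ?_, ?_, ?_⟩
  · rintro g hg
    obtain ⟨x, rfl, -⟩ := hmemE.1 hg
    exact x.2
  · intro n hn g hg
    obtain ⟨x, rfl, hx, hx2, hxc⟩ := hmemE.1 hg
    refine hmemE.2 ⟨⟨_, conj_centralizer_mem hn x.2⟩, rfl, hinv n hn x hx _, Subtype.ext ?_, fun r hr => ?_⟩
    · show (n * (x : G) * n⁻¹) ^ 2 = 1
      rw [conj_pow, show (x : G) ^ 2 = 1 from congrArg Subtype.val hx2, mul_one, mul_inv_cancel]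
    · have hr' : n⁻¹ * (r : G) * n⁻¹⁻¹ ∈ W := conj_centralizer_mem (inv_mem hn) r.2
      have hc : (x : G) * (n⁻¹ * (r : G) * n⁻¹⁻¹) = n⁻¹ * (r : G) * n⁻¹⁻¹ * x :=
        congrArg Subtype.val (hxc ⟨_, hr'⟩ (hinv n⁻¹ (inv_mem hn) r hr _)).eq
      refine Subtype.ext ?_
      show n * (x : G) * n⁻¹ * (r : G) = (r : G) * (n * (x : G) * n⁻¹)
      calc n * (x : G) * n⁻¹ * (r : G) = n * ((x : G) * (n⁻¹ * (r : G) * n⁻¹⁻¹)) * n⁻¹ := by group
        _ = (r : G) * (n * (x : G) * n⁻¹) := by rw [hc]; group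
  · intro g hg
    obtain ⟨x, rfl, -, hx2, -⟩ := hmemE.1 hg
    exact congrArg Subtype.val hx2
  · intro g hg g' hg'
    obtain ⟨x, rfl, -, -, hxc⟩ := hmemE.1 hg
    obtain ⟨y, rfl, hy, -, -⟩ := hmemE.1 hg'
    exact congrArg Subtype.val (hxc y hy).eq
  · -- a central involution of the intersection
    obtain ⟨x, hx, hx1⟩ := hne
    have hRp : IsPGroup 2 R := T₀.isPGroup'.to_le hRT
    haveI : Nontrivial R := ⟨⟨⟨x, hx⟩, 1, fun e => hx1 (congrArg Subtype.val e)⟩⟩
    haveI := hRp.center_nontrivial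
    have h2 : 2 ∣ Nat.card (Subgroup.center R) := by
      obtain ⟨n, hn, hc⟩ := (hRp.to_subgroup _).nontrivial_iff_card.1 (inferInstance : Nontrivial (Subgroup.center R))
      rw [hc]; exact dvd_pow_self 2 hn.ne'
    obtain ⟨⟨⟨z, hzR⟩, hzc⟩, hz⟩ := exists_prime_orderOf_dvd_card' (G := Subgroup.center R) 2 h2
    rw [Subgroup.orderOf_mk, Subgroup.orderOf_mk] at hz
    have hzE : (z : G) ∈ E := hmemE.2 ⟨z, rfl, hzR, hz ▸ pow_orderOf_eq_one z, fun r hr =>
      (congrArg Subtype.val (Subgroup.mem_center_iff.1 hzc ⟨r, hr⟩)).symm⟩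
    exact ((Subgroup.orderOf_coe z).trans hz).symm ▸ Subgroup.orderOf_dvd_natCard _ hzE
  · refine Nat.le_of_dvd (by norm_num) ((Subgroup.card_dvd_of_le
      (show E ≤ (T₀ : Subgroup W).map W.subtype from fun g hg => ?_)).trans
      (dvd_of_eq ((Subgroup.card_map_of_injective W.subtype_injective).trans (hS8 T₀))))
    obtain ⟨x, rfl, hx, -, -⟩ := hmemE.1 hg
    exact ⟨x, hRT hx, rfl⟩

/-- An involution with a short orbit. -/
theorem exists_central : ∃ v, Central P v := by
  haveI : Fact (Nat.Prime 2) := ⟨Nat.prime_two⟩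
  obtain ⟨E, hEC, hEinv, hE2, hEcomm, hE0, hE8⟩ := exists_omega X S hP
  set N := Subgroup.normalizer ((P : Subgroup G) : Set G) with hN
  have hNc : Nat.card N = 1008 := by rw [hN, card_normalizer S.card_P hP S.relIndex_eq]
  obtain ⟨x, hx⟩ := exists_prime_orderOf_dvd_card' (G := (P : Subgroup G)) 7 (by rw [S.card_P])
  have hxP : (x : G) ∈ (P : Subgroup G) := x.2
  have hxo : orderOf (x : G) = 7 := (Subgroup.orderOf_coe x).trans hx
  have hzp : Subgroup.zpowers (x : G) = (P : Subgroup G) :=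
    Small.zpowers_eq_of_prime_card S.card_P hxP fun e => by rw [e, orderOf_one] at hxo; norm_num at hxo
  have hsize : ∀ v ∈ E, v ≠ 1 → ∀ h : ℕ, Nat.card ↥(N ⊓ Subgroup.centralizer ({v} : Set G)) = h →
      Nat.card (Subgroup.centralizer ({v} : Set G)) % h = 0 ∧
        Nat.card (Subgroup.centralizer ({v} : Set G)) / h % 7 = 1 := fun v hv hv1 h hh => by
    obtain ⟨h1, h2⟩ := index_modEq_one (p := 7) (X.hcard ▸ by norm_num) hxo (Subgroup.centralizer ({v} : Set G))
      (Subgroup.mem_centralizer_singleton_iff.2 (Subgroup.mem_centralizer_iff.1 (hEC hv) x hxP))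
      (by rw [hzp, ← hN, hh])
    subst hh
    exact ⟨Nat.mod_eq_zero_of_dvd h1, h2⟩
  have hord : ∀ v ∈ E, v ≠ 1 → orderOf v = 2 := fun v hv hv1 => orderOf_eq_prime (hE2 v hv) hv1
  have hfix : ∀ v ∈ E, v ≠ 1 → (∀ n ∈ N, n * v * n⁻¹ = v) → ∃ v, Central P v := fun v hv hv1 hfix => by
    refine ⟨v, hord v hv hv1, hEC hv, Or.inl ⟨fun n hn => mul_inv_eq_iff_eq_mul.1 (hfix n hn),
      hsize v hv hv1 1008 ?_⟩⟩
    rw [inf_eq_left.2 fun n hn => Subgroup.mem_centralizer_singleton_iff.2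
      (mul_inv_eq_iff_eq_mul.1 (hfix n hn)), hNc]
  -- a member fixed by a Sylow 2-subgroup of the normalizer
  obtain ⟨T⟩ : Nonempty (Sylow 2 N) := inferInstance
  have hT : Nat.card (T : Subgroup N) = 16 := by
    rw [T.card_eq_multiplicity, hNc,
      show (1008 : ℕ) = 2 ^ 4 * 63 by norm_num, factorization_eq (r := 2) (k := 4) (m := 63) (by norm_num) (by norm_num) (by norm_num)]
    norm_num
  letI : MulAction (T : Subgroup N) E :=
    { smul := fun t e => ⟨((t : N) : G) * e * ((t : N) : G)⁻¹, hEinv _ (t : N).2 e e.2⟩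
      one_smul := fun e => Subtype.ext (show ((1 : N) : G) * e * ((1 : N) : G)⁻¹ = e by simp)
      mul_smul := fun t u e => Subtype.ext (show (((t * u : (T : Subgroup N)) : N) : G) * e *
        (((t * u : (T : Subgroup N)) : N) : G)⁻¹ = ((t : N) : G) * (((u : N) : G) * e * ((u : N) : G)⁻¹) *
          ((t : N) : G)⁻¹ by push_cast; group) }
  obtain ⟨⟨w, hw⟩, hwfix, hw1⟩ :=
    T.isPGroup'.exists_fixed_point_of_prime_dvd_card_of_fixed_point E hE0
      (a := (1 : E)) (fun t => Subtype.ext (show ((t : N) : G) * ((1 : E) : G) * ((t : N) : G)⁻¹ = _ by simp))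
  have hw1' : w ≠ 1 := fun e => hw1 (Subtype.ext e.symm)
  set O := (Finset.univ.filter (· ∈ N)).image fun n => n * w * n⁻¹ with hO
  have hmemO : ∀ {a}, a ∈ O ↔ ∃ n ∈ N, n * w * n⁻¹ = a := by simp [hO]
  have hOE : ∀ a ∈ O, a ∈ E ∧ a ≠ 1 := fun a ha => by
    obtain ⟨n, hn, rfl⟩ := hmemO.1 ha
    exact ⟨hEinv n hn w hw, fun e => hw1' (conj_eq_one_iff.1 e)⟩
  have hO7 : O.card ≤ 7 := by
    have hsub : O ⊆ (Finset.univ.filter (· ∈ E)).erase 1 := fun a ha =>
      Finset.mem_erase.2 ⟨(hOE a ha).2, Finset.mem_filter.2 ⟨Finset.mem_univ _, (hOE a ha).1⟩⟩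
    have := Finset.card_le_card hsub
    rw [Finset.card_erase_of_mem (by simp [one_mem]), ← Fintype.card_subtype, ← Nat.card_eq_fintype_card] at this
    change O.card ≤ Nat.card E - 1 at this
    omega
  have horb := card_orbit N w
  rw [← hO, hNc] at horb
  have h112 : 112 ∣ Nat.card ↥(N ⊓ Subgroup.centralizer ({w} : Set G)) := by
    refine Nat.Coprime.mul_dvd_of_dvd_of_dvd (by norm_num : Nat.Coprime 16 7) ?_ ?_
    · rw [← hT, ← Subgroup.card_map_of_injective N.subtype_injective]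
      refine Subgroup.card_dvd_of_le ?_
      rintro _ ⟨t, ht, rfl⟩
      refine Subgroup.mem_inf.2 ⟨t.2, Subgroup.mem_centralizer_singleton_iff.2 (mul_inv_eq_iff_eq_mul.1 ?_)⟩
      exact congrArg Subtype.val (hwfix ⟨t, ht⟩)
    · rw [← S.card_P]
      exact Subgroup.card_dvd_of_le (le_inf Subgroup.le_normalizer fun y hy =>
        Subgroup.mem_centralizer_singleton_iff.2 (Subgroup.mem_centralizer_iff.1 (hEC hw) y hy))
  obtain ⟨k, hk⟩ := h112
  rw [hk] at horb
  have hO9 : O.card * k = 9 := by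
    rw [show O.card * (112 * k) = 112 * (O.card * k) by ring] at horb
    omega
  have hO13 : O.card = 1 ∨ O.card = 3 := by
    have hd : O.card ∣ 9 := ⟨k, hO9.symm⟩
    generalize O.card = m at hd hO7
    interval_cases m <;> omega
  have hwO : w ∈ O := hmemO.2 ⟨1, one_mem _, by simp⟩
  rcases hO13 with h1 | h3
  · obtain ⟨a, ha⟩ := Finset.card_eq_one.1 h1
    refine hfix w hw hw1' fun n hn => ?_
    have e1 : n * w * n⁻¹ ∈ O := hmemO.2 ⟨n, hn, rfl⟩
    rw [ha, Finset.mem_singleton] at e1 hwO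
    rw [e1, hwO]
  have hperm : ∀ n ∈ N, O.image (fun a => n * a * n⁻¹) = O := fun n hn => by
    refine Finset.eq_of_subset_of_card_le (fun a ha => ?_) ?_
    · obtain ⟨b, hb, rfl⟩ := Finset.mem_image.1 ha
      obtain ⟨m, hm, rfl⟩ := hmemO.1 hb
      exact hmemO.2 ⟨n * m, mul_mem hn hm, by group⟩
    · rw [Finset.card_image_of_injective _ (fun a b h => mul_left_cancel (mul_right_cancel h))]
  have hcomm : (O : Set G).Pairwise fun a b => Commute a b := fun a ha b hb _ =>
    hEcomm a (hOE a ha).1 b (hOE b hb).1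
  obtain ⟨a, b, c, hab, hac, hbc, habc⟩ := Finset.card_eq_three.1 h3
  by_cases hprod : a * b * c = 1
  · refine ⟨w, hord w hw hw1', hEC hw, Or.inr ⟨O, h3, hwO, fun a => hmemO, ?_, hsize w hw hw1' 336 ?_⟩⟩
    · have hm : ∀ y, y ∈ O ↔ y = a ∨ y = b ∨ y = c := fun y => by rw [habc]; simp
      have hin : ∀ y, y ∈ O → y⁻¹ = y := fun y hy =>
        inv_eq_of_mul_eq_one_right (by rw [← pow_two]; exact hE2 y (hOE y hy).1)
      have ia := hin a ((hm a).2 (Or.inl rfl))
      have ib := hin b ((hm b).2 (Or.inr (Or.inl rfl)))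
      have ic := hin c ((hm c).2 (Or.inr (Or.inr rfl)))
      have e1 : a * b = c := by rw [mul_eq_one_iff_eq_inv.1 hprod, ic]
      have e2 : b * c = a := by rw [← e1, ← mul_assoc, hEcomm b (hOE b ((hm b).2 (by simp))).1 a
        (hOE a ((hm a).2 (by simp))).1 |>.eq, mul_assoc]; nth_rewrite 2 [← ib]; rw [mul_inv_cancel, mul_one]
      have e3 : a * c = b := by rw [← e1, ← mul_assoc]; nth_rewrite 2 [← ia]; rw [mul_inv_cancel, one_mul]
      have hc : ∀ y ∈ O, ∀ z ∈ O, y * z = z * y := fun y hy z hz => (hEcomm y (hOE y hy).1 z (hOE z hz).1).eq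
      have e1' : b * a = c := by rw [hc b ((hm b).2 (by simp)) a ((hm a).2 (by simp)), e1]
      have e2' : c * b = a := by rw [hc c ((hm c).2 (by simp)) b ((hm b).2 (by simp)), e2]
      have e3' : c * a = b := by rw [hc c ((hm c).2 (by simp)) a ((hm a).2 (by simp)), e3]
      intro y hy z hz hne
      rcases (hm y).1 hy with rfl | rfl | rfl <;> rcases (hm z).1 hz with rfl | rfl | rfl <;>
        first
          | exact absurd rfl hne
          | exact (hm _).2 (Or.inl (by assumption))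
          | exact (hm _).2 (Or.inr (Or.inl (by assumption)))
          | exact (hm _).2 (Or.inr (Or.inr (by assumption)))
    · have : k = 3 := by rw [h3] at hO9; omega
      rw [hk, this]
  · -- the product of the orbit is fixed
    have hm : ∀ y, y ∈ O ↔ y = a ∨ y = b ∨ y = c := fun y => by rw [habc]; simp
    have ha := (hOE a ((hm a).2 (by simp))).1
    have hb := (hOE b ((hm b).2 (by simp))).1
    have hc := (hOE c ((hm c).2 (by simp))).1
    have cab := (hEcomm a ha b hb).eq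
    have cac := (hEcomm a ha c hc).eq
    have cbc := (hEcomm b hb c hc).eq
    refine hfix (a * b * c) (mul_mem (mul_mem ha hb) hc) hprod fun n hn => ?_
    have hin : ∀ y ∈ O, n * y * n⁻¹ = a ∨ n * y * n⁻¹ = b ∨ n * y * n⁻¹ = c := fun y hy =>
      (hm _).1 (hperm n hn ▸ Finset.mem_image_of_mem (fun y => n * y * n⁻¹) hy)
    have hinj : ∀ {y z : G}, y ≠ z → n * y * n⁻¹ ≠ n * z * n⁻¹ := fun h e =>
      h (mul_left_cancel (mul_right_cancel e))
    rw [show n * (a * b * c) * n⁻¹ = (n * a * n⁻¹) * (n * b * n⁻¹) * (n * c * n⁻¹) by group]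
    have p1 : a * c * b = a * b * c := by rw [mul_assoc, ← cbc, mul_assoc]
    have p2 : b * a * c = a * b * c := by rw [cab]
    have p3 : b * c * a = a * b * c := by rw [mul_assoc, ← cac, ← mul_assoc, ← cab]
    have p4 : c * a * b = a * b * c := by rw [← cac, p1]
    have p5 : c * b * a = a * b * c := by rw [← cbc, p3]
    rcases hin a ((hm a).2 (by simp)) with ea | ea | ea <;>
      rcases hin b ((hm b).2 (by simp)) with eb | eb | eb <;>
      rcases hin c ((hm c).2 (by simp)) with ec | ec | ec <;>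
      first
        | exact absurd (ea.trans eb.symm) (hinj hab)
        | exact absurd (ea.trans ec.symm) (hinj hac)
        | exact absurd (eb.trans ec.symm) (hinj hbc)
        | (rw [ea, eb, ec]; done)
        | (rw [ea, eb, ec]; assumption)

end Cfsg.Lib.MTwentyFour.Six
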