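import Cfsg.Agent.Lib.MTwentyFour.Six.RowDefs

/-!
The tests made on the computed rows for the cofactor 24.
-/

set_option autoImplicit false

namespace Cfsg.Lib.MTwentyFour.Six

open Cfsg.Lib.MTwentyFour.Eleven (dv isq)
open Cfsg.Lib.MTwentyFour.Search (ord24)

/-- The computed rows of one family, with square condition at 5 for the cofactors `qq` ∈ {32, 192}. -/
structure FamData where
  l : List ℤ
  v32 : List TRow
  v192 : List TRow
  j32 : List TRow
  j192 : List TRow
  z192 : List TRow
  zAny : List TRow

def subT (xs ys : List TRow) : Bool := xs.all fun r => ys.contains r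

/-- A surviving pair of an involution with centralizer order divisible by 35 and one centralizing `P`. -/
def needZ (l : List ℤ) (J V : List TRow) : Bool :=
  J.any fun j => V.any fun v => pairOk l j v && aliveY l j && aliveY l v

/-- No three involutions are compatible, one of them with centralizer order divisible by 35. -/
def jKill (l : List ℤ) (J V Z : List TRow) : Bool :=
  J.all fun j => V.all fun v => !(pairOk l j v && aliveY l j && aliveY l v) ||
    Z.all fun z => !(pairOk l j z && pairOk l v z) || (extras v z).isEmpty

/-- The rows allowed at the exact cofactor. -/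
def freeRows (q : ℕ) (xs : List TRow) : List TRow :=
  xs.filter fun r => sqFive q r.C r.A r.B r.a r.E && (24192 * (2024 - r.a)) % ((r.C * 56 : ℕ) : ℤ) == 0

def freeV (q : ℕ) (xs : List TRow) : List TRow := (freeRows q xs).filter fun r => !(r.C % 5 == 0)

/-- The values at a further character as a point of the four columns. -/
def extraPt (e : ℕ × ℤ × ℤ) : List ℤ := [e.2.1, e.2.2, 1, 0]

def centsG : List ℕ := (dv 967680).filter fun C => C % 105 == 0

/-- Sums of the values at an element of order 3 and its inverse. -/
def sdom (C d : ℕ) (r7 r5 : Option ℤ) : List ℤ :=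
  let q := d / Nat.gcd d (ord24 / C)
  let r := isq (4 * C) / q
  ((List.range (2 * r + 1)).map fun (i : ℕ) => (q : ℤ) * ((i : ℤ) - (r : ℤ))).filter fun s =>
    (s - 2 * (d : ℤ)) % 3 == 0 && (r7.all fun a => (s - 2 * a) % 7 == 0) &&
      (r5.all fun a => (s - 2 * a) % 5 == 0)

/-- The signed sums of the members at an element of order 3. -/
def gdom (C : ℕ) (s : ℤ) : List ℤ :=
  (sdom C s.natAbs (some (sgv s 1)) (if s % 5 == 0 then some 0 else none)).map (sgv s)

/-- The sums of a further character. -/
def gExtra (C d : ℕ) : List ℤ := if d % 27 == 0 then [0] else sdom C d none (some 0)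

/-- The vectors for five columns. -/
def vecs5 : List (List ℤ) := [[2, 0, 3, 3, 3], [1, -2, -6, -1, -3], [1, -1, 3, -5, -6], [1, 1, 2, 6, 6]]

/-- The squared norm of the sum of the columns at an element of order 3 and its inverse. -/
def gNorm (C : ℕ) (s : List ℤ) : ℤ :=
  if s.any fun t => !(t % 2 == 0) then 2 * (C : ℤ) else 4 * (C : ℤ)

/-- The candidate columns at an element of order 3. -/
def gRows (l : List ℤ) (C : ℕ) : List (List ℤ × List ℤ) :=
  match l.reverse with
  | [] => []
  | s :: rest =>
    ((sdom C 2024 (some 1) (some (-1))).filter fun a =>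
        (24192 * (4048 - a)) % ((2 * C * 56 : ℕ) : ℤ) == 0).flatMap fun a =>
      (sdom C 5796 (some 0) (some 1)).flatMap fun A => (sdom C 5544 (some 0) (some (-1))).flatMap fun B =>
        let E := a + B - 2 - A
        if (sdom C 1771 (some 0) (some 1)).contains E then
          (dfs (fun u => (gdom C s).contains u) (rest.reverse.map (gdom C))
            (4 * (C : ℤ) - (4 + A * A + B * B + a * a + E * E)) (-2 - a)).map fun us => ([A, B, a, E], us)
        else []

/-- The sum of the columns at an element of order 3 and its inverse contradicts the four others. -/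
def gKill (l x : List ℤ) (q : ℕ) (v z : TRow) (e : ℕ × ℤ × ℤ) : Bool :=
  centsG.all fun C => (gRows l C).all fun g =>
    let L : ℤ := (lc l : ℤ)
    let a : ℤ := g.1.getD 2 0
    let n := gNorm C (g.1 ++ g.2)
    let h7 : ℤ := 144 * (ord24 : ℤ) * (2 * L + (L / 2024) * (v.a * a) + mix L l v.u g.2)
    let h5 : ℤ := 34974720 * (2 * L - (L / 2024) * a + mix L l x g.2)
    !(decide (0 ≤ h7) && h7 % ((2 * C * v.C * lc l : ℕ) : ℤ) == 0) ||
      !(decide (0 ≤ h5) && h5 % ((2 * C * lc l : ℕ) : ℤ) == 0) ||
      decide (n < dot g.1 g.1 + dot g.2 g.2 + 4) ||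
      (gExtra C e.1).all fun t =>
        bessel [n, (v.C : ℤ), (z.C : ℤ), 11, 5 * (q : ℤ)]
          ((t :: extraPt e) :: List.zipWith (fun w p => w :: p)
            ([2] ++ g.1 ++ List.zipWith sgv l g.2) (pts4 l x v z)) vecs5

/-- The exceptional case, excluded through an element of order 3. -/
def gCase (l x : List ℤ) (q : ℕ) (v z : TRow) (e : ℕ × ℤ × ℤ) : Bool :=
  let L : ℤ := (lc l : ℤ)
  let num : ℤ := 34974720 * (L + L / 2024 + mix L l x x)
  q == 12 && !(num % ((60 * 60 * lc l : ℕ) : ℤ) == 0) && gKill l x q v z e

/-- No compatible triple of columns leaves room for a further character. -/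
def mainKill (l : List ℤ) (V Z : List TRow) : Bool :=
  [2, 12, 32, 192].all fun q =>
    (freeRows q Z).all fun z => (freeV q V).all fun v => !pairOk l v z ||
      (xlist l q).all fun x => !(cxOk l q v x && cxOk l q z x) ||
        (extras v z).all fun e =>
          bessel [(v.C : ℤ), (z.C : ℤ), 11, 5 * (q : ℤ)] (extraPt e :: pts4 l x v z) vecs4 ||
            gCase l x q v z e

/-- All tests for a family. -/
def FamData.tests (F : FamData) : Bool :=
  jKill F.l F.j32 F.v32 [] && jKill F.l F.j192 F.v192 F.zAny && !needZ F.l F.j32 F.v32 &&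
    mainKill F.l F.v192 F.z192 &&
    [2, 12, 32, 192].all fun q => (freeV q F.v32).isEmpty

/-- The rows of a family are among the listed ones. -/
def FamData.coversV (F : FamData) : Bool :=
  subT (centsV.flatMap (trows F.l 32 false 7)) F.v32 && subT (centsV.flatMap (trows F.l 192 false 7)) F.v192

def FamData.coversJ (F : FamData) : Bool :=
  subT (listJ F.l 32) F.j32 && subT (listJ F.l 192) F.j192

def FamData.coversZ (F : FamData) : Bool :=
  (F.v192.all fun r => !(r.C % 5 != 0 && (24192 * (2024 - r.a)) % ((r.C * 56 : ℕ) : ℤ) == 0)) ||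
    subT (listZ F.l 192) F.z192

def FamData.coversZAny (F : FamData) : Bool :=
  !needZ F.l F.j192 F.v192 || subT (listZAny F.l 192) F.zAny

end Cfsg.Lib.MTwentyFour.Six
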