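import Cfsg.Agent.Lib.MTwentyFour.Six.Family
import Cfsg.Agent.Lib.MTwentyFour.Roots
import Cfsg.Agent.Lib.MTwentyFour.Degrees

/-!
The cofactor 3 at 7 is impossible: the columns at elements of order 11 and 23 are not orthogonal.
-/

set_option autoImplicit false
set_option linter.style.haveILetI false
set_option linter.unusedSectionVars false
set_option maxHeartbeats 1000000

namespace Cfsg.Lib.MTwentyFour.Six

open Cfsg Cfsg.Lib Cfsg.Lib.Block Cfsg.Lib.MTwentyFour.Eleven Cfsg.Lib.MTwentyFour.Local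
open Cfsg.Lib.MTwentyFour.Search (ord24 w23 v11 isExc)
open scoped ComplexConjugate Classical

universe u

noncomputable local instance (priority := high) fintypeSubgroupThree {A : Type u}
    [Group A] [Fintype A] (H : Subgroup A) : Fintype H := Fintype.ofFinite H

local notation "C[" P "]" => Subgroup.centralizer (SetLike.coe P)

/-- The possible degrees. -/
def degList : List ℕ :=
  Eleven.dAll.filter fun d => Nat.ble (d * d) ord24 && Eleven.r23 d && r11 d

/-- The facts on a degree used for the cofactor 3. -/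
def threeTest : Bool :=
  degList.all fun d =>
    (!(d % 7 == 0 || d % 7 == 1 || d % 7 == 2 || d % 7 == 5 || d % 7 == 6) || d == 540 ||
      decide (0 ≤ v11 d * w23 d)) &&
    (d == 1 || (isExc d && !(d == 540)) ||
      ((!(d % 7 == 1) || decide (w23 d ≤ 0)) && (!(d % 7 == 6) || decide (0 ≤ w23 d))))

theorem three_check : threeTest = true := by decide +kernel

theorem family_weight : fams24.all (fun l => l.all fun x => v11 x.natAbs * w23 x.natAbs == 0 &&
    !(x.natAbs == 540)) = true := by decide +kernel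

theorem roots_three {V : Type u} [Group V] [Fintype V] (hV : Nat.card V = 3) :
    ∃ a b : IrrCharacter V, a ≠ trivChar V ∧ b ≠ trivChar V ∧ charDegree (a : V → ℂ) = 1 ∧ charDegree (b : V → ℂ) = 1 ∧
      ∀ χ : IrrCharacter V, χ = trivChar V ∨ χ = a ∨ χ = b := by
  have h1 : ∀ χ : IrrCharacter V, charDegree (χ : V → ℂ) = 1 := by
    intro χ
    haveI : Fact (Nat.Prime 3) := ⟨by norm_num⟩
    haveI : IsCyclic V := isCyclic_of_prime_card hV
    letI := IsCyclic.commGroup (α := V)
    exact (deg_one_iff χ).2 ((Char.comm_iff_all_linear.1 fun a b => mul_comm a b) χ)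
  have h := sum_deg_sq (V := V)
  simp only [h1, one_pow, Finset.sum_const, Finset.card_univ, smul_eq_mul, mul_one, hV] at h
  have hc : ((Finset.univ : Finset (IrrCharacter V)).erase (trivChar V)).card = 2 := by
    rw [Finset.card_erase_of_mem (Finset.mem_univ _), Finset.card_univ, h]
  obtain ⟨a, b, -, hab⟩ := Finset.card_eq_two.1 hc
  refine ⟨a, b, Finset.ne_of_mem_erase (hab ▸ Finset.mem_insert_self a {b}),
    Finset.ne_of_mem_erase (hab ▸ Finset.mem_insert_of_mem (Finset.mem_singleton_self b)), h1 a, h1 b, fun χ => ?_⟩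
  by_cases e : χ = trivChar V
  · exact Or.inl e
  · have := Finset.mem_erase.2 ⟨e, Finset.mem_univ χ⟩
    rw [hab, Finset.mem_insert, Finset.mem_singleton] at this
    exact Or.inr this

variable {G : Type u} [Group G] [Fintype G] [IsSimpleGroup G] [Fact (Nat.Prime 5)] [Fact (Nat.Prime 7)]
  (X : Ctx G) {Q : Sylow 5 G} {q : ℕ} {S5 : Small.Shape Q 4} {χA χa χB χE : IrrCharacter G}
  (hF : FiveFam Q q S5 χA χa χB χE) {P : Sylow 7 G} {c : ℕ} (S : Small.Shape P 6)
  (hP : Nat.card C[(P : Subgroup G)] = 7 * c)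
include X hF S hP

omit hF S hP in
/-- The sum of the products of the values at elements of order 11 and 23. -/
theorem cross_zero : ∑ χ : IrrCharacter G, v11 (dg χ) * w23 (dg χ) = 0 := by
  obtain ⟨y, -, -, hy, -⟩ := exists_inverter X
  haveI : Fact (Nat.Prime 11) := ⟨by norm_num⟩
  have hcol := (column_of_order_eleven X hy).1
  have hnc : ¬ IsConj X.x y := fun h => by
    obtain ⟨g, hg⟩ := isConj_iff.1 h
    have := orderOf_conj' g X.x
    rw [hg, hy, X.order] at this
    norm_num at this
  have h := Char.column_orthogonality X.x y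
  rw [if_neg hnc] at h
  have hm2 : X.ψ₂ ∈ (Finset.univ : Finset (IrrCharacter G)).erase X.ψ₁ :=
    Finset.mem_erase.2 ⟨X.exc.ne.symm, Finset.mem_univ _⟩
  have h' : ((∑ χ : IrrCharacter G, v11 (dg χ) * w23 (dg χ) : ℤ) : ℂ) =
      ∑ χ : IrrCharacter G, 2 * ((χ : G → ℂ) X.x * conj ((χ : G → ℂ) y)) := by
    push_cast
    rw [← Finset.add_sum_erase _ _ (Finset.mem_univ X.ψ₁), ← Finset.add_sum_erase _ _ hm2,
      ← Finset.add_sum_erase _ _ (Finset.mem_univ X.ψ₁), ← Finset.add_sum_erase _ _ hm2,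
      hcol X.ψ₁, hcol X.ψ₂, map_intCast, map_intCast, ← X.exc.deg,
      Finset.sum_congr rfl (g := fun χ : IrrCharacter G => 2 * ((χ : G → ℂ) X.x * conj ((χ : G → ℂ) y)))
        fun χ hχ => ?_]
    · linear_combination (-2 * (v11 (dg X.ψ₁) : ℂ)) * X.exc.sum
    · rw [hcol χ, map_intCast,
        ← X.exc.other χ (Finset.ne_of_mem_erase (Finset.mem_of_mem_erase hχ)) (Finset.ne_of_mem_erase hχ)]
      ring
  rw [← Finset.mul_sum, h, mul_zero] at h'
  exact_mod_cast h'

omit hF S hP in
theorem mem_degList (χ : IrrCharacter G) : dg χ ∈ degList := by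
  obtain ⟨y, -, -, hy, -⟩ := exists_inverter X
  haveI : Fact (Nat.Prime 11) := ⟨by norm_num⟩
  refine List.mem_filter.2 ⟨mem_dAll (X.dvd_ord χ), ?_⟩
  simp only [Bool.and_eq_true, Nat.ble_eq, r11, Bool.or_eq_true, beq_iff_eq]
  refine ⟨⟨X.sq_le χ, X.res χ⟩, ?_⟩
  rcases (column_of_order_eleven X hy).2 χ with h | h | h <;> omega

/-- The cofactor is not 3. -/
theorem not_three : c ≠ 3 := by
  rintro rfl
  obtain ⟨haZ, hsa⟩ := seven_member X hF S hP (by simp)
  obtain ⟨l, hl, hlv⟩ := family X hF S hP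
  rw [famsFor, if_neg (by norm_num)] at hl
  have hda : dg χa = 2024 := hF.2.2.2.2.1
  have h1 : dg (Small.one' G) = 1 := Small.charDegree_one'
  have hnc : ¬ IsCyclic G := Small.not_isCyclic_of_card (by rw [X.hcard]; norm_num)
  have hY0 : S.Y = {S.θ} := by
    refine Finset.eq_singleton_iff_unique_mem.2 ⟨S.θ_mem, fun w hw => ?_⟩
    exact Finset.card_le_one.1 (le_of_eq (show S.Y.card = 1 by rw [S.card_Y])) w hw _ S.θ_mem
  -- members of the family
  have hfam : ∀ χ ∈ S.Z, χ ≠ Small.one' G → v11 (dg χ) * w23 (dg χ) = 0 ∧ dg χ ≠ 540 := by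
    intro χ hχ hne
    by_cases e : χ = χa
    · rw [e, hda]; decide
    · have hm : sd S χ ∈ l := by
        rw [← Multiset.mem_coe, hlv]
        exact Multiset.mem_map_of_mem _ (Finset.mem_erase.2 ⟨e, Finset.mem_erase.2 ⟨hne, hχ⟩⟩)
      have h := List.all_eq_true.1 (List.all_eq_true.1 family_weight l hl) _ hm
      rw [sd_natAbs S hχ] at h
      simpa using h
  -- the roots
  set M := S.M with hMdef
  have hM : IsPModular 7 M := S.hM
  have hPc := S.card_P
  have hV : Nat.card (C[(P : Subgroup G)] ⧸ coreC P) = 3 := by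
    have h := (coreC P).card_eq_card_quotient_mul_card_subgroup
    rw [Nat.card_congr (Subgroup.subgroupOfEquivOfLe (le_centralizer_self hPc)).toEquiv, hPc, hP] at h
    omega
  obtain ⟨qa, qb, hqa, hqb, hqa1, hqb1, hall⟩ := roots_three hV
  set a := rootEquiv P qa with hadef
  set b := rootEquiv P qb with hbdef
  have had : charDegree (a.1 : C[(P : Subgroup G)] → ℂ) = 1 := by rw [hadef, deg_rootEquiv, hqa1]
  have hbd : charDegree (b.1 : C[(P : Subgroup G)] → ℂ) = 1 := by rw [hbdef, deg_rootEquiv, hqb1]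
  have hcases : ∀ θ : TrivOn (P : Subgroup G), θ = trivRoot P ∨ θ = a ∨ θ = b := by
    intro θ
    obtain ⟨w, rfl⟩ := (rootEquiv P).surjective θ
    rcases hall w with rfl | rfl | rfl
    · exact Or.inl (rootEquiv_triv P)
    · exact Or.inr (Or.inl rfl)
    · exact Or.inr (Or.inr rfl)
  have hat : a ≠ trivRoot P := by
    rw [hadef, ← rootEquiv_triv]; exact fun e => hqa ((rootEquiv P).injective e)
  have hbt : b ≠ trivRoot P := by
    rw [hbdef, ← rootEquiv_triv]; exact fun e => hqb ((rootEquiv P).injective e)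
  obtain ⟨R0⟩ := exists_rootBlock_fixed P hPc hM (trivRoot P) (fun g hg => conjRoot_triv P hg) S.relIndex_eq
  have hone0 : trivChar G ∈ R0.X ∪ R0.Y := Finset.mem_union.2 ((R0.mem_block _).1 (triv_mem hM P hPc R0))
  have hnot1 : ∀ {θ : TrivOn (P : Subgroup G)} {e r : ℕ}, θ ≠ trivRoot P →
      ∀ R : RootBlock 7 M (P : Subgroup G) θ.1 e r, ∀ χ ∈ R.X ∪ R.Y, dg χ ≠ 1 := by
    intro θ e r hθ R χ hχ hd
    have hd' : χ = trivChar G := by
      by_contra hne
      have := Small.two_le_charDegree hnc (show χ ≠ Small.one' G from hne)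
      change 2 ≤ dg χ at this
      omega
    exact Finset.disjoint_left.1 (disjoint_of_root P hPc hM R0 R fun g hg h =>
      hθ (conjRoot_injective P hg (h.trans (conjRoot_triv P hg).symm))) hone0 (hd' ▸ hχ)
  have hcover : ∀ χ : IrrCharacter G, ¬ 7 ∣ dg χ → χ ∈ S.Z ∨
      ∃ θ : TrivOn (P : Subgroup G), (θ = a ∨ θ = b) ∧
        IsInducedBlock M C[(P : Subgroup G)] (blockOf M (θ.1 : C[(P : Subgroup G)] → ℂ)) (blockOf M (χ : G → ℂ)) := by
    intro χ hχ
    obtain ⟨θ, hθ⟩ := exists_root hM P hPc hχ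
    rcases hcases θ with rfl | h | h
    · left
      obtain ⟨h0, -⟩ := principal_root hM (P := (P : Subgroup G)) P.2 (le_centralizer_self hPc)
      have h0' : IsInducedBlock M C[(P : Subgroup G)]
          (blockOf M ((trivRoot P).1 : C[(P : Subgroup G)] → ℂ)) (principalBlock M G) := h0
      have hm : χ ∈ principalBlock M G := isInducedBlock_unique hM hθ h0' ▸ self_mem_blockOf hM χ
      rcases (S.mem_block χ).1 hm with h | h
      · exact S.mem_Z.2 (Or.inr h)
      · rw [hY0, Finset.mem_singleton] at h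
        exact S.mem_Z.2 (Or.inl h)
    · exact Or.inr ⟨θ, Or.inl h, hθ⟩
    · exact Or.inr ⟨θ, Or.inr h, hθ⟩
  have hdata : ∀ χ : IrrCharacter G, (dg χ % 7 = 0 ∨ dg χ % 7 = 1 ∨ dg χ % 7 = 2 ∨ dg χ % 7 = 5 ∨ dg χ % 7 = 6) →
      dg χ ≠ 540 → 0 ≤ v11 (dg χ) * w23 (dg χ) := by
    intro χ hres hne
    have h := List.all_eq_true.1 three_check _ (mem_degList X χ)
    simp only [Bool.and_eq_true, Bool.or_eq_true, Bool.not_eq_true', decide_eq_true_eq, beq_iff_eq] at h
    rcases h.1 with (h' | h') | h'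
    · rcases hres with e | e | e | e | e <;> simp [e] at h'
    · exact absurd h' hne
    · exact h'
  have hw540 : v11 540 * w23 540 = -1 := by decide
  have hexc540 : ∀ χ, dg χ = 540 → χ = X.ψ₁ ∨ χ = X.ψ₂ := fun χ h => (X.exc.iff χ).1 (by rw [h]; decide)
  -- two members of degree 540 are needed
  have key : (∀ χ : IrrCharacter G, dg χ % 7 = 0 ∨ dg χ % 7 = 1 ∨ dg χ % 7 = 2 ∨ dg χ % 7 = 5 ∨ dg χ % 7 = 6) →
      dg X.ψ₁ = 540 := by
    intro hres
    by_contra hne
    have hno : ∀ χ : IrrCharacter G, dg χ ≠ 540 := fun χ h => by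
      rcases hexc540 χ h with rfl | rfl
      · exact hne h
      · exact hne (X.exc.deg.trans h)
    have h := cross_zero X
    rw [← Finset.add_sum_erase _ _ (Finset.mem_univ (Small.one' G)), h1, show v11 1 * w23 1 = 2 from rfl] at h
    have := Finset.sum_nonneg fun χ (_ : χ ∈ (Finset.univ : Finset (IrrCharacter G)).erase (Small.one' G)) =>
      hdata χ (hres χ) (hno χ)
    linarith
  by_cases hfix : RootFixed P a
  · -- three roots fixed: blocks with seven members of residues ±1
    have hfixb : RootFixed P b := by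
      intro g hg
      rcases hcases (conjRoot P hg b) with h | h | h
      · have hb : b = trivRoot P := conjRoot_injective P hg (h.trans (conjRoot_triv P hg).symm)
        rw [h, hb]
      · have hb : b = a := conjRoot_injective P hg (h.trans (hfix g hg).symm)
        rw [h, hb]
      · exact h
    have hblk : ∀ θ, θ = a ∨ θ = b → Nonempty (RootBlock 7 M (P : Subgroup G) θ.1 6 1) ∧
        charDegree (θ.1 : C[(P : Subgroup G)] → ℂ) = 1 := by
      rintro θ (rfl | rfl)
      exacts [⟨exists_rootBlock_fixed P hPc hM _ hfix S.relIndex_eq, had⟩,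
        ⟨exists_rootBlock_fixed P hPc hM _ hfixb S.relIndex_eq, hbd⟩]
    have hmemR : ∀ {θ : TrivOn (P : Subgroup G)}, charDegree (θ.1 : C[(P : Subgroup G)] → ℂ) = 1 →
        ∀ R : RootBlock 7 M (P : Subgroup G) θ.1 6 1, ∀ χ ∈ R.X ∪ R.Y,
          ∃ σ : ℤ, (σ = 1 ∨ σ = -1) ∧ (dg χ : ℤ) ≡ σ [ZMOD 7] := by
      intro θ hθ R χ hχ
      rcases Finset.mem_union.1 hχ with h | h
      · refine ⟨R.s χ, R.sign χ h, ?_⟩
        have := R.congX χ h
        rw [hθ] at this
        simpa using this
      · refine ⟨R.t, R.sign_t, ?_⟩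
        have := R.congY χ h
        rw [hθ] at this
        refine this.trans (Int.modEq_iff_dvd.2 ⟨R.t, ?_⟩)
        push_cast; ring
    have hres : ∀ χ : IrrCharacter G,
        dg χ % 7 = 0 ∨ dg χ % 7 = 1 ∨ dg χ % 7 = 2 ∨ dg χ % 7 = 5 ∨ dg χ % 7 = 6 := by
      intro χ
      by_cases h7 : 7 ∣ dg χ
      · left; exact Nat.mod_eq_zero_of_dvd h7
      rcases hcover χ h7 with h | ⟨θ, hθ, hθi⟩
      · have := sd_mod S h
        rw [sd, Int.modEq_iff_dvd] at this
        push_cast at this
        rcases S.sign χ h with e | e <;> rw [e] at this <;> omega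
      · obtain ⟨⟨R⟩, hd⟩ := hblk θ hθ
        obtain ⟨σ, hσ, hc⟩ := hmemR hd R χ
          (Finset.mem_union.2 ((R.mem_block χ).1 (mem_block_of_root P hPc hM R hθi)))
        rw [Int.modEq_iff_dvd] at hc
        rcases hσ with rfl | rfl <;> omega
    have h540 := key hres
    rcases hcover X.ψ₁ (by rw [h540]; norm_num) with h | ⟨θ, hθ, hθi⟩
    · exact (hfam _ h fun e => by rw [e, h1] at h540; norm_num at h540).2 h540
    obtain ⟨⟨R⟩, hd⟩ := hblk θ hθ
    have hθt : θ ≠ trivRoot P := by
      rcases hθ with rfl | rfl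
      exacts [hat, hbt]
    have hψ : X.ψ₁ ∈ R.X ∪ R.Y := Finset.mem_union.2 ((R.mem_block _).1 (mem_block_of_root P hPc hM R hθi))
    obtain ⟨u, hY⟩ := Finset.card_eq_one.1 (show R.Y.card = 1 by rw [R.card_Y])
    have hu : u ∈ R.Y := by rw [hY]; simp
    set σ : IrrCharacter G → ℤ := fun χ => if χ ∈ R.X then R.s χ else R.t with hσdef
    have hσc : ∀ χ ∈ R.X ∪ R.Y, (σ χ = 1 ∨ σ χ = -1) ∧ (dg χ : ℤ) ≡ σ χ [ZMOD 7] := by
      intro χ hχ
      by_cases h : χ ∈ R.X
      · refine ⟨by simp only [hσdef, if_pos h]; exact R.sign χ h, ?_⟩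
        have := R.congX χ h
        rw [hd] at this
        simpa [hσdef, h] using this
      · refine ⟨by simp only [hσdef, if_neg h]; exact R.sign_t, ?_⟩
        have := R.congY χ ((Finset.mem_union.1 hχ).resolve_left h)
        rw [hd] at this
        simp only [hσdef, if_neg h]
        refine this.trans (Int.modEq_iff_dvd.2 ⟨R.t, ?_⟩)
        push_cast; ring
    have hrel : ∑ χ ∈ R.X ∪ R.Y, (σ χ : ℂ) * (2 * (χ : G → ℂ) X.x) = 0 := by
      have h := R.rel u hu X.x (by rw [X.order]; norm_num)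
      rw [Finset.sum_congr rfl fun χ _ => mul_left_comm (σ χ : ℂ) 2 _, ← Finset.mul_sum,
        Finset.sum_union R.disj, hY, Finset.sum_singleton,
        Finset.sum_congr rfl fun χ hχ => show (σ χ : ℂ) * (χ : G → ℂ) X.x = (R.s χ : ℂ) * (χ : G → ℂ) X.x by
          simp [hσdef, hχ],
        show σ u = R.t from if_neg (Finset.disjoint_right.1 R.disj hu), h, mul_zero]
    have hψσ : σ X.ψ₁ = 1 := by
      obtain ⟨hs, hc⟩ := hσc _ hψ
      rw [h540, Int.modEq_iff_dvd] at hc
      rcases hs with e | e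
      · exact e
      · rw [e] at hc; norm_num at hc
    set T := ((R.X ∪ R.Y).erase X.ψ₁).erase X.ψ₂ with hT
    have hT0 : ∑ χ ∈ T, σ χ * w23 (dg χ) ≤ 0 := by
      refine Finset.sum_nonpos fun χ hχ => ?_
      have hχR : χ ∈ R.X ∪ R.Y := Finset.mem_of_mem_erase (Finset.mem_of_mem_erase hχ)
      have hne : isExc (dg χ) = false := by
        by_contra hh
        rw [Bool.not_eq_false] at hh
        rcases (X.exc.iff χ).1 hh with e | e
        · exact (Finset.ne_of_mem_erase (Finset.mem_of_mem_erase hχ)) e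
        · exact (Finset.ne_of_mem_erase hχ) e
      have hd1 := hnot1 hθt R χ hχR
      obtain ⟨hs, hc⟩ := hσc χ hχR
      have h := List.all_eq_true.1 three_check _ (mem_degList X χ)
      simp only [Bool.and_eq_true, Bool.or_eq_true, Bool.not_eq_true', decide_eq_true_eq, beq_iff_eq,
        hne, hd1, false_or, Bool.false_and, Bool.false_eq_true] at h
      rw [Int.modEq_iff_dvd] at hc
      rcases hs with e | e <;> rw [e] at hc ⊢
      · have h7 : dg χ % 7 = 1 := by omega
        have := h.2.1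
        simp [h7] at this
        linarith
      · have h7 : dg χ % 7 = 6 := by omega
        have := h.2.2
        simp [h7] at this
        linarith
    have hTsum : ∑ χ ∈ T, (σ χ : ℂ) * (2 * (χ : G → ℂ) X.x) = ((∑ χ ∈ T, σ χ * w23 (dg χ) : ℤ) : ℂ) := by
      push_cast
      refine Finset.sum_congr rfl fun χ hχ => ?_
      rw [X.exc.other χ (Finset.ne_of_mem_erase (Finset.mem_of_mem_erase hχ)) (Finset.ne_of_mem_erase hχ)]
    rw [← Finset.add_sum_erase _ _ hψ] at hrel
    by_cases h2 : X.ψ₂ ∈ R.X ∪ R.Y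
    · have hψσ2 : σ X.ψ₂ = 1 := by
        obtain ⟨hs, hc⟩ := hσc _ h2
        rw [← X.exc.deg, h540, Int.modEq_iff_dvd] at hc
        rcases hs with e | e
        · exact e
        · rw [e] at hc; norm_num at hc
      rw [← Finset.add_sum_erase _ _ (Finset.mem_erase.2 ⟨X.exc.ne.symm, h2⟩), ← hT, hTsum, hψσ, hψσ2] at hrel
      generalize ∑ χ ∈ T, σ χ * w23 (dg χ) = n at hT0 hrel
      have he : (((-2 : ℤ) + n : ℤ) : ℂ) = 0 := by
        have := X.exc.sum
        rw [h540, show w23 540 = -1 from rfl] at this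
        push_cast at this hrel ⊢
        linear_combination hrel - 2 * this
      have : (-2 : ℤ) + n = 0 := by exact_mod_cast he
      omega
    · have hT' : T = (R.X ∪ R.Y).erase X.ψ₁ := by
        rw [hT]; exact Finset.erase_eq_of_notMem fun h => h2 (Finset.mem_of_mem_erase h)
      rw [← hT', hTsum, hψσ] at hrel
      refine X.exc.irr₁ (-∑ χ ∈ T, σ χ * w23 (dg χ)) ?_
      generalize ∑ χ ∈ T, σ χ * w23 (dg χ) = n at hrel
      push_cast at hrel ⊢
      linear_combination hrel
  · -- two roots swapped: residues ±2, and an exceptional pair of residue ±1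
    obtain ⟨g₀, hg₀, hne⟩ : ∃ g, ∃ hg : g ∈ Subgroup.normalizer ((P : Subgroup G) : Set G), conjRoot P hg a ≠ a := by
      simpa [RootFixed] using hfix
    have htwo : ∀ g (hg : g ∈ Subgroup.normalizer ((P : Subgroup G) : Set G)),
        conjRoot P hg a = a ∨ conjRoot P hg a = b := by
      intro g hg
      rcases hcases (conjRoot P hg a) with h | h | h
      · exact absurd (conjRoot_injective P hg (h.trans (conjRoot_triv P hg).symm)) hat
      · exact Or.inl h
      · exact Or.inr h
    obtain ⟨R⟩ := exists_rootBlock_swap P hPc hM hg₀ hne htwo (e := 3) S.relIndex_eq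
    have hin : ∀ χ : IrrCharacter G, ¬ 7 ∣ dg χ → χ ∈ S.Z ∨ χ ∈ R.X ∨ χ ∈ R.Y := by
      intro χ h7
      rcases hcover χ h7 with h | ⟨θ, hθ, hθi⟩
      · exact Or.inl h
      · right
        refine (R.mem_block χ).1 (mem_block_of_root P hPc hM R ?_)
        rcases hθ with rfl | rfl
        · exact hθi
        · have hb : conjRoot P hg₀ a = b := (htwo g₀ hg₀).resolve_left hne
          have hh := induced_conjRoot P hPc hM R.induced hg₀
          rw [hb] at hh
          rw [isInducedBlock_unique hM hθi hh]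
          exact R.induced
    have hres : ∀ χ : IrrCharacter G,
        dg χ % 7 = 0 ∨ dg χ % 7 = 1 ∨ dg χ % 7 = 2 ∨ dg χ % 7 = 5 ∨ dg χ % 7 = 6 := by
      intro χ
      by_cases h7 : 7 ∣ dg χ
      · left; exact Nat.mod_eq_zero_of_dvd h7
      rcases hin χ h7 with h | h | h
      · have := sd_mod S h
        rw [sd, Int.modEq_iff_dvd] at this
        push_cast at this
        rcases S.sign χ h with e | e <;> rw [e] at this <;> omega
      · have : (dg χ : ℤ) ≡ _ [ZMOD ((7 : ℕ) : ℤ)] := R.congX χ h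
        rw [had, Int.modEq_iff_dvd] at this
        push_cast at this
        rcases R.sign χ h with e | e <;> rw [e] at this <;> omega
      · have : (dg χ : ℤ) ≡ _ [ZMOD ((7 : ℕ) : ℤ)] := R.congY χ h
        rw [had, Int.modEq_iff_dvd] at this
        push_cast at this
        rcases R.sign_t with e | e <;> rw [e] at this <;> omega
    have h540 := key hres
    rcases hin X.ψ₁ (by rw [h540]; norm_num) with h | h | h
    · exact (hfam _ h fun e => by rw [e, h1] at h540; norm_num at h540).2 h540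
    · have : (dg X.ψ₁ : ℤ) ≡ _ [ZMOD ((7 : ℕ) : ℤ)] := R.congX _ h
      rw [had, h540, Int.modEq_iff_dvd] at this
      push_cast at this
      rcases R.sign _ h with e | e <;> rw [e] at this <;> omega
    · obtain ⟨u, v, huv, hY⟩ := Finset.card_eq_two.1 (show R.Y.card = 2 by rw [R.card_Y])
      obtain ⟨w, hw, hwne⟩ : ∃ w ∈ R.Y, w ≠ X.ψ₁ := by
        by_cases hu : u = X.ψ₁
        · exact ⟨v, by rw [hY]; simp, fun e => huv (hu.trans e.symm)⟩
        · exact ⟨u, by rw [hY]; simp, hu⟩
      have hag := R.agree w hw X.ψ₁ h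
      have hdw := hag 1 (by simp)
      rw [apply_one_eq_charDegree, apply_one_eq_charDegree] at hdw
      have hdw' : dg w = 540 := h540 ▸ (by exact_mod_cast hdw)
      rcases hexc540 w hdw' with e | e
      · exact hwne e
      · have := hag X.x (by rw [X.order]; norm_num)
        rw [e] at this
        exact X.exc.val_ne this.symm

end Cfsg.Lib.MTwentyFour.Six
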