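import Cfsg.Agent.Lib.MTwentyFour.Six.RowValues
import Cfsg.Agent.Lib.MTwentyFour.Six.RowTests
import Cfsg.Agent.Lib.MTwentyFour.Six.Three
import Cfsg.Agent.Lib.MTwentyFour.Six.Central

/-!
The column at an element of order 5 and the projection on several columns.
-/

set_option autoImplicit false
set_option linter.style.haveILetI false
set_option linter.unusedSectionVars false
set_option maxHeartbeats 1000000

namespace Cfsg.Lib.MTwentyFour.Six

open Cfsg Cfsg.Lib Cfsg.Lib.Block Cfsg.Lib.MTwentyFour.Eleven Cfsg.Lib.MTwentyFour.Local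
open Cfsg.Lib.MTwentyFour.Search (ord24 v11 w23)
open scoped ComplexConjugate Classical

universe u

noncomputable local instance (priority := high) fintypeSubgroupColumns {A : Type u}
    [Group A] [Fintype A] (H : Subgroup A) : Fintype H := Fintype.ofFinite H

local notation "C[" P "]" => Subgroup.centralizer (SetLike.coe P)

section General

variable {G : Type u} [Group G] [Fintype G]

/-- With a full automizer all the nontrivial elements of a group of prime order are conjugate. -/
theorem pnt_conj {p : ℕ} [Fact p.Prime] {R : Sylow p G} {c : ℕ} (hR : Nat.card (R : Subgroup G) = p)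
    (hC : Nat.card C[(R : Subgroup G)] = p * c)
    (he : (C[(R : Subgroup G)]).relIndex (Subgroup.normalizer ((R : Subgroup G) : Set G)) = p - 1)
    {x y : G} (hx : x ∈ pnt R) (hy : y ∈ pnt R) : IsConj x y := by
  obtain ⟨hxR, hx1⟩ := mem_pnt.1 hx
  set N := Subgroup.normalizer ((R : Subgroup G) : Set G) with hN
  have horb := card_orbit N x
  rw [centralizer_singleton_eq hR hxR hx1, inf_eq_right.2 (Subgroup.centralizer_le_normalizer _), hC,
    card_normalizer hR hC he] at horb
  have hpos : 0 < p * c := hC ▸ Nat.card_pos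
  have hcard : ((Finset.univ.filter (· ∈ N)).image fun n => n * x * n⁻¹).card = p - 1 :=
    Nat.eq_of_mul_eq_mul_right hpos horb
  have himg : ((Finset.univ.filter (· ∈ N)).image fun n => n * x * n⁻¹) = pnt R := by
    refine Finset.eq_of_subset_of_card_le (fun z hz => ?_) (by rw [hcard, card_pnt hR])
    obtain ⟨n, hn, rfl⟩ := Finset.mem_image.1 hz
    exact mem_pnt.2 ⟨(Subgroup.mem_normalizer_iff.1 (Finset.mem_filter.1 hn).2 x).1 hxR,
      fun e => hx1 (conj_eq_one_iff.1 e)⟩
  rw [← himg] at hy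
  obtain ⟨n, -, rfl⟩ := Finset.mem_image.1 hy
  exact isConj_iff.2 ⟨n, rfl⟩

theorem dot_cons (a b : ℤ) (as bs : List ℤ) : dot (a :: as) (b :: bs) = a * b + dot as bs := rfl

theorem dot_nil_right : ∀ u : List ℤ, dot u [] = 0
  | [] => rfl
  | _ :: _ => rfl

theorem sum_cross {ι : Type*} [Fintype ι] (f : ι → ℤ) : ∀ (cols : List ((ι → ℤ) × ℤ)) (u : List ℤ),
    (∀ c ∈ cols, ∑ i, f i * c.1 i = 0) → ∑ i, f i * dot u (cols.map fun c => c.1 i) = 0
  | [], u, _ => by simp [dot_nil_right]
  | _ :: _, [], _ => by simp [dot]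
  | c :: cols, a :: u, h => by
    have h1 := h c (by simp)
    have h2 := sum_cross f cols u fun d hd => h d (by simp [hd])
    simp only [List.map_cons, dot_cons, mul_add, Finset.sum_add_distrib, h2, add_zero]
    rw [Finset.sum_congr rfl (g := fun i => a * (f i * c.1 i)) fun i _ => by ring, ← Finset.mul_sum, h1, mul_zero]

/-- The squared length of a combination of orthogonal columns. -/
theorem sum_comb {ι : Type*} [Fintype ι] : ∀ (cols : List ((ι → ℤ) × ℤ)) (u : List ℤ),
    (∀ c ∈ cols, ∑ i, c.1 i * c.1 i = c.2) → cols.Pairwise (fun c d => ∑ i, c.1 i * d.1 i = 0) →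
    ∑ i, dot u (cols.map fun c => c.1 i) * dot u (cols.map fun c => c.1 i) =
      dot (u.map fun a => a * a) (cols.map Prod.snd)
  | [], u, _, _ => by simp [dot_nil_right]
  | _ :: _, [], _, _ => by simp [dot]
  | c :: cols, a :: u, h, hp => by
    obtain ⟨hp1, hp2⟩ := List.pairwise_cons.1 hp
    have h2 := sum_comb cols u (fun d hd => h d (by simp [hd])) hp2
    have h3 := sum_cross c.1 cols u hp1
    simp only [List.map_cons, dot_cons]
    rw [← h2, ← h c (by simp)]
    have : ∀ i, (a * c.1 i + dot u (cols.map fun d => d.1 i)) * (a * c.1 i + dot u (cols.map fun d => d.1 i)) =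
        a * a * (c.1 i * c.1 i) + 2 * a * (c.1 i * dot u (cols.map fun d => d.1 i)) +
          dot u (cols.map fun d => d.1 i) * dot u (cols.map fun d => d.1 i) := fun i => by ring
    rw [Finset.sum_congr rfl fun i _ => this i, Finset.sum_add_distrib, Finset.sum_add_distrib,
      ← Finset.mul_sum, ← Finset.mul_sum, h3, mul_zero, add_zero]

/-- Points of orthogonal columns never contradict the inequality. -/
theorem not_bessel {ι : Type*} [Fintype ι] [DecidableEq ι] (cols : List ((ι → ℤ) × ℤ)) (K : List ι) (hK : K.Nodup)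
    (hn : ∀ c ∈ cols, ∑ i, c.1 i * c.1 i = c.2) (hp : cols.Pairwise (fun c d => ∑ i, c.1 i * d.1 i = 0))
    (us : List (List ℤ)) :
    bessel (cols.map Prod.snd) (K.map fun i => cols.map fun c => c.1 i) us = false := by
  rw [Bool.eq_false_iff]
  intro h
  simp only [bessel, List.any_eq_true, decide_eq_true_eq] at h
  obtain ⟨u, -, hlt⟩ := h
  rw [← sum_comb cols u hn hp, List.map_map] at hlt
  refine absurd hlt (not_lt.2 ?_)
  rw [← List.sum_toFinset _ hK]
  exact Finset.sum_le_sum_of_subset_of_nonneg (Finset.subset_univ _) fun _ _ _ => mul_self_nonneg _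

/-- Orthogonality of integral columns. -/
theorem col_orth {g h : G} (hconj : ¬ IsConj g h) (f f' : IrrCharacter G → ℤ)
    (hf : ∀ χ : IrrCharacter G, (χ : G → ℂ) g = f χ) (hf' : ∀ χ : IrrCharacter G, (χ : G → ℂ) h = f' χ) :
    ∑ χ : IrrCharacter G, f χ * f' χ = 0 := by
  have hc := Char.column_orthogonality g h
  rw [if_neg hconj] at hc
  have : ((∑ χ : IrrCharacter G, f χ * f' χ : ℤ) : ℂ) = 0 := by
    rw [Int.cast_sum, ← hc]
    exact Finset.sum_congr rfl fun χ _ => by rw [Int.cast_mul, hf, hf', map_intCast]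
  exact_mod_cast this

theorem col_norm {g : G} (f : IrrCharacter G → ℤ) (hf : ∀ χ : IrrCharacter G, (χ : G → ℂ) g = f χ) :
    ∑ χ : IrrCharacter G, f χ * f χ = (Nat.card (Subgroup.centralizer ({g} : Set G)) : ℤ) := by
  have hc := Char.column_orthogonality g g
  rw [if_pos (IsConj.refl g)] at hc
  have : ((∑ χ : IrrCharacter G, f χ * f χ : ℤ) : ℂ) =
      ((Nat.card (Subgroup.centralizer ({g} : Set G)) : ℤ) : ℂ) := by
    rw [Int.cast_sum, Int.cast_natCast, ← hc]
    exact Finset.sum_congr rfl fun χ _ => by rw [Int.cast_mul, hf, map_intCast]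
  exact_mod_cast this

theorem not_conj_of_order {g h : G} (hne : orderOf g ≠ orderOf h) : ¬ IsConj g h := fun hc => by
  obtain ⟨c, rfl⟩ := isConj_iff.1 hc
  exact hne (orderOf_conj' c g).symm

theorem not_conj_of_card {g h : G} (hne : Nat.card (Subgroup.centralizer ({g} : Set G)) ≠
    Nat.card (Subgroup.centralizer ({h} : Set G))) : ¬ IsConj g h := fun hc => by
  obtain ⟨c, rfl⟩ := isConj_iff.1 hc
  exact hne (card_cent_conj c g).symm

end General

variable {G : Type u} [Group G] [Fintype G] [IsSimpleGroup G] [Fact (Nat.Prime 5)] [Fact (Nat.Prime 7)]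
  (X : Ctx G) {Q : Sylow 5 G} {q : ℕ} {S5 : Small.Shape Q 4} {χA χa χB χE : IrrCharacter G}
  (hF : FiveFam Q q S5 χA χa χB χE) {P : Sylow 7 G} (S : Small.Shape P 6)
  (hP : Nat.card C[(P : Subgroup G)] = 7 * 24)
  {L : List (IrrCharacter G)} (hL : FamList S χa L)
include X hF S hP hL

omit S hP hL in
/-- The column at a generator of `Q`. -/
theorem exists_five_column : ∃ w : G, w ∈ pnt Q ∧ orderOf w = 5 ∧
    Subgroup.centralizer ({w} : Set G) = C[(Q : Subgroup G)] ∧
    ∀ χ : IrrCharacter G, (χ : G → ℂ) w = (MTwentyTwo.intVal w χ : ℂ) := by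
  obtain ⟨⟨w, hwQ⟩, hwo⟩ := exists_prime_orderOf_dvd_card' (G := (Q : Subgroup G)) 5 (by rw [S5.card_P])
  rw [Subgroup.orderOf_mk] at hwo
  have hw1 : w ≠ 1 := fun e => by rw [e, orderOf_one] at hwo; norm_num at hwo
  refine ⟨w, mem_pnt.2 ⟨hwQ, hw1⟩, hwo, centralizer_singleton_eq S5.card_P hwQ hw1,
    fun χ => (MTwentyTwo.cast_intVal_of ?_).symm⟩
  refine Char.exists_int_of_pow_invariant χ.2.isCharacter w fun k hk => ?_
  have hk5 : ¬ 5 ∣ k := fun h => by
    have h1 : 5 ∣ Nat.gcd k (Nat.card G) := Nat.dvd_gcd h (X.hcard ▸ by norm_num)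
    rw [hk] at h1
    norm_num at h1
  have hwk : w ^ k ∈ pnt Q := mem_pnt.2 ⟨pow_mem hwQ k, fun e => hk5 (hwo ▸ orderOf_dvd_of_pow_eq_one e)⟩
  obtain ⟨g, hg⟩ := isConj_iff.1 (pnt_conj S5.card_P hF.1 S5.relIndex_eq (mem_pnt.2 ⟨hwQ, hw1⟩) hwk)
  rw [← hg, χ.2.isCharacter.conj_invariant]

variable {w : G} (hw : w ∈ pnt Q) (hwI : ∀ χ : IrrCharacter G, (χ : G → ℂ) w = (MTwentyTwo.intVal w χ : ℂ))
include hw hwI

omit S hP hL hwI in
theorem w_order : orderOf w = 5 := orderOf_of_mem S5.card_P (mem_pnt.1 hw).1 (mem_pnt.1 hw).2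

omit S hP hL in
/-- The named values at `w`. -/
theorem w_named : MTwentyTwo.intVal w (Small.one' G) = 1 ∧ MTwentyTwo.intVal w χA = 1 ∧
    MTwentyTwo.intVal w χa = -1 ∧ MTwentyTwo.intVal w χB = -1 ∧ MTwentyTwo.intVal w χE = 1 := by
  have hsing : w ∈ sing Q := mem_sing.2 ⟨le_centralizer_self S5.card_P (mem_pnt.1 hw).1,
    (w_order X hF hw) ▸ dvd_rfl⟩
  obtain ⟨hQ, -, -, -, -, -, -, hZ, sA, sa, sB, sE⟩ := hF
  haveI : Fact (Nat.Prime 11) := ⟨by norm_num⟩
  have hv : ∀ χ ∈ S5.Z, MTwentyTwo.intVal w χ = S5.σ χ := fun χ hχ =>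
    MTwentyTwo.intVal_eq (val_full S5 (by norm_num) hQ hχ hsing)
  refine ⟨MTwentyTwo.intVal_eq (by rw [Small.one'_apply]; norm_num), ?_, ?_, ?_, ?_⟩
  · rw [hv χA (by simp [hZ]), sA]
  · rw [hv χa (by simp [hZ]), sa]
  · rw [hv χB (by simp [hZ]), sB]
  · rw [hv χE (by simp [hZ]), sE]

omit S hP hL in
theorem w_zero {χ : IrrCharacter G} (h : 5 ∣ dg χ) : MTwentyTwo.intVal w χ = 0 :=
  MTwentyTwo.intVal_eq (by
    rw [value_zero (fac_five X) χ h (show 5 ∣ orderOf w by rw [w_order X hF hw]), Int.cast_zero])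

omit S hP hL in
theorem w_mod (χ : IrrCharacter G) : (5 : ℤ) ∣ MTwentyTwo.intVal w χ - (dg χ : ℤ) := by
  refine int_dvd_of_memLocalIdeal S5.hM ?_
  have h := charVal_sub_pReg_mem (p := 5) S5.hM χ.2.isCharacter w
  rw [show pReg 5 w = 1 from (eq_pReg (mul_one w) (Commute.one_right w) (k := 1)
    (by rw [pow_one, w_order X hF hw]) (by simp)).symm, hwI, apply_one_eq_charDegree] at h
  push_cast
  exact h

omit hwI in
theorem w_rel (hwI : ∀ χ : IrrCharacter G, (χ : G → ℂ) w = (MTwentyTwo.intVal w χ : ℂ)) :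
    (L.map fun χ => S.σ χ * MTwentyTwo.intVal w χ).sum = 0 := by
  obtain ⟨h1, -, ha, -, -⟩ := w_named X hF hw hwI
  obtain ⟨-, hsa, -⟩ := named_facts X hF S hP
  have h := S.rel w (by rw [w_order X hF hw]; norm_num)
  have h' : ((∑ χ ∈ S.Z, S.σ χ * MTwentyTwo.intVal w χ : ℤ) : ℂ) = 0 := by
    rw [Int.cast_sum, ← h]
    exact Finset.sum_congr rfl fun χ _ => by rw [Int.cast_mul, hwI]
  have h'' : ∑ χ ∈ S.Z, S.σ χ * MTwentyTwo.intVal w χ = 0 := by exact_mod_cast h'
  rw [sum_list X hF S hP hL, S.sign_one, hsa, h1, ha] at h''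
  linarith

/-- The signed values at `w` are in the list. -/
theorem mem_xlist : (L.map fun χ => S.σ χ * MTwentyTwo.intVal w χ) ∈ xlist (L.map (sd S)) q := by
  have hwC : Nat.card (Subgroup.centralizer ({w} : Set G)) = 5 * q := by
    rw [centralizer_singleton_eq S5.card_P (mem_pnt.1 hw).1 (mem_pnt.1 hw).2, hF.1]
  obtain ⟨h1, hA, ha, hB, hE⟩ := w_named X hF hw hwI
  have hsq : 5 + ((L.map fun χ => S.σ χ * MTwentyTwo.intVal w χ).map fun x => x * x).sum ≤ ((5 * q : ℕ) : ℤ) := by
    rw [← hwC, ← col_norm (MTwentyTwo.intVal w) hwI]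
    refine le_trans (le_of_eq ?_) (Finset.sum_le_sum_of_subset_of_nonneg
      (s := ([Small.one' G, χA, χB, χa, χE] ++ L).toFinset) (Finset.subset_univ _) fun _ _ _ => mul_self_nonneg _)
    rw [List.sum_toFinset _ (known_nodup X hF S hP hL), List.map_append, List.sum_append, List.map_map]
    congr 1
    · simp [h1, hA, ha, hB, hE]
    · refine congrArg List.sum (List.map_congr_left fun χ hχ => ?_)
      simp only [Function.comp_apply]
      rcases S.sign χ (fam_facts X hF S hP hL hχ).1 with h | h <;> rw [h] <;> ring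
  have hrel := w_rel X hF S hP hL hw hwI
  have hne : L ≠ [] := fun e => by
    have h := card_five X hF S hP
    rw [← show L.toFinset = five (χa := χa) S from Finset.ext fun χ => by rw [List.mem_toFinset, hL.2], e] at h
    simp at h
  have hL' := (List.dropLast_append_getLast hne).symm
  have hlast : L.getLast hne ∈ L := List.getLast_mem hne
  set χl := L.getLast hne
  set K := L.dropLast
  have hone : ∀ χ ∈ L, let x := S.σ χ * MTwentyTwo.intVal w χ
      (if sd S χ % 5 == 0 then x == 0 else decide (x * x ≤ 5 * (q : ℤ) - 5) && (x - sd S χ) % 5 == 0) = true ∧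
        x * x ≤ 5 * (q : ℤ) - 5 := by
    intro χ hχ x
    have hZ := (fam_facts X hF S hP hL hχ).1
    have hxx : x * x ≤ 5 * (q : ℤ) - 5 := by
      have h2 : x * x ≤ ((L.map fun χ => S.σ χ * MTwentyTwo.intVal w χ).map fun x => x * x).sum :=
        List.single_le_sum (fun y hy => by obtain ⟨z, -, rfl⟩ := List.mem_map.1 hy; exact mul_self_nonneg z) _
          (List.mem_map.2 ⟨x, List.mem_map.2 ⟨χ, hχ, rfl⟩, rfl⟩)
      push_cast at hsq
      linarith
    refine ⟨?_, hxx⟩
    simp only [beq_iff_eq]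
    split_ifs with h5
    · have h5' : 5 ∣ dg χ := by
        have := Int.natAbs_dvd_natAbs.2 (Int.dvd_of_emod_eq_zero h5)
        rwa [sd_natAbs S hZ] at this
      rw [beq_iff_eq]
      simp only [x, w_zero X hF hw hwI h5', mul_zero]
    · simp only [Bool.and_eq_true, decide_eq_true_eq, beq_iff_eq]
      refine ⟨hxx, Int.emod_eq_zero_of_dvd ?_⟩
      simp only [x, sd, ← mul_sub]
      exact dvd_mul_of_dvd_right (w_mod X hF hw hwI χ) _
  simp only [xlist]
  rw [show (L.map (sd S)).reverse = sd S χl :: (K.map (sd S)).reverse by rw [hL']; simp]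
  simp only [List.reverse_reverse]
  rw [show (L.map fun χ => S.σ χ * MTwentyTwo.intVal w χ) =
    K.map (fun χ => S.σ χ * MTwentyTwo.intVal w χ) ++ [S.σ χl * MTwentyTwo.intVal w χl] by rw [hL']; simp]
  refine mem_dfs _ _ _ _ _ _ ?_ (hone χl hlast).1 ?_ ?_
  · rw [List.forall₂_map_left_iff, List.forall₂_map_right_iff, List.forall₂_map_right_iff, List.forall₂_same]
    intro χ hχ
    obtain ⟨hok, hxx⟩ := hone χ (by rw [hL']; exact List.mem_append_left _ hχ)
    refine List.mem_filter.2 ⟨List.mem_map.2 ⟨(S.σ χ * MTwentyTwo.intVal w χ + 31).toNat, List.mem_range.2 ?_, ?_⟩, hok⟩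
    · have hq : (q : ℤ) ≤ 192 := by
        have := q_mem X hF S hP
        simp only [List.mem_cons, List.not_mem_nil, or_false] at this
        omega
      generalize S.σ χ * MTwentyTwo.intVal w χ = x at hxx
      have h1 : -31 ≤ x := by nlinarith
      have h2 : x ≤ 31 := by nlinarith
      omega
    · have hq : (q : ℤ) ≤ 192 := by
        have := q_mem X hF S hP
        simp only [List.mem_cons, List.not_mem_nil, or_false] at this
        omega
      generalize S.σ χ * MTwentyTwo.intVal w χ = x at hxx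
      have h1 : -31 ≤ x := by nlinarith
      rw [Int.toNat_of_nonneg (by omega)]
      ring
  · rw [hL'] at hrel
    simpa using hrel
  · rw [hL'] at hsq
    simp at hsq ⊢
    linarith

variable {v : G} (hv : orderOf v = 2)
include hv

/-- The products with `w` singular at 7. -/
theorem hits_five : ((hits 7 v w).card : ℤ) * ((Nat.card (Subgroup.centralizer ({v} : Set G)) : ℕ) : ℤ) *
      (lc (L.map (sd S)) : ℤ) =
    cxNum (L.map (sd S)) (rowT S χA χa χB χE L v) (L.map fun χ => S.σ χ * MTwentyTwo.intVal w χ) := by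
  obtain ⟨h1, -, ha, -, -⟩ := w_named X hF hw hwI
  have hcount := hits_count S.card_P S hP
    (MTwentyTwo.not_dvd_orderOf (G := G) Fact.out (by norm_num) hv) (g := w) (by rw [w_order X hF hw]; norm_num)
  have hv1 : MTwentyTwo.intVal v (Small.one' G) = 1 := MTwentyTwo.intVal_eq (by rw [Small.one'_apply]; norm_num)
  have hsp := sum_pair X hF S hP hL (MTwentyTwo.intVal v) (MTwentyTwo.intVal w) hv1
  simp only [h1, ha, mul_one] at hsp
  rw [card24 X] at hcount
  simp only [cast_val X hv, hwI, MEleven.apply_one] at hcount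
  apply Int.cast_injective (α := ℂ)
  simp only [cxNum, rowT, show (su S v : IrrCharacter G → ℤ) = fun χ => S.σ χ * MTwentyTwo.intVal v χ from rfl]
  rw [sub_eq_add_neg (lc (L.map (sd S)) : ℤ), ← mul_neg]
  rw [mul_neg_one] at hsp
  push_cast at hcount hsp ⊢
  linear_combination ((lc (L.map (sd S)) : ℕ) : ℂ) / 42 * hcount - (34974720 : ℂ) * hsp

/-- The count at 7 is divisible by the order of the Sylow subgroups acting. -/
theorem cx_ok (hJ : NoJ G) :
    cxOk (L.map (sd S)) q (rowT S χA χa χB χE L v) (L.map fun χ => S.σ χ * MTwentyTwo.intVal w χ) = true := by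
  haveI : Fact (Nat.Prime 2) := ⟨Nat.prime_two⟩
  have hh := hits_five X hF S hP hL hw hwI hv
  obtain ⟨hwQ, hw1⟩ := mem_pnt.1 hw
  have hwo := w_order X hF hw
  have h5 : 5 ∣ (hits 7 v w).card := by
    rw [← S5.card_P]
    refine card_dvd_of_free (Q : Subgroup G) _ (fun u hu a ha => ?_) fun u hu a ha hc => ?_
    · have hux : u * w * u⁻¹ = w := by
        rw [Subgroup.mem_centralizer_iff.1 (le_centralizer_self S5.card_P hu) w hwQ |>.symm, mul_inv_cancel_right]
      simp only [hits, Finset.mem_filter, Char.mem_classFinset] at ha ⊢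
      refine ⟨ha.1.trans (isConj_iff.2 ⟨u, rfl⟩), ?_⟩
      rw [show u * a * u⁻¹ * w = u * a * u⁻¹ * (u * w * u⁻¹) by rw [hux],
        show u * a * u⁻¹ * (u * w * u⁻¹) = u * (a * w) * u⁻¹ by group, orderOf_conj']
      exact ha.2
    · by_contra hu1
      obtain ⟨-, k, hk⟩ := Finset.mem_filter.1 ha
      have hk0 : k ≠ 0 := fun h => by rw [h, mul_zero] at hk; exact (orderOf_pos (a * w)).ne' hk
      have hro : orderOf ((a * w) ^ k) = 7 := by
        rw [orderOf_pow_of_dvd hk0 ⟨7, by rw [hk, mul_comm]⟩, hk, Nat.mul_div_cancel _ (Nat.pos_of_ne_zero hk0)]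
      have hur : Commute u ((a * w) ^ k) := ((hc.mul_right (show Commute u w from
        (Subgroup.mem_centralizer_iff.1 (le_centralizer_self S5.card_P hu) w hwQ).symm))).pow_right k
      have hmem : (a * w) ^ k ∈ C[(Q : Subgroup G)] := by
        rw [← centralizer_singleton_eq S5.card_P hu hu1]
        exact Subgroup.mem_centralizer_singleton_iff.2 hur.eq.symm
      have h7' := Subgroup.orderOf_dvd_natCard _ hmem
      rw [hro, hF.1] at h7'
      exact hF.2.2.1 (Nat.Coprime.dvd_of_dvd_mul_left (by norm_num) h7')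
  have hq := q_mem X hF S hP
  simp only [List.mem_cons, List.not_mem_nil, or_false] at hq
  obtain ⟨n, hn, hnq⟩ : ∃ n, uFive q = 5 * 2 ^ n ∧ 2 ^ n ∣ q := by
    rcases hq with e | e | e | e <;> rw [e]
    exacts [⟨1, rfl, by norm_num⟩, ⟨2, rfl, by norm_num⟩, ⟨5, rfl, by norm_num⟩, ⟨6, rfl, by norm_num⟩]
  obtain ⟨U, hU⟩ := Sylow.exists_subgroup_card_pow_prime (G := C[(Q : Subgroup G)]) 2 (n := n)
    (by rw [hF.1]; exact dvd_mul_of_dvd_right hnq 5)
  have hU' : Nat.card (U.map C[(Q : Subgroup G)].subtype) = 2 ^ n := by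
    rw [Subgroup.card_map_of_injective (Subgroup.subtype_injective _), hU]
  have h2 : 2 ^ n ∣ (hits 7 v w).card := by
    by_contra hno
    obtain ⟨j, r, hj, hjw, hr, hjr⟩ := exists_common (U.map C[(Q : Subgroup G)].subtype)
      (IsPGroup.of_card (n := n) hU') (q := 7) (v := v) (g := w)
      (fun u hu => by
        obtain ⟨u', -, rfl⟩ := hu
        exact (Subgroup.mem_centralizer_iff.1 u'.2 w hwQ).symm)
      (by rw [hU']; exact hno)
    refine hJ j hj ?_
    have a5 : 5 ∣ Nat.card (Subgroup.centralizer ({j} : Set G)) :=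
      hwo ▸ Subgroup.orderOf_dvd_natCard _ (Subgroup.mem_centralizer_singleton_iff.2 hjw.eq.symm)
    have a7 : 7 ∣ Nat.card (Subgroup.centralizer ({j} : Set G)) :=
      hr ▸ Subgroup.orderOf_dvd_natCard _ (Subgroup.mem_centralizer_singleton_iff.2 hjr.eq.symm)
    exact Nat.Coprime.mul_dvd_of_dvd_of_dvd (by norm_num : Nat.Coprime 5 7) a5 a7
  have hdvd : uFive q ∣ (hits 7 v w).card := by
    rw [hn]
    exact Nat.Coprime.mul_dvd_of_dvd_of_dvd (Nat.Coprime.pow_right _ (by norm_num)) h5 h2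
  simp only [cxOk, Bool.and_eq_true, decide_eq_true_eq, beq_iff_eq, ← hh]
  refine ⟨by positivity, Int.emod_eq_zero_of_dvd ?_⟩
  simp only [rowT]
  push_cast
  rw [mul_comm ((Nat.card (Subgroup.centralizer ({v} : Set G)) : ℕ) : ℤ) (lc (L.map (sd S)) : ℤ), mul_assoc ((hits 7 v w).card : ℤ),
    mul_comm ((lc (L.map (sd S)) : ℤ) * _), mul_comm ((Nat.card (Subgroup.centralizer ({v} : Set G)) : ℕ) : ℤ) (lc (L.map (sd S)) : ℤ)]
  exact mul_dvd_mul_right (Int.natCast_dvd_natCast.2 hdvd) _

end Cfsg.Lib.MTwentyFour.Six
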