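import Cfsg.Agent.Lib.MTwentyFour.Six.FamilyChecks
import Cfsg.Agent.Lib.MTwentyFour.Local.SevenFamily

/-!
The principal family at 7 when the automizer there has order 6.
-/

set_option autoImplicit false
set_option linter.style.haveILetI false
set_option linter.unusedSectionVars false
set_option maxHeartbeats 1000000

namespace Cfsg.Lib.MTwentyFour.Six

open Cfsg Cfsg.Lib Cfsg.Lib.Block Cfsg.Lib.MTwentyFour.Eleven Cfsg.Lib.MTwentyFour.Local
open Cfsg.Lib.MTwentyFour.Search (ord24)
open scoped ComplexConjugate Classical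

universe u

noncomputable local instance (priority := high) fintypeSubgroupSix {A : Type u}
    [Group A] [Fintype A] (H : Subgroup A) : Fintype H := Fintype.ofFinite H

local notation "C[" P "]" => Subgroup.centralizer (SetLike.coe P)

variable {G : Type u} [Group G] [Fintype G] [IsSimpleGroup G] [Fact (Nat.Prime 5)] [Fact (Nat.Prime 7)]
  (X : Ctx G) {Q : Sylow 5 G} {q : ℕ} {S5 : Small.Shape Q 4} {χA χa χB χE : IrrCharacter G}
  (hF : FiveFam Q q S5 χA χa χB χE) {P : Sylow 7 G} {c : ℕ} (S : Small.Shape P 6)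
  (hP : Nat.card C[(P : Subgroup G)] = 7 * c)
include X hF S hP

omit X hF hP in
/-- All members of the family have signed degree one modulo 7. -/
theorem sd_mod {χ : IrrCharacter G} (hχ : χ ∈ S.Z) : sd S χ ≡ ((1 : ℕ) : ℤ) [ZMOD 7] := by
  rcases S.mem_Z.1 hχ with rfl | h
  · exact sd_modEq_θ S
  · exact sd_modEq_X S h

omit X hF in
/-- The values on the singular elements of the centralizer. -/
theorem val_one {χ : IrrCharacter G} (hχ : χ ∈ S.Z) {h : G} (hh : h ∈ sing P) :
    (χ : G → ℂ) h = (S.σ χ : ℂ) := by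
  rcases S.mem_Z.1 hχ with rfl | hX
  · have hY : S.Y = {S.θ} := by
      refine Finset.eq_singleton_iff_unique_mem.2 ⟨S.θ_mem, fun w hw => ?_⟩
      exact Finset.card_le_one.1 (le_of_eq (show S.Y.card = 1 by rw [S.card_Y])) w hw _ S.θ_mem
    have := sum_Y_sing S.card_P S hP hh
    rwa [hY, Finset.sum_singleton] at this
  · exact val_sing S.card_P S hP hX hh

omit hF in
theorem deg_dvd {χ : IrrCharacter G} (hχ : χ ∈ S.Z) : dg χ * c ∣ 34974720 := by
  obtain ⟨m, hm⟩ : 7 * c ∣ 244823040 := hP ▸ card24 X ▸ Subgroup.card_subgroup_dvd_card _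
  have hcm : c * m = 34974720 := by
    rw [mul_assoc] at hm
    omega
  rw [← hcm, mul_comm (dg χ)]
  exact Nat.mul_dvd_mul_left _ (deg_dvd_mul S hP hχ (m := m) (by rw [card24 X, hm]))

omit hF in
theorem deg_dvd_div {χ : IrrCharacter G} (hχ : χ ∈ S.Z) : dg χ ∣ 34974720 / c := by
  have h := deg_dvd X S hP hχ
  exact Nat.dvd_div_of_mul_dvd (by rwa [mul_comm] at h)

/-- The cofactor at 7. -/
theorem cof : c = 3 ∨ c = 24 ∨ c = 192 := by
  obtain ⟨haZ, -⟩ := seven_member X hF S hP (by simp)
  obtain ⟨hQ, -, h7q, -, da, -, -, -, -, -, -, -⟩ := hF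
  have h1 := deg_dvd X S hP haZ
  rw [da, show (34974720 : ℕ) = 2024 * 17280 by norm_num] at h1
  have h17 : c ∣ 17280 := Nat.dvd_of_mul_dvd_mul_left (by norm_num) h1
  have hN := card_normalizer S.card_P hP S.relIndex_eq
  have hidx : (Subgroup.normalizer ((P : Subgroup G) : Set G)).index % 7 = 1 := by
    have h := card_sylow_modEq_one 7 G
    rw [P.card_eq_index_normalizer] at h
    exact h
  have hmul := (Subgroup.normalizer ((P : Subgroup G) : Set G)).card_mul_index
  rw [hN, card24 X] at hmul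
  generalize (Subgroup.normalizer ((P : Subgroup G) : Set G)).index = n at hidx hmul
  have hcn : c * n = 5829120 := by
    rw [show 6 * (7 * c) * n = 42 * (c * n) by ring] at hmul
    omega
  have hc3 : c % 7 = 3 := by
    have h : c * n % 7 = 5829120 % 7 := by rw [hcn]
    rw [Nat.mul_mod, hidx, mul_one, Nat.mod_mod] at h
    simpa using h
  have h5 : ¬ 5 ∣ c := by
    intro h5
    obtain ⟨⟨g, hgC⟩, hg⟩ := exists_prime_orderOf_dvd_card' (G := C[(P : Subgroup G)]) 5
      (by rw [hP]; exact dvd_mul_of_dvd_right h5 _)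
    rw [Subgroup.orderOf_mk] at hg
    obtain ⟨⟨x, hxP⟩, hx⟩ := exists_prime_orderOf_dvd_card' (G := (P : Subgroup G)) 7 (by rw [S.card_P])
    rw [Subgroup.orderOf_mk] at hx
    obtain ⟨R, hR, hgR, hg1⟩ := exists_sylow (q := 5) (X.hcard ▸ by norm_num) (X.hcard ▸ by norm_num) hg
    have hxR : x ∈ C[(R : Subgroup G)] := by
      rw [← centralizer_singleton_eq hR hgR hg1]
      exact Subgroup.mem_centralizer_singleton_iff.2 (Subgroup.mem_centralizer_iff.1 hgC x hxP)
    obtain ⟨a, ha⟩ := MulAction.exists_smul_eq G R Q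
    have hxQ : a * x * a⁻¹ ∈ C[(Q : Subgroup G)] := by
      refine Subgroup.mem_centralizer_iff.2 fun w hw => ?_
      rw [← ha] at hw
      obtain ⟨w', hw', rfl⟩ := hw
      have hc := Subgroup.mem_centralizer_iff.1 hxR w' hw'
      show a * w' * a⁻¹ * (a * x * a⁻¹) = a * x * a⁻¹ * (a * w' * a⁻¹)
      rw [show a * w' * a⁻¹ * (a * x * a⁻¹) = a * (w' * x) * a⁻¹ by group, hc]
      group
    have h7 := Subgroup.orderOf_dvd_natCard _ hxQ
    rw [orderOf_conj', hx, hQ] at h7
    exact h7q (Nat.Coprime.dvd_of_dvd_mul_left (by norm_num) h7)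
  have h27 : c ∣ 5829120 := ⟨n, hcn.symm⟩
  have hmem : c ∈ (Eleven.dv 17280).filter fun d => d % 7 == 3 && !(d % 5 == 0) && 5829120 % d == 0 := by
    refine List.mem_filter.2 ⟨mem_dv (by norm_num) h17, ?_⟩
    have : c % 5 ≠ 0 := fun h => h5 (Nat.dvd_of_mod_eq_zero h)
    simp [hc3, Nat.mod_eq_zero_of_dvd h27, this]
  rw [show ((Eleven.dv 17280).filter fun d => d % 7 == 3 && !(d % 5 == 0) && 5829120 % d == 0) = [3, 24, 192] by
    decide +kernel] at hmem
  simp only [List.mem_cons, List.not_mem_nil, or_false] at hmem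
  omega

/-- The five members besides the trivial one and the member of degree 2024. -/
noncomputable def five : Finset (IrrCharacter G) := (S.Z.erase (Small.one' G)).erase χa

omit X S hP in
theorem five_facts : χa ≠ Small.one' G := by
  intro h
  have := hF.2.2.2.2.1
  rw [h, show dg (Small.one' G) = 1 from Small.charDegree_one'] at this
  norm_num at this

/-- The sum over the family. -/
theorem sum_family {M : Type*} [AddCommMonoid M] (f : IrrCharacter G → M) :
    ∑ χ ∈ S.Z, f χ = f (Small.one' G) + (f χa + ∑ χ ∈ five (χa := χa) S, f χ) := by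
  obtain ⟨haZ, -⟩ := seven_member X hF S hP (by simp)
  have hne := five_facts hF
  rw [← Finset.add_sum_erase _ _ S.one_mem,
    ← Finset.add_sum_erase _ _ (Finset.mem_erase.2 ⟨hne, haZ⟩)]
  rfl

theorem card_five : (five (χa := χa) S).card = 5 := by
  obtain ⟨haZ, -⟩ := seven_member X hF S hP (by simp)
  rw [five, Finset.card_erase_of_mem (Finset.mem_erase.2 ⟨five_facts hF, haZ⟩),
    Finset.card_erase_of_mem S.one_mem, S.Z_eq, Finset.card_insert_of_notMem S.θ_notMem, S.card_X]

/-- The signed degrees of the five members. -/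
theorem family : ∃ l ∈ famsFor c, (l : Multiset ℤ) = (five (χa := χa) S).val.map (sd S) := by
  obtain ⟨haZ, hsa⟩ := seven_member X hF S hP (by simp)
  have hcard5 := card_five X hF S hP
  have hcof := cof X hF S hP
  have hsum := fun {M : Type} [AddCommMonoid M] (f : IrrCharacter G → M) => sum_family X hF S hP f
  have hnc : ¬ IsCyclic G := Small.not_isCyclic_of_card (by rw [X.hcard]; norm_num)
  have hzS : ∀ χ ∈ five (χa := χa) S, χ ∈ S.Z ∧ χ ≠ Small.one' G := fun χ hχ =>
    ⟨Finset.mem_of_mem_erase (Finset.mem_of_mem_erase hχ),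
      Finset.ne_of_mem_erase (Finset.mem_of_mem_erase hχ)⟩
  have hsda : sd S χa = 2024 := by rw [sd, hsa, hF.2.2.2.2.1]; norm_num
  have hmem : ∀ s ∈ (five (χa := χa) S).val.map (sd S), s ∈ cand c := by
    intro s hs
    obtain ⟨χ, hχ, rfl⟩ := Multiset.mem_map.1 hs
    obtain ⟨hZ, hne⟩ := hzS χ hχ
    exact mem_mems X S (by norm_num) hZ (by norm_num) one_pos (sd_mod S hZ)
      (Small.two_le_charDegree hnc hne) (deg_dvd_div X S hP hZ)
      ((Nat.div_dvd_of_dvd (by rcases hcof with rfl | rfl | rfl <;> norm_num)).trans (by norm_num))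
  have hchk : familyTest c = true := by
    rcases hcof with rfl | rfl | rfl
    exacts [family_check_three, family_check_twentyFour, family_check_big]
  obtain ⟨l, hl, hp⟩ := combAll_sound 5 _ _ hchk _ (by rw [Multiset.card_map]; exact hcard5) hmem
  have hlsum : ∀ f : ℤ → ℤ, (l.map f).sum = ∑ χ ∈ five (χa := χa) S, f (sd S χ) := fun f => by
    rw [← Multiset.sum_coe, ← Multiset.map_coe, hl, Multiset.map_map]
    rfl
  have h1 : l.sum = -2025 := by
    have h := S.rel_deg
    change ∑ χ ∈ S.Z, sd S χ = 0 at h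
    rw [hsum, sd_one, hsda] at h
    have := hlsum id
    rw [List.map_id] at this
    rw [this]
    simp only [id]
    linarith
  have h2 : 1 + (l.map yw).sum = 0 := by
    have h := sum_yw X S (by norm_num)
    rw [hsum, sd_one, hsda, show yw 1 = 1 from rfl, show yw 2024 = 0 from rfl] at h
    rw [hlsum]
    linarith
  have h3 : 2 + (l.map xw).sum = 0 := by
    have h := (column_facts S X (by norm_num)).1
    rw [hsum, sd_one, hsda, show xw 1 = 2 from rfl, show xw 2024 = 0 from rfl] at h
    rw [hlsum]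
    linarith
  have h4 : excOk (1 :: 2024 :: l) = true := by
    have hv : l = l := rfl
    obtain ⟨L, hLnd, hLval⟩ : ∃ L : List (IrrCharacter G), L.Nodup ∧ L.map (sd S) = l ∧
        (L : Multiset (IrrCharacter G)) = (five (χa := χa) S).val := by
      obtain ⟨L, hL, hL'⟩ : ∃ L : List (IrrCharacter G), L.map (sd S) = l ∧
          (L : Multiset (IrrCharacter G)) = (five (χa := χa) S).val := by
        have hperm : l.Perm ((five (χa := χa) S).toList.map (sd S)) := by
          rw [← Multiset.coe_eq_coe, hl, ← Multiset.map_coe, Finset.coe_toList]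
        obtain ⟨L, hL2, hL1⟩ := MTwentyTwo.exists_perm_map hperm _ rfl
        exact ⟨L, hL1, by rw [Multiset.coe_eq_coe.2 hL2, Finset.coe_toList]⟩
      exact ⟨L, by rw [← Multiset.coe_nodup, hL']; exact (five (χa := χa) S).nodup, hL, hL'⟩
    obtain ⟨hLl, hLv⟩ := hLval
    have hin : ∀ χ, χ ∈ L ↔ χ ∈ five (χa := χa) S := fun χ => by
      rw [← Multiset.mem_coe, hLv]; rfl
    have h := excOk_of S X (by norm_num) (L := Small.one' G :: χa :: L) (by
        simp only [List.nodup_cons, List.mem_cons, hin, five, Finset.mem_erase]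
        exact ⟨by simp [Ne.symm (five_facts hF)], by simp, hLnd⟩)
      (by
        intro χ hχ
        simp only [List.mem_cons, hin] at hχ
        rcases hχ with rfl | rfl | h
        exacts [S.one_mem, haZ, (hzS χ h).1])
      (by
        intro χ hχ _
        simp only [List.mem_cons, hin, five, Finset.mem_erase]
        tauto)
    simpa [List.map_cons, sd_one, hsda, hLl] using h
  have h5 : (71562570 : ℤ) + (l.map fun x => x * x).sum ≤ 244823040 := by
    obtain ⟨-, -, -, dA, da, dB, dE, -, -, -, -, -⟩ := hF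
    have hd1 : dg (Small.one' G) = 1 := Small.charDegree_one'
    have hnd : ∀ χ ∈ five (χa := χa) S, ¬ 7 ∣ dg χ := fun χ hχ => S.not_dvd_deg (hzS χ hχ).1
    have hnotA : ∀ χ : IrrCharacter G, 7 ∣ dg χ → χ ∉ five (χa := χa) S := fun χ h hχ => hnd χ hχ h
    have h := MEleven.sum_sq_deg_le
      (insert (Small.one' G) (insert χA (insert χa (insert χB (insert χE (five (χa := χa) S))))))
    have hne : ∀ {χ ψ : IrrCharacter G}, dg χ ≠ dg ψ → χ ≠ ψ := fun h e => h (e ▸ rfl)
    rw [Finset.sum_insert, Finset.sum_insert, Finset.sum_insert, Finset.sum_insert, Finset.sum_insert] at h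
    · rw [card24 X] at h
      change dg (Small.one' G) ^ 2 + (dg χA ^ 2 + (dg χa ^ 2 + (dg χB ^ 2 + (dg χE ^ 2 +
        ∑ χ ∈ five (χa := χa) S, dg χ ^ 2)))) ≤ 244823040 at h
      rw [hd1, dA, da, dB, dE] at h
      rw [hlsum]
      have hsq : ∑ χ ∈ five (χa := χa) S, sd S χ * sd S χ =
          ((∑ χ ∈ five (χa := χa) S, dg χ ^ 2 : ℕ) : ℤ) := by
        push_cast
        refine Finset.sum_congr rfl fun χ hχ => ?_
        rcases S.sign χ (hzS χ hχ).1 with e | e <;> simp [sd, e, pow_two]
      rw [hsq]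
      norm_num at h
      generalize ∑ χ ∈ five (χa := χa) S, dg χ ^ 2 = a at h ⊢
      omega
    all_goals try simp only [Finset.mem_insert, not_or]
    · exact hnotA χE (by rw [dE]; norm_num)
    · exact ⟨hne (by rw [dB, dE]; norm_num), hnotA χB (by rw [dB]; norm_num)⟩
    · exact ⟨hne (by rw [da, dB]; norm_num), hne (by rw [da, dE]; norm_num), Finset.notMem_erase _ _⟩
    · exact ⟨hne (by rw [dA, da]; norm_num), hne (by rw [dA, dB]; norm_num), hne (by rw [dA, dE]; norm_num),
        hnotA χA (by rw [dA]; norm_num)⟩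
    · exact ⟨hne (by rw [hd1, dA]; norm_num), hne (by rw [hd1, da]; norm_num), hne (by rw [hd1, dB]; norm_num),
        hne (by rw [hd1, dE]; norm_num), fun h => (hzS _ h).2 rfl⟩
  have hcond : cond l = true := by
    simp only [cond, Bool.and_eq_true, beq_iff_eq, decide_eq_true_eq]
    exact ⟨⟨⟨⟨h1, h2⟩, h3⟩, h4⟩, h5⟩
  simp only [hcond, Bool.not_true, Bool.false_or, List.contains_iff_mem] at hp
  exact ⟨l, hp, hl⟩

end Cfsg.Lib.MTwentyFour.Six
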