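import Cfsg.Agent.Lib.MTwentyFour.Local.PrincipalChecks

/-!
The candidates for the principal family at 7 when the automizer there has order 6.
-/

set_option autoImplicit false

namespace Cfsg.Lib.MTwentyFour.Six

open Cfsg.Lib.MTwentyFour.Eleven (xw excOk)
open Cfsg.Lib.MTwentyFour.Local (mems yw)
open Cfsg.Lib.MTwentyFour.Search (ord24)

/-- The nonempty tails of a list. -/
def tls {α : Type} : List α → List (List α)
  | [] => []
  | x :: xs => (x :: xs) :: tls xs

/-- Check all ordered choices of `n` members with repetition. -/
def combAll {α : Type} : ℕ → List α → (List α → Bool) → Bool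
  | 0, _, p => p []
  | n + 1, cand, p => (tls cand).all fun t =>
      match t with
      | [] => true
      | x :: _ => combAll n t fun l => p (x :: l)

theorem combAll_sound {α : Type} [DecidableEq α] : ∀ (n : ℕ) (cand : List α) (p : List α → Bool),
    combAll n cand p = true → ∀ M : Multiset α, Multiset.card M = n → (∀ d ∈ M, d ∈ cand) →
      ∃ l : List α, (l : Multiset α) = M ∧ p l = true := by
  intro n
  induction n with
  | zero =>
    intro cand p h M hM _
    exact ⟨[], (Multiset.card_eq_zero.1 hM).symm, h⟩
  | succ n ih =>
    intro cand p h M hM hmem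
    induction cand with
    | nil =>
      obtain ⟨d, hd⟩ := Multiset.card_pos_iff_exists_mem.1 (by omega : 0 < Multiset.card M)
      exact absurd (hmem d hd) List.not_mem_nil
    | cons x xs ihc =>
      rw [combAll, tls, List.all_cons, Bool.and_eq_true] at h
      obtain ⟨h1, h2⟩ := h
      by_cases hx : x ∈ M
      · obtain ⟨l, hl, hp⟩ := ih (x :: xs) _ h1 (M.erase x)
          (by rw [Multiset.card_erase_of_mem hx, hM]; rfl) fun d hd => hmem d (Multiset.mem_of_mem_erase hd)
        exact ⟨x :: l, by rw [← Multiset.cons_coe, hl, Multiset.cons_erase hx], hp⟩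
      · refine ihc (by rw [combAll]; exact h2) fun d hd => ?_
        rcases List.mem_cons.1 (hmem d hd) with e | e
        · exact absurd (e ▸ hd) hx
        · exact e

/-- The candidates for one of the five members besides 1 and 2024. -/
def cand (c : ℕ) : List ℤ := mems 7 1 2 (34974720 / c)

/-- The conditions on the five members. -/
def cond (l : List ℤ) : Bool :=
  l.sum == -2025 && 1 + (l.map yw).sum == 0 && 2 + (l.map xw).sum == 0 && excOk (1 :: 2024 :: l) &&
    decide ((71562570 : ℤ) + (l.map fun x => x * x).sum ≤ 244823040)

/-- The candidates for `c = 192`. -/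
def fams192 : List (List ℤ) :=
  [[253, 253, -1035, 22, -1518], [253, 3795, -1035, 22, -5060], [253, -1035, -1035, 22, -230],
   [-1035, 22, -1518, -1518, 2024], [-1035, 22, -5060, -5060, 9108], [-1035, 22, -5060, 2024, 2024]]

/-- The candidates for `c = 3` and `c = 24`. -/
def fams24 : List (List ℤ) :=
  [[253, 253, 253, 736, -3520], [253, 253, -1035, 22, -1518], [253, 253, -1035, 2024, -3520],
   [253, 3795, -1035, 22, -5060], [253, 3795, -1035, -1518, -3520], [253, -1035, -1035, 22, -230],
   [253, -1035, -1035, 3312, -3520], [253, 22, -1518, -1518, 736], [253, 22, -5060, 2024, 736],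
   [253, -230, 736, 736, -3520], [253, -1518, 2024, 736, -3520], [3795, 3795, -1035, -5060, -3520],
   [3795, -1035, -1035, -230, -3520], [3795, 22, -1518, -5060, 736], [3795, -1518, -1518, 736, -3520],
   [3795, -5060, 2024, 736, -3520], [-1035, 22, -230, -1518, 736], [-1035, 22, -1518, -1518, 2024],
   [-1035, 22, -5060, -5060, 9108], [-1035, 22, -5060, 2024, 2024], [-1035, 22, -5060, 3312, 736],
   [-1035, -230, 2024, 736, -3520], [-1035, -1518, -5060, 9108, -3520],
   [-1035, -1518, 2024, 2024, -3520], [-1035, -1518, 3312, 736, -3520]]

/-- The families of five members allowed for a cofactor at 7. -/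
def famsFor (c : ℕ) : List (List ℤ) := if c = 192 then fams192 else fams24

def familyTest (c : ℕ) : Bool :=
  combAll 5 (cand c) fun l => !cond l || (famsFor c).contains l

theorem family_check_three : familyTest 3 = true := by decide +kernel

theorem family_check_twentyFour : familyTest 24 = true := by decide +kernel

theorem family_check_big : familyTest 192 = true := by decide +kernel

end Cfsg.Lib.MTwentyFour.Six
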