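import Cfsg.Agent.Lib.MTwentyFour.Six.Central
import Cfsg.Agent.Lib.MTwentyFour.Roots
import Cfsg.Agent.Lib.Block.CyclicPrimeValues
import Cfsg.Agent.Lib.Char.ExtGroup
import Cfsg.Agent.Lib.MTwentyFour.Columns

/-!
The congruence modulo 7 at a central involution for the characters outside the principal block at 7.
-/

set_option autoImplicit false
set_option linter.style.haveILetI false
set_option linter.unusedSectionVars false
set_option maxHeartbeats 1000000

namespace Cfsg.Lib.MTwentyFour.Six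

open Cfsg Cfsg.Lib Cfsg.Lib.Block Cfsg.Lib.MTwentyFour.Eleven Cfsg.Lib.MTwentyFour.Local
open Cfsg.Lib.MTwentyFour.Search (ord24)
open scoped ComplexConjugate Classical

universe u

noncomputable local instance (priority := high) fintypeSubgroupRootMod {A : Type u}
    [Group A] [Fintype A] (H : Subgroup A) : Fintype H := Fintype.ofFinite H

local notation "C[" P "]" => Subgroup.centralizer (SetLike.coe P)

theorem rat_int {z : ℂ} (hz : IsIntegral ℤ z) {m n : ℤ} (hm : m ≠ 0) (h : (m : ℂ) * z = n) :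
    ∃ k : ℤ, z = k ∧ m * k = n := by
  have hm' : (m : ℂ) ≠ 0 := Int.cast_ne_zero.2 hm
  have e : z = (((n : ℚ) / m : ℚ) : ℂ) := by
    push_cast
    rw [eq_div_iff hm', mul_comm]
    exact h
  obtain ⟨k, hk⟩ := Char.exists_int_of_isIntegral_rat (q := (n : ℚ) / m) (e ▸ hz)
  rw [hk] at e
  refine ⟨k, by rw [e]; norm_num, ?_⟩
  rw [e] at h
  exact_mod_cast h

section Irr

variable {H : Type u} [Group H] [Fintype H]

/-- A character at a central involution. -/
theorem apply_central (θ : IrrCharacter H) {z : H} (hz : z ∈ Subgroup.center H) (hz2 : z * z = 1) :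
    (θ : H → ℂ) z = (θ : H → ℂ) 1 ∨ (θ : H → ℂ) z = -(θ : H → ℂ) 1 := by
  obtain ⟨c, -, hc⟩ := exists_central_scalar θ hz
  have h1 := hc 1
  rw [mul_one] at h1
  have h2 := hc z
  rw [hz2, h1, ← mul_assoc] at h2
  have h3 := (mul_eq_right₀ θ.2.apply_one_ne_zero).1 h2.symm
  rcases mul_self_eq_one_iff.1 h3 with e | e <;> rw [e] at h1
  · exact Or.inl (by rw [h1, one_mul])
  · exact Or.inr (by rw [h1, neg_one_mul])

/-- The sum of a character over an invariant finite subgroup. -/
theorem sum_invariant (θ : IrrCharacter H) (V : Finset H) (hmul : ∀ a ∈ V, ∀ b ∈ V, a * b ∈ V)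
    (hconj : ∀ a ∈ V, ∀ h : H, h * a * h⁻¹ ∈ V) :
    ∑ a ∈ V, (θ : H → ℂ) a = 0 ∨ ∑ a ∈ V, (θ : H → ℂ) a = (V.card : ℂ) * (θ : H → ℂ) 1 := by
  obtain ⟨n, ρ, hirr, hρ⟩ := θ.2
  haveI := hirr
  set E : Module.End ℂ (Fin n → ℂ) := ∑ a ∈ V, ρ a with hE
  have hcomm : ∀ g, E * ρ g = ρ g * E := fun g => by
    rw [hE, Finset.sum_mul, Finset.mul_sum]
    refine Finset.sum_nbij' (fun a => g⁻¹ * a * g) (fun a => g * a * g⁻¹) ?_ ?_ ?_ ?_ ?_
    · intro a ha; simpa using hconj a ha g⁻¹
    · intro a ha; exact hconj a ha g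
    · intro a _; group
    · intro a _; group
    · intro a _; rw [← map_mul, ← map_mul]; congr 1; group
  obtain ⟨c, hc⟩ := Char.exists_smul_of_comm ρ E hcomm
  have hEE : E * E = (V.card : ℂ) • E := by
    conv_lhs => rw [hE, Finset.sum_mul]
    rw [Nat.cast_smul_eq_nsmul, ← Finset.sum_const]
    refine Finset.sum_congr rfl fun a ha => ?_
    rw [Finset.mul_sum, hE]
    have him : V.image (a * ·) = V := Finset.eq_of_subset_of_card_le
      (fun b hb => by obtain ⟨b', hb', rfl⟩ := Finset.mem_image.1 hb; exact hmul a ha b' hb')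
      (by rw [Finset.card_image_of_injective _ (mul_right_injective a)])
    conv_rhs => rw [← him, Finset.sum_image fun _ _ _ _ h => mul_left_cancel h]
    exact Finset.sum_congr rfl fun b _ => (map_mul ρ a b).symm
  rw [hc, smul_mul_smul_comm, one_mul, smul_smul] at hEE
  haveI : Nontrivial (Fin n → ℂ) := by
    by_contra h
    rw [not_nontrivial_iff_subsingleton] at h
    refine θ.2.apply_one_ne_zero ?_
    rw [← hρ]
    show LinearMap.trace ℂ _ (ρ 1) = 0
    rw [Subsingleton.elim (ρ 1) 0, map_zero]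
  have hcc := Char.smul_one_injective hEE
  have hsum : ∑ a ∈ V, (θ : H → ℂ) a = c * (θ : H → ℂ) 1 := by
    rw [← hρ]
    show ∑ a ∈ V, LinearMap.trace ℂ _ (ρ a) = c * LinearMap.trace ℂ _ (ρ 1)
    rw [← map_sum, ← hE, hc, map_smul, map_one ρ, smul_eq_mul]
  rcases eq_or_ne c 0 with e | e
  · left; rw [hsum, e, zero_mul]
  · right; rw [hsum, mul_right_cancel₀ e hcc]

end Irr

variable {G : Type u} [Group G] [Fintype G] [Fact (Nat.Prime 7)] {M : Ideal AlgInt} (hM : IsPModular 7 M)
  (P : Sylow 7 G) (hcard : Nat.card (P : Subgroup G) = 7) (θ : TrivOn (P : Subgroup G))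
  {B : Set (IrrCharacter G)}
  (hind : IsInducedBlock M C[(P : Subgroup G)] (blockOf M (θ.1 : C[(P : Subgroup G)] → ℂ)) B)
include hM hcard hind

theorem defect_of_root : IsPBlock M B ∧ IsDefectGroup 7 M B (P : Subgroup G) := by
  obtain ⟨B', hB', hD'⟩ := exists_block_of_trivial hM P hcard θ
  obtain rfl := isInducedBlock_unique hM hB' hind
  exact ⟨hB'.2.1, hD'⟩

/-- The stabilizer of the block of a root. -/
theorem exists_stab : ∃ T : Subgroup G, (∀ g : G, g ∈ T ↔ g ∈ Subgroup.normalizer ((P : Subgroup G) : Set G) ∧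
      StabilizesBlock C[(P : Subgroup G)] (blockOf M (θ.1 : C[(P : Subgroup G)] → ℂ)) g) ∧
    C[(P : Subgroup G)] ≤ T ∧ T ≤ Subgroup.normalizer ((P : Subgroup G) : Set G) := by
  obtain ⟨hB, hD⟩ := defect_of_root hM P hcard θ hind
  have hθ : θ.1 ∈ blockOf M (θ.1 : C[(P : Subgroup G)] → ℂ) := self_mem_blockOf hM θ.1
  set N := Subgroup.normalizer ((P : Subgroup G) : Set G) with hN
  let T : Subgroup G :=
    { carrier := fixers (P : Subgroup G) θ.1
      one_mem' := ⟨one_mem _, fun c c' h => by rw [show c' = c from Subtype.ext (by simpa using h)]⟩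
      mul_mem' := by
        rintro a b ⟨ha, ha'⟩ ⟨hb, hb'⟩
        refine ⟨mul_mem ha hb, fun c c' h => ?_⟩
        have hm : b * (c : G) * b⁻¹ ∈ C[(P : Subgroup G)] := conj_centralizer_mem hb c.2
        rw [ha' ⟨_, hm⟩ c' (by rw [h]; group), hb' c ⟨_, hm⟩ rfl]
      inv_mem' := by
        rintro a ⟨ha, ha'⟩
        refine ⟨inv_mem ha, fun c c' h => (ha' c' c (by rw [h]; group)).symm⟩ }
  refine ⟨T, fun g => ?_, fun g hg => ?_, fun g hg => hg.1⟩
  · constructor
    · rintro ⟨h1, h2⟩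
      exact ⟨h1, (stabilizes_iff_fix hM hB hD hcard hind hθ θ.2 h1).2 h2⟩
    · rintro ⟨h1, h2⟩
      exact ⟨h1, (stabilizes_iff_fix hM hB hD hcard hind hθ θ.2 h1).1 h2⟩
  · exact ⟨Subgroup.centralizer_le_normalizer _ hg, fun c c' h => by
      rw [show c' = ⟨g, hg⟩ * c * ⟨g, hg⟩⁻¹ from Subtype.ext h, θ.1.2.isClassFunction]⟩

variable {χ : IrrCharacter G} (hχ : χ ∈ B) (T : Subgroup G)
  (hT : ∀ g : G, g ∈ T ↔ g ∈ Subgroup.normalizer ((P : Subgroup G) : Set G) ∧
    StabilizesBlock C[(P : Subgroup G)] (blockOf M (θ.1 : C[(P : Subgroup G)] → ℂ)) g)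
include hχ hT

/-- The sum of the values over an invariant set of regular elements of the centralizer. -/
theorem sum_orbit_mod (O : Finset C[(P : Subgroup G)]) (hreg : ∀ k ∈ O, ¬ 7 ∣ orderOf (k : G))
    (hOinv : ∀ g ∈ Subgroup.normalizer ((P : Subgroup G) : Set G),
      ∀ (hg : ConjMaps g C[(P : Subgroup G)] C[(P : Subgroup G)]), ∀ k ∈ O, conjIso hg k ∈ O) :
    MemLocalIdeal M ((∑ k ∈ O, (χ : G → ℂ) k) * (θ.1 : C[(P : Subgroup G)] → ℂ) 1 -
      (χ : G → ℂ) 1 * ∑ k ∈ O, (θ.1 : C[(P : Subgroup G)] → ℂ) k) := by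
  obtain ⟨hB, hD⟩ := defect_of_root hM P hcard θ hind
  set b := blockOf M (θ.1 : C[(P : Subgroup G)] → ℂ) with hb
  have hθ : θ.1 ∈ b := self_mem_blockOf hM θ.1
  set a : IrrCharacter C[(P : Subgroup G)] → ℂ := fun η =>
    classInner (fun h : C[(P : Subgroup G)] => (χ : G → ℂ) h) (η : C[(P : Subgroup G)] → ℂ) with ha
  have haint : ∀ η, a η ∈ locRing hM := fun η => by
    obtain ⟨c, hc⟩ := (χ.2.isCharacter.comp (C[(P : Subgroup G)]).subtype).exists_nat_classInner η.2.isCharacter
    show classInner (fun h : C[(P : Subgroup G)] => (χ : G → ℂ) h) (η : C[(P : Subgroup G)] → ℂ) ∈ locRing hM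
    rw [show classInner (fun h : C[(P : Subgroup G)] => (χ : G → ℂ) h) (η : C[(P : Subgroup G)] → ℂ) = (c : ℂ) from hc]
    exact natCast_mem _ c
  obtain ⟨⟨x, hxP⟩, hx⟩ := exists_prime_orderOf_dvd_card' (G := (P : Subgroup G)) 7 (by rw [hcard])
  rw [Subgroup.orderOf_mk] at hx
  let xc : C[(P : Subgroup G)] := ⟨x, le_centralizer_self hcard hxP⟩
  set U := (indSet M C[(P : Subgroup G)] B).toFinset
  -- at each element of the set
  have h1 : ∀ k ∈ O, MemLocalIdeal M ((χ : G → ℂ) k - ∑ η ∈ U, a η * (η : C[(P : Subgroup G)] → ℂ) k) := by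
    intro k hk
    have hcomm : Commute x (k : G) := Subgroup.mem_centralizer_iff.1 k.2 x hxP
    have hxo : orderOf x = 7 ^ 1 := by rw [pow_one]; exact hx
    have hkr := hreg k hk
    have hpR : pReg 7 (x * (k : G)) = (k : G) := (eq_pReg rfl hcomm hxo hkr).symm
    have hpP : pPt 7 (x * (k : G)) = x := (eq_pPt rfl hcomm hxo hkr).symm
    have hns : ¬ IsPRegular 7 (x * (k : G)) := fun h => by
      have h2 := (pPt_eq_one_iff _).2 h
      rw [hpP] at h2
      rw [h2, orderOf_one] at hx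
      norm_num at hx
    have hs := apply_section_eq hM hB hD hcard hind χ hχ (xc * k) (by
      show pPt 7 (x * (k : G)) ∈ (P : Subgroup G); rw [hpP]; exact hxP) hns
    have e1 := charVal_sub_pReg_mem (p := 7) hM χ.2.isCharacter (x * (k : G))
    rw [hpR] at e1
    have hpRk : pReg 7 (xc * k) = k := by
      refine (eq_pReg rfl (Subtype.ext hcomm.eq) (k := 1) ?_ ?_).symm
      · rw [← orderOf_submonoid]; exact hxo
      · rw [← orderOf_submonoid]; exact hkr
    have e2 : MemLocalIdeal M (∑ η ∈ U, a η * (η : C[(P : Subgroup G)] → ℂ) (xc * k) -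
        ∑ η ∈ U, a η * (η : C[(P : Subgroup G)] → ℂ) k) := by
      rw [← Finset.sum_sub_distrib]
      refine memLocalIdeal_sum hM _ _ fun η _ => ?_
      rw [← mul_sub]
      refine memLocalIdeal_mul_left hM (haint η) ?_
      have := charVal_sub_pReg_mem (p := 7) hM η.2.isCharacter (xc * k)
      rwa [hpRk] at this
    rw [show (χ : G → ℂ) (x * (k : G)) = ∑ η ∈ U, a η * (η : C[(P : Subgroup G)] → ℂ) (xc * k) from hs] at e1
    have := memLocalIdeal_sub hM e2 e1
    convert this using 1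
    ring
  have h2 := memLocalIdeal_sum hM O _ h1
  rw [Finset.sum_sub_distrib, Finset.sum_comm, Finset.sum_congr rfl fun η _ => (Finset.mul_sum _ _ _).symm] at h2
  rw [sum_indSet_of_inv hM hB hD hcard hind hθ T hT (fun η => a η * ∑ k ∈ O, (η : C[(P : Subgroup G)] → ℂ) k)] at h2
  swap
  · intro g hg hgm η
    have e : a (compIrr (conjIso hgm) η) = a η := by
      have e : (fun k : C[(P : Subgroup G)] => (χ : G → ℂ) k) = fun k => (χ : G → ℂ) (conjIso hgm k : G) :=
        funext fun k => (χ.2.isClassFunction (k : G) g).symm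
      simp only [ha]
      conv_lhs => rw [e]
      exact Char.classInner_comp_equiv (conjIso hgm) (fun k : C[(P : Subgroup G)] => (χ : G → ℂ) k) (η : C[(P : Subgroup G)] → ℂ)
    rw [e]
    congr 1
    refine Finset.sum_bij (fun k _ => conjIso hgm k) (fun k hk => hOinv g hg hgm k hk)
      (fun _ _ _ _ h => (conjIso hgm).injective h) ?_ (fun k _ => (compIrr_apply _ _ _))
    intro y hy
    have him : O.image (fun k => conjIso hgm k) = O := Finset.eq_of_subset_of_card_le
      (fun z hz => by obtain ⟨z', hz', rfl⟩ := Finset.mem_image.1 hz; exact hOinv g hg hgm z' hz')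
      (by rw [Finset.card_image_of_injective _ (conjIso hgm).injective])
    rw [← him] at hy
    obtain ⟨z, hz, rfl⟩ := Finset.mem_image.1 hy
    exact ⟨z, hz, rfl⟩
  have hconst : ∀ ξ ∈ b.toFinset, ∑ k ∈ O, (ξ : C[(P : Subgroup G)] → ℂ) k = ∑ k ∈ O, (θ.1 : C[(P : Subgroup G)] → ℂ) k :=
    fun ξ hξ => Finset.sum_congr rfl fun k hk => root_reg hM hB hD hcard hind (Set.mem_toFinset.1 hξ) hθ
      ((isPRegular_coe_iff k).1 (hreg k hk))
  rw [Finset.sum_congr (s₂ := b.toFinset) rfl (g := fun ξ => a ξ * ∑ k ∈ O, (θ.1 : C[(P : Subgroup G)] → ℂ) k)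
    (fun ξ hξ => by rw [hconst ξ hξ]), ← Finset.sum_mul] at h2
  have h3 := apply_one_sub_mem hM hB hD hcard hind hθ T hT hχ
  have hint : ∀ {H : Type u} [Group H] [Fintype H] (η : IrrCharacter H) (k : H), (η : H → ℂ) k ∈ locRing hM :=
    fun η k => isIntegral_mem_locRing hM (η.2.isCharacter.isIntegral k)
  have hOint : ∑ k ∈ O, (θ.1 : C[(P : Subgroup G)] → ℂ) k ∈ locRing hM := sum_mem fun k _ => hint _ k
  have h4 := memLocalIdeal_sub hM (memLocalIdeal_mul_left hM (hint θ.1 1) h2)
    (memLocalIdeal_mul_left hM hOint h3)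
  convert h4 using 1
  ring

/-- The number of roots in the block and the degree. -/
theorem card_triv_roots :
    (T.relIndex (Subgroup.normalizer ((P : Subgroup G) : Set G))) *
      charDegree (θ.1 : C[(P : Subgroup G)] → ℂ) ^ 2 ≤ Nat.card (C[(P : Subgroup G)] ⧸ coreC P) := by
  obtain ⟨hB, hD⟩ := defect_of_root hM P hcard θ hind
  set b := blockOf M (θ.1 : C[(P : Subgroup G)] → ℂ) with hb
  have hθ : θ.1 ∈ b := self_mem_blockOf hM θ.1
  have D := cycSystem hM hB hD hcard hind
  let triv : IrrCharacter C[(P : Subgroup G)] → Prop := fun η =>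
    ∀ z : C[(P : Subgroup G)], (z : G) ∈ (P : Subgroup G) →
      (η : C[(P : Subgroup G)] → ℂ) z = (η : C[(P : Subgroup G)] → ℂ) 1
  have hcnt := sum_indSet_of_inv hM hB hD hcard hind hθ T hT
    (fun η => if triv η then (1 : ℂ) else 0) (fun g hg hgm η => by
      refine if_congr ?_ rfl rfl
      have hmem : ∀ z : C[(P : Subgroup G)], (z : G) ∈ (P : Subgroup G) ↔ (conjIso hgm z : G) ∈ (P : Subgroup G) :=
        fun z => Subgroup.mem_normalizer_iff.1 hg (z : G)
      simp only [triv, compIrr_apply, map_one]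
      constructor
      · intro h z hz
        have := h ((conjIso hgm).symm z) (by rw [hmem, MulEquiv.apply_symm_apply]; exact hz)
        rwa [MulEquiv.apply_symm_apply] at this
      · exact fun h z hz => h _ ((hmem z).1 hz))
  rw [Finset.sum_boole, Finset.sum_boole] at hcnt
  have h1 : (b.toFinset.filter triv).card = 1 := by
    refine Finset.card_eq_one.2 ⟨θ.1, Finset.eq_singleton_iff_unique_mem.2
      ⟨Finset.mem_filter.2 ⟨Set.mem_toFinset.2 hθ, θ.2⟩, fun ξ hξ => ?_⟩⟩
    obtain ⟨h1, h2⟩ := Finset.mem_filter.1 hξ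
    exact root_trivial_unique hM hB hD hcard hind (Set.mem_toFinset.1 h1) hθ h2 θ.2
  rw [h1, Nat.cast_one, mul_one] at hcnt
  set U := (indSet M C[(P : Subgroup G)] B).toFinset.filter triv
  have hcnt' : U.card = T.relIndex (Subgroup.normalizer ((P : Subgroup G) : Set G)) := by exact_mod_cast hcnt
  have hdeg : ∀ η ∈ U, charDegree (η : C[(P : Subgroup G)] → ℂ) = charDegree (θ.1 : C[(P : Subgroup G)] → ℂ) := by
    intro η hη
    have := D.degree_eq (Set.mem_toFinset.1 (Finset.mem_filter.1 hη).1) hθ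
    rw [apply_one_eq_charDegree, apply_one_eq_charDegree] at this
    exact_mod_cast this
  have hsum2 : ∑ η ∈ U, charDegree (η : C[(P : Subgroup G)] → ℂ) ^ 2 =
      U.card * charDegree (θ.1 : C[(P : Subgroup G)] → ℂ) ^ 2 := by
    rw [Finset.sum_congr rfl (g := fun _ => charDegree (θ.1 : C[(P : Subgroup G)] → ℂ) ^ 2)
      (fun η hη => by rw [hdeg η hη]), Finset.sum_const, smul_eq_mul]
  rw [← sum_deg_sq (V := C[(P : Subgroup G)] ⧸ coreC P), ← hcnt', ← hsum2]
  calc ∑ η ∈ U, charDegree (η : C[(P : Subgroup G)] → ℂ) ^ 2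
      ≤ ∑ ω : TrivOn (P : Subgroup G), charDegree (ω.1 : C[(P : Subgroup G)] → ℂ) ^ 2 := by
        refine le_of_eq_of_le (Finset.sum_bij (t := (Finset.univ : Finset (TrivOn (P : Subgroup G))).filter fun ω => ω.1 ∈ U)
          (g := fun ω => charDegree (ω.1 : C[(P : Subgroup G)] → ℂ) ^ 2)
          (fun η hη => (⟨η, (Finset.mem_filter.1 hη).2⟩ : TrivOn (P : Subgroup G)))
          (fun η hη => Finset.mem_filter.2 ⟨Finset.mem_univ _, hη⟩)
          (fun _ _ _ _ h => congrArg (fun ω : TrivOn (P : Subgroup G) => ω.1) h)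
          (fun ω hω => ⟨ω.1, (Finset.mem_filter.1 hω).2, Subtype.ext rfl⟩) (fun _ _ => rfl)) ?_
        exact Finset.sum_le_sum_of_subset (Finset.filter_subset _ _)
    _ = _ := by
        rw [← Equiv.sum_comp (rootEquiv P)]
        exact Finset.sum_congr rfl fun w _ => by rw [deg_rootEquiv]

/-- The mean over an orbit is an algebraic integer. -/
theorem orbit_integral (O : Finset C[(P : Subgroup G)]) (hO : O.Nonempty)
    (hOinv : ∀ g ∈ Subgroup.normalizer ((P : Subgroup G) : Set G),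
      ∀ (hg : ConjMaps g C[(P : Subgroup G)] C[(P : Subgroup G)]), ∀ k ∈ O, conjIso hg k ∈ O)
    (htrans : ∀ k ∈ O, ∀ l ∈ O, ∃ g ∈ Subgroup.normalizer ((P : Subgroup G) : Set G),
      ∃ hg : ConjMaps g C[(P : Subgroup G)] C[(P : Subgroup G)], conjIso hg k = l) :
    ∃ Z : ℂ, IsIntegral ℤ Z ∧ (O.card : ℂ) * Z =
      (T.relIndex (Subgroup.normalizer ((P : Subgroup G) : Set G)) : ℂ) *
        ∑ k ∈ O, (θ.1 : C[(P : Subgroup G)] → ℂ) k := by
  obtain ⟨hB, hD⟩ := defect_of_root hM P hcard θ hind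
  set b := blockOf M (θ.1 : C[(P : Subgroup G)] → ℂ) with hb
  have hθ : θ.1 ∈ b := self_mem_blockOf hM θ.1
  have D := cycSystem hM hB hD hcard hind
  let triv : IrrCharacter C[(P : Subgroup G)] → Prop := fun η =>
    ∀ z : C[(P : Subgroup G)], (z : G) ∈ (P : Subgroup G) →
      (η : C[(P : Subgroup G)] → ℂ) z = (η : C[(P : Subgroup G)] → ℂ) 1
  have htriv : ∀ g ∈ Subgroup.normalizer ((P : Subgroup G) : Set G),
      ∀ (hgm : ConjMaps g C[(P : Subgroup G)] C[(P : Subgroup G)]) η, triv (compIrr (conjIso hgm) η) ↔ triv η := by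
    intro g hg hgm η
    have hmem : ∀ z : C[(P : Subgroup G)], (z : G) ∈ (P : Subgroup G) ↔ (conjIso hgm z : G) ∈ (P : Subgroup G) :=
      fun z => Subgroup.mem_normalizer_iff.1 hg (z : G)
    simp only [triv, compIrr_apply, map_one]
    constructor
    · intro h z hz
      have := h ((conjIso hgm).symm z) (by rw [hmem, MulEquiv.apply_symm_apply]; exact hz)
      rwa [MulEquiv.apply_symm_apply] at this
    · exact fun h z hz => h _ ((hmem z).1 hz)
  have him : ∀ g ∈ Subgroup.normalizer ((P : Subgroup G) : Set G),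
      ∀ (hgm : ConjMaps g C[(P : Subgroup G)] C[(P : Subgroup G)]), O.image (fun k => conjIso hgm k) = O :=
    fun g hg hgm => Finset.eq_of_subset_of_card_le
      (fun z hz => by obtain ⟨z', hz', rfl⟩ := Finset.mem_image.1 hz; exact hOinv g hg hgm z' hz')
      (by rw [Finset.card_image_of_injective _ (conjIso hgm).injective])
  have hsum := sum_indSet_of_inv hM hB hD hcard hind hθ T hT
    (fun η => if triv η then ∑ k ∈ O, (η : C[(P : Subgroup G)] → ℂ) k else 0) (fun g hg hgm η => by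
      refine if_congr (htriv g hg hgm η) ?_ rfl
      conv_rhs => rw [← him g hg hgm, Finset.sum_image fun _ _ _ _ h => (conjIso hgm).injective h]
      rfl)
  rw [← Finset.sum_filter, ← Finset.sum_filter,
    show b.toFinset.filter triv = {θ.1} from Finset.eq_singleton_iff_unique_mem.2
      ⟨Finset.mem_filter.2 ⟨Set.mem_toFinset.2 hθ, θ.2⟩, fun ξ hξ => root_trivial_unique hM hB hD hcard hind
        (Set.mem_toFinset.1 (Finset.mem_filter.1 hξ).1) hθ (Finset.mem_filter.1 hξ).2 θ.2⟩,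
    Finset.sum_singleton, Finset.sum_comm] at hsum
  set U := (indSet M C[(P : Subgroup G)] B).toFinset.filter triv with hU
  set Z : C[(P : Subgroup G)] → ℂ := fun k => ∑ η ∈ U, (η : C[(P : Subgroup G)] → ℂ) k with hZ
  obtain ⟨k₀, hk₀⟩ := hO
  refine ⟨Z k₀, IsIntegral.sum _ fun η _ => η.2.isCharacter.isIntegral k₀, ?_⟩
  rw [← hsum, show (O.card : ℂ) * Z k₀ = ∑ k ∈ O, Z k₀ by rw [Finset.sum_const, nsmul_eq_mul]]
  refine Finset.sum_congr rfl fun l hl => ?_
  obtain ⟨g, hg, hgm, rfl⟩ := htrans k₀ hk₀ l hl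
  show Z k₀ = Z (conjIso hgm k₀)
  simp only [hZ]
  have hmaps : Set.MapsTo (compIrr (conjIso hgm)) ↑U ↑U := fun η hη => by
    obtain ⟨h1, h2⟩ := Finset.mem_filter.1 hη
    refine Finset.mem_filter.2 ⟨Set.mem_toFinset.2 ?_, (htriv g hg hgm η).2 h2⟩
    have hg' := D.conjMaps_of_normalizer (inv_mem hg)
    have he : (conjIso hg').symm = conjIso hgm := MulEquiv.ext fun k => (conjIso hg').injective (by
      rw [MulEquiv.apply_symm_apply]
      exact Subtype.ext (show (k : G) = g⁻¹ * (g * (k : G) * g⁻¹) * g⁻¹⁻¹ by group))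
    show IsInducedBlock M C[(P : Subgroup G)] (blockOf M (compIrr (conjIso hgm) η : C[(P : Subgroup G)] → ℂ)) B
    rw [blockOf_compIrr, ← he]
    have h1' : η ∈ indSet M C[(P : Subgroup G)] B := Set.mem_toFinset.1 h1
    exact isInducedBlock_conj_self hg' h1'
  have hinj : Function.Injective (compIrr (conjIso hgm)) := (irrEquiv (conjIso hgm)).injective
  have himU : U.image (compIrr (conjIso hgm)) = U := Finset.eq_of_subset_of_card_le
    (fun z hz => by obtain ⟨z', hz', rfl⟩ := Finset.mem_image.1 hz; exact hmaps hz')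
    (by rw [Finset.card_image_of_injective _ hinj])
  conv_lhs => rw [← himU, Finset.sum_image fun _ _ _ _ h => hinj h]
  rfl

/-- The sum over the nontrivial elements of `P`. -/
theorem sum_pnt_eq : ∃ (E D : ℤ), (D = 1 ∨ D = -1) ∧ (E = 6 ∨ E = (C[(P : Subgroup G)]).relIndex T) ∧
    ∑ y ∈ pnt P, (χ : G → ℂ) y = -((T.relIndex (Subgroup.normalizer ((P : Subgroup G) : Set G)) : ℂ) *
      (charDegree (θ.1 : C[(P : Subgroup G)] → ℂ) : ℂ) * ((E * D : ℤ) : ℂ)) := by
  obtain ⟨hB, hD⟩ := defect_of_root hM P hcard θ hind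
  set b := blockOf M (θ.1 : C[(P : Subgroup G)] → ℂ) with hb
  have hθ : θ.1 ∈ b := self_mem_blockOf hM θ.1
  have D := cycSystem hM hB hD hcard hind
  obtain ⟨X', Y', δ, δ₀, -, hBXY, -, -, -, -, -, hδ, hδ₀, -, -, -, -, hcX, hcY, -⟩ :=
    prime_structure hM hB hD hcard hind hθ θ.2 T hT
  set a : IrrCharacter C[(P : Subgroup G)] → ℂ := fun η =>
    classInner (fun h : C[(P : Subgroup G)] => (χ : G → ℂ) h) (η : C[(P : Subgroup G)] → ℂ) with ha
  have hb7 : b.toFinset.card = 7 := by
    rw [Set.toFinset_card, ← Nat.card_eq_fintype_card, root_card hM hB hD hcard hind]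
  obtain ⟨E, d, hd, hE, hsum⟩ : ∃ (E d : ℤ), (d = 1 ∨ d = -1) ∧ (E = 6 ∨ E = (C[(P : Subgroup G)]).relIndex T) ∧
      ∑ ξ ∈ b.toFinset, (a ξ - a θ.1) = ((E * d : ℤ) : ℂ) := by
    rw [hBXY] at hχ
    rcases hχ with h | h
    · refine ⟨6, δ χ, hδ χ h, Or.inl rfl, ?_⟩
      rw [← Finset.add_sum_erase _ _ (Set.mem_toFinset.2 hθ), sub_self, zero_add,
        Finset.sum_congr rfl (g := fun _ => (δ χ : ℂ)) fun ξ hξ => by
          simp only [ha]
          rw [hcX χ h ξ (Set.mem_toFinset.1 (Finset.mem_erase.1 hξ).2) (Finset.mem_erase.1 hξ).1,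
            add_sub_cancel_left],
        Finset.sum_const, Finset.card_erase_of_mem (Set.mem_toFinset.2 hθ), hb7, nsmul_eq_mul]
      push_cast
      ring
    · exact ⟨_, δ₀, hδ₀, Or.inr rfl, by rw [hcY χ h]; push_cast; rfl⟩
  refine ⟨E, d, hd, hE, ?_⟩
  set U := (indSet M C[(P : Subgroup G)] B).toFinset
  let triv : IrrCharacter C[(P : Subgroup G)] → Prop := fun η =>
    ∀ z : C[(P : Subgroup G)], (z : G) ∈ (P : Subgroup G) →
      (η : C[(P : Subgroup G)] → ℂ) z = (η : C[(P : Subgroup G)] → ℂ) 1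
  -- a member along the nontrivial elements
  set S : Finset C[(P : Subgroup G)] := Finset.univ.filter fun k => (k : G) ∈ pnt P with hS
  have hS' : ∀ F : G → ℂ, ∑ y ∈ pnt P, F y = ∑ k ∈ S, F (k : G) := fun F => by
    symm
    refine Finset.sum_bij (fun (k : C[(P : Subgroup G)]) _ => (k : G)) (fun k hk => (Finset.mem_filter.1 hk).2)
      (fun _ _ _ _ h => Subtype.ext h) (fun y hy => ?_) fun _ _ => rfl
    exact ⟨⟨y, le_centralizer_self hcard (mem_pnt.1 hy).1⟩, Finset.mem_filter.2 ⟨Finset.mem_univ _, hy⟩, rfl⟩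
  have hη : ∀ η : IrrCharacter C[(P : Subgroup G)], ∑ k ∈ S, (η : C[(P : Subgroup G)] → ℂ) k =
      ((if triv η then (7 : ℂ) else 0) - 1) * (η : C[(P : Subgroup G)] → ℂ) 1 := by
    intro η
    set S' : Finset C[(P : Subgroup G)] := Finset.univ.filter fun k => (k : G) ∈ (P : Subgroup G) with hS'def
    have hins : S' = insert 1 S := by
      ext k
      simp only [hS'def, hS, Finset.mem_filter, Finset.mem_univ, true_and, Finset.mem_insert, mem_pnt]
      constructor
      · intro h
        by_cases h1 : k = 1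
        · exact Or.inl h1
        · exact Or.inr ⟨h, fun e => h1 (Subtype.ext e)⟩
      · rintro (rfl | ⟨h, -⟩)
        exacts [one_mem _, h]
    have hnot : (1 : C[(P : Subgroup G)]) ∉ S := by simp [hS, mem_pnt]
    have hS7 : S'.card = 7 := by
      refine Eq.trans ?_ (Nat.card_eq_fintype_card.symm.trans hcard)
      rw [← Finset.card_univ]
      exact Finset.card_bij (fun k hk => (⟨(k : G), (Finset.mem_filter.1 hk).2⟩ : (P : Subgroup G)))
        (fun _ _ => Finset.mem_univ _) (fun _ _ _ _ h => Subtype.ext (congrArg (fun y : (P : Subgroup G) => (y : G)) h))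
        (fun y _ => ⟨⟨y, le_centralizer_self hcard y.2⟩, Finset.mem_filter.2 ⟨Finset.mem_univ _, y.2⟩, rfl⟩)
    have key : ∑ k ∈ S', (η : C[(P : Subgroup G)] → ℂ) k =
        (if triv η then (7 : ℂ) else 0) * (η : C[(P : Subgroup G)] → ℂ) 1 := by
      split_ifs with htr
      · rw [Finset.sum_congr rfl (g := fun _ => (η : C[(P : Subgroup G)] → ℂ) 1)
          fun k hk => htr k (Finset.mem_filter.1 hk).2, Finset.sum_const, hS7, nsmul_eq_mul]
        norm_num
      · obtain ⟨z, hz, hne⟩ : ∃ z : C[(P : Subgroup G)], (z : G) ∈ (P : Subgroup G) ∧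
            (η : C[(P : Subgroup G)] → ℂ) z ≠ (η : C[(P : Subgroup G)] → ℂ) 1 := by
          simpa [triv] using htr
        obtain ⟨c, -, hc⟩ := exists_central_scalar η
          (subgroupOf_le_center_centralizer (Subgroup.mem_subgroupOf.2 hz))
        have hc1 : c ≠ 1 := fun e => hne (by rw [← mul_one z, hc 1, e, one_mul])
        have him : S'.image (z * ·) = S' := Finset.eq_of_subset_of_card_le
          (fun w hw => by
            obtain ⟨w', hw', rfl⟩ := Finset.mem_image.1 hw
            exact Finset.mem_filter.2 ⟨Finset.mem_univ _, mul_mem hz (Finset.mem_filter.1 hw').2⟩)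
          (by rw [Finset.card_image_of_injective _ (mul_right_injective z)])
        have h : ∑ k ∈ S', (η : C[(P : Subgroup G)] → ℂ) k = c * ∑ k ∈ S', (η : C[(P : Subgroup G)] → ℂ) k := by
          conv_lhs => rw [← him, Finset.sum_image fun _ _ _ _ h => mul_left_cancel h]
          rw [Finset.mul_sum]
          exact Finset.sum_congr rfl fun k _ => hc k
        rw [zero_mul]
        have : (c - 1) * ∑ k ∈ S', (η : C[(P : Subgroup G)] → ℂ) k = 0 := by linear_combination -h
        exact (mul_eq_zero.1 this).resolve_left (sub_ne_zero.2 hc1)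
    rw [hins, Finset.sum_insert hnot] at key
    linear_combination key
  rw [hS', Finset.sum_congr rfl (g := fun k : C[(P : Subgroup G)] =>
    ∑ η ∈ U, a η * (η : C[(P : Subgroup G)] → ℂ) k) fun k hk => ?_]
  swap
  · obtain ⟨hkP, hk1⟩ := mem_pnt.1 (Finset.mem_filter.1 hk).2
    have ho : orderOf (k : G) = 7 := orderOf_of_mem hcard hkP hk1
    exact apply_section_eq hM hB hD hcard hind χ hχ k (by rw [pPt_of_order ho]; exact hkP)
      (fun h => h (by rw [ho]))
  rw [Finset.sum_comm, Finset.sum_congr rfl (g := fun η =>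
    (charDegree (θ.1 : C[(P : Subgroup G)] → ℂ) : ℂ) * ((if triv η then (7 : ℂ) else 0) - 1) * a η) fun η hη' => by
      have h1 := D.degree_eq (Set.mem_toFinset.1 hη') hθ
      rw [← Finset.mul_sum, hη]
      rw [apply_one_eq_charDegree θ.1] at h1
      linear_combination (a η * ((if triv η then (7 : ℂ) else 0) - 1)) * h1]
  have hmem : ∀ g ∈ Subgroup.normalizer ((P : Subgroup G) : Set G), ∀ (hgm : ConjMaps g C[(P : Subgroup G)] C[(P : Subgroup G)])
      (z : C[(P : Subgroup G)]), (z : G) ∈ (P : Subgroup G) ↔ (conjIso hgm z : G) ∈ (P : Subgroup G) :=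
    fun g hg hgm z => Subgroup.mem_normalizer_iff.1 hg (z : G)
  rw [sum_indSet_of_inv hM hB hD hcard hind hθ T hT (fun η =>
    (charDegree (θ.1 : C[(P : Subgroup G)] → ℂ) : ℂ) * ((if triv η then (7 : ℂ) else 0) - 1) * a η)
    fun g hg hgm η => by
      have e : a (compIrr (conjIso hgm) η) = a η := by
        have e : (fun k : C[(P : Subgroup G)] => (χ : G → ℂ) k) = fun k => (χ : G → ℂ) (conjIso hgm k : G) :=
          funext fun k => (χ.2.isClassFunction (k : G) g).symm
        simp only [ha]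
        conv_lhs => rw [e]
        exact Char.classInner_comp_equiv (conjIso hgm) (fun k : C[(P : Subgroup G)] => (χ : G → ℂ) k) (η : C[(P : Subgroup G)] → ℂ)
      rw [e]
      congr 3
      refine if_congr ?_ rfl rfl
      simp only [triv, compIrr_apply, map_one]
      constructor
      · intro h z hz
        have := h ((conjIso hgm).symm z) (by rw [hmem g hg hgm, MulEquiv.apply_symm_apply]; exact hz)
        rwa [MulEquiv.apply_symm_apply] at this
      · exact fun h z hz => h _ ((hmem g hg hgm z).1 hz)]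
  have h7 : ∑ ξ ∈ b.toFinset, (if triv ξ then (7 : ℂ) else 0) * a ξ = 7 * a θ.1 := by
    rw [Finset.sum_eq_single θ.1 (fun ξ hξ hne => by
      rw [if_neg fun h => hne (root_trivial_unique hM hB hD hcard hind (Set.mem_toFinset.1 hξ) hθ h θ.2), zero_mul])
      (fun h => absurd (Set.mem_toFinset.2 hθ) h), if_pos θ.2]
  simp only [mul_assoc, sub_mul, one_mul, ← Finset.mul_sum, Finset.sum_sub_distrib, h7]
  rw [Finset.sum_sub_distrib, Finset.sum_const, hb7, nsmul_eq_mul] at hsum
  push_cast at hsum ⊢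
  linear_combination (-(T.relIndex (Subgroup.normalizer ((P : Subgroup G) : Set G)) : ℂ) *
    (charDegree (θ.1 : C[(P : Subgroup G)] → ℂ) : ℂ)) * hsum

end Cfsg.Lib.MTwentyFour.Six
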