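import Cfsg.Agent.Lib.MTwentyFour.Local.Count
import Cfsg.Agent.Lib.MTwentyFour.Eleven.Singular

/-!
Pairs of members of two classes of involutions inverting a Sylow subgroup of prime order.
-/

set_option autoImplicit false
set_option linter.style.haveILetI false
set_option linter.unusedSectionVars false

namespace Cfsg.Lib.MTwentyFour.Six

open Cfsg Cfsg.Lib Cfsg.Lib.Block Cfsg.Lib.MTwentyFour.Eleven
open scoped ComplexConjugate Classical

universe u

noncomputable local instance (priority := high) fintypeSubgroupTwin {A : Type u}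
    [Group A] [Fintype A] (H : Subgroup A) : Fintype H := Fintype.ofFinite H

local notation "C[" P "]" => Subgroup.centralizer (SetLike.coe P)

variable {p : ℕ} [Fact p.Prime] {G : Type u} [Group G] [Fintype G] {P : Sylow p G}
  (hP : Nat.card (P : Subgroup G) = p)

/-- The members of the class of `v` inverting `P`. -/
noncomputable def invs (P : Sylow p G) (v : G) : Finset G :=
  (Char.classFinset v).filter fun a => ∀ x ∈ (P : Subgroup G), a * x * a⁻¹ = x⁻¹

theorem mem_invs {v a : G} :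
    a ∈ invs P v ↔ IsConj v a ∧ ∀ x ∈ (P : Subgroup G), a * x * a⁻¹ = x⁻¹ := by
  simp [invs, Char.mem_classFinset]

/-- There are no more inverters than elements of the centralizer. -/
theorem card_invs_le (v : G) : (invs P v).card ≤ Nat.card C[(P : Subgroup G)] := by
  rcases (invs P v).eq_empty_or_nonempty with h | ⟨a, ha⟩
  · simp [h]
  rw [Nat.card_eq_fintype_card, ← Finset.card_univ]
  refine le_trans ?_ (Finset.card_image_le (f := fun c : C[(P : Subgroup G)] => a * (c : G)))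
  refine Finset.card_le_card fun b hb => Finset.mem_image.2 ⟨⟨a⁻¹ * b, ?_⟩, Finset.mem_univ _, by simp⟩
  refine Subgroup.mem_centralizer_iff.2 fun x hx => ?_
  have h1 := (mem_invs.1 ha).2 x hx
  have h2 := (mem_invs.1 hb).2 x hx
  have h3 : a⁻¹ * b * x * (a⁻¹ * b)⁻¹ = x := by
    calc a⁻¹ * b * x * (a⁻¹ * b)⁻¹ = a⁻¹ * (b * x * b⁻¹) * a := by group
      _ = a⁻¹ * (a * x * a⁻¹) * a := by rw [h2, h1]
      _ = x := by group
  exact (mul_inv_eq_iff_eq_mul.1 h3).symm

include hP

variable {e c : ℕ} (S : Small.Shape P e) (hC : Nat.card C[(P : Subgroup G)] = p * c)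
include S hC

/-- The inverters in two classes of involutions and the mixed singular sum. -/
theorem class_pair (hp2 : p ≠ 2) {v w : G} (hv : orderOf v = 2) (hw : orderOf w = 2) {m n : ℕ}
    (hm : (invs P v).card = p * m) (hn : (invs P w).card = p * n) :
    ((p * m * n : ℕ) : ℂ) * (Nat.card (Subgroup.centralizer ({v} : Set G)) : ℂ) *
        (Nat.card (Subgroup.centralizer ({w} : Set G)) : ℂ) =
      (c : ℂ) * (Nat.card G : ℂ) *
        ∑ χ ∈ S.Z, (S.σ χ : ℂ) * ((χ : G → ℂ) v * (χ : G → ℂ) w / (χ : G → ℂ) 1) := by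
  have hv2 : v ^ 2 = 1 := hv ▸ pow_orderOf_eq_one v
  have hw2 : w ^ 2 = 1 := hw ▸ pow_orderOf_eq_one w
  have hvp := MTwentyTwo.not_dvd_orderOf (G := G) Fact.out hp2 hv
  have hwp := MTwentyTwo.not_dvd_orderOf (G := G) Fact.out hp2 hw
  set I := invs P v with hI
  set J := invs P w with hJ
  set R := (I ×ˢ J).filter fun q => q.1 * q.2 ∈ regs P with hR
  set A := (I ×ˢ J).filter fun q => q.1 * q.2 ∈ sing P with hA
  have hC' : ∀ q ∈ I ×ˢ J, q.1 * q.2 ∈ C[(P : Subgroup G)] := by
    intro q hq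
    obtain ⟨h1, h2⟩ := Finset.mem_product.1 hq
    refine Subgroup.mem_centralizer_iff.2 fun x hx => ?_
    have : q.1 * q.2 * x * (q.1 * q.2)⁻¹ = x := by
      calc q.1 * q.2 * x * (q.1 * q.2)⁻¹ = q.1 * (q.2 * x * q.2⁻¹) * q.1⁻¹ := by group
        _ = x := by rw [(mem_invs.1 h2).2 x hx, (mem_invs.1 h1).2 _ (inv_mem hx), inv_inv]
    exact (mul_inv_eq_iff_eq_mul.1 this).symm
  have hsplit : A.card + R.card = I.card * J.card := by
    rw [← Finset.card_product, hA, hR,
      Finset.filter_congr (q := fun q => p ∣ orderOf (q.1 * q.2)) fun q hq => by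
        rw [mem_sing]; exact and_iff_right (hC' q hq),
      Finset.filter_congr (s := I ×ˢ J) (p := fun q => q.1 * q.2 ∈ regs P)
        (q := fun q => ¬ p ∣ orderOf (q.1 * q.2)) fun q hq => by
        rw [mem_regs]; exact and_iff_right (hC' q hq)]
    exact Finset.card_filter_add_card_filter_not _
  have hIR : I.card * J.card = p * R.card := by
    rw [← Finset.card_product,
      show p * R.card = ((Finset.univ.filter (· ∈ (P : Subgroup G))) ×ˢ R).card by
        rw [Finset.card_product, ← Fintype.card_subtype, ← Nat.card_eq_fintype_card, hP]]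
    refine Finset.card_nbij' (fun q => (pPt p (q.1 * q.2), (q.1, q.2 * (pPt p (q.1 * q.2))⁻¹)))
      (fun r => (r.2.1, r.2.2 * r.1)) ?_ ?_ ?_ ?_
    · intro q hq
      obtain ⟨h1, h2⟩ := Finset.mem_product.1 hq
      have hx : pPt p (q.1 * q.2) ∈ (P : Subgroup G) := pPt_mem_of_cent P ⟨_, hC' q hq⟩
      refine Finset.mem_product.2 ⟨by simp [hx], Finset.mem_filter.2 ⟨Finset.mem_product.2 ⟨h1,
        mem_invs.2 (inverter_mul hP hp2 (mem_invs.1 h2).1 (mem_invs.1 h2).2 (inv_mem hx))⟩, ?_⟩⟩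
      show q.1 * (q.2 * (pPt p (q.1 * q.2))⁻¹) ∈ regs P
      have e1 : q.1 * (q.2 * (pPt p (q.1 * q.2))⁻¹) = pReg p (q.1 * q.2) := by
        rw [← mul_assoc, mul_inv_eq_iff_eq_mul, ← (pPt_commute_pReg _).eq, pPt_mul_pReg]
      rw [e1]
      exact pReg_mem_regs hP (hC' q hq)
    · intro r hr
      obtain ⟨hx, hr⟩ := Finset.mem_product.1 hr
      obtain ⟨hr, -⟩ := Finset.mem_filter.1 hr
      obtain ⟨h1, h2⟩ := Finset.mem_product.1 hr
      exact Finset.mem_product.2 ⟨h1, mem_invs.2 (inverter_mul hP hp2 (mem_invs.1 h2).1 (mem_invs.1 h2).2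
        (Finset.mem_filter.1 hx).2)⟩
    · intro q _
      simp
    · intro r hr
      obtain ⟨hx, hr⟩ := Finset.mem_product.1 hr
      have hx' := (Finset.mem_filter.1 hx).2
      obtain ⟨hr, hreg⟩ := Finset.mem_filter.1 hr
      have hc : Commute r.1 (r.2.1 * r.2.2) :=
        Subgroup.mem_centralizer_iff.1 (hC' r.2 hr) r.1 hx'
      have e1 : pPt p (r.2.1 * (r.2.2 * r.1)) = r.1 := by
        rw [← mul_assoc, ← hc.eq]; exact pPt_mul hP hx' hreg
      simp [e1]
  have hRm : R.card = p * m * n := by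
    refine Nat.eq_of_mul_eq_mul_left (Fact.out : p.Prime).pos ?_
    rw [← hIR, hm, hn]; ring
  have hclv : ((Char.classFinset v).card : ℂ) *
      (Nat.card (Subgroup.centralizer ({v} : Set G)) : ℂ) = (Nat.card G : ℂ) := by
    rw [Char.card_classFinset, ← Nat.cast_mul, mul_comm, Subgroup.card_mul_index]
  have hclw : ((Char.classFinset w).card : ℂ) *
      (Nat.card (Subgroup.centralizer ({w} : Set G)) : ℂ) = (Nat.card G : ℂ) := by
    rw [Char.card_classFinset, ← Nat.cast_mul, mul_comm, Subgroup.card_mul_index]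
  have hcount : A.card = ∑ h ∈ sing P,
      ((Char.classFinset v ×ˢ Char.classFinset w).filter fun q => q.1 * q.2 = h).card := by
    rw [Finset.card_eq_sum_card_fiberwise (s := A) (f := fun q : G × G => q.1 * q.2) (t := sing P)
      (fun q hq => Finset.mem_coe.2 (Finset.mem_filter.1 (Finset.mem_coe.1 hq)).2)]
    refine Finset.sum_congr rfl fun h hh => congrArg Finset.card ?_
    ext ⟨a, b⟩
    simp only [hA, hI, hJ, Finset.mem_filter, Finset.mem_product, mem_invs, Char.mem_classFinset]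
    constructor
    · rintro ⟨⟨⟨⟨h1, -⟩, h2, -⟩, -⟩, h3⟩
      exact ⟨⟨h1, h2⟩, h3⟩
    · rintro ⟨⟨h1, h2⟩, rfl⟩
      have haa := MTwentyTwo.sq_eq_one_of_isConj hv2 h1
      have hbb := MTwentyTwo.sq_eq_one_of_isConj hw2 h2
      obtain ⟨hx, hx1⟩ := mem_pnt.1 (pPt_mem_pnt hP hh)
      have key : ∀ g : G, g * (a * b) * g⁻¹ = (a * b)⁻¹ → ∀ x ∈ (P : Subgroup G), g * x * g⁻¹ = x⁻¹ := by
        intro g hg x hxP
        have h := congrArg (pPt p) hg
        rw [pPt_conj, pPt_inv] at h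
        rw [← Small.zpowers_eq_of_prime_card hP hx hx1] at hxP
        obtain ⟨i, rfl⟩ := Subgroup.mem_zpowers_iff.1 hxP
        rw [← conj_zpow, h, inv_zpow]
      refine ⟨⟨⟨⟨h1, key a ?_⟩, h2, key b ?_⟩, hh⟩, rfl⟩
      · rw [mul_inv_rev, MTwentyTwo.inv_eq_self haa, MTwentyTwo.inv_eq_self hbb, ← mul_assoc, ← pow_two,
          haa, one_mul]
      · rw [mul_inv_rev, MTwentyTwo.inv_eq_self haa, MTwentyTwo.inv_eq_self hbb]
        calc b * (a * b) * b = b * a * (b ^ 2) := by rw [pow_two]; group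
          _ = b * a := by rw [hbb, mul_one]
  have hkey : (A.card : ℂ) = ((Char.classFinset v).card : ℂ) * (Char.classFinset w).card /
      (Nat.card G : ℂ) * ((((p - 1) * c : ℕ) : ℂ) *
        ∑ χ ∈ S.Z, (S.σ χ : ℂ) * ((χ : G → ℂ) v * (χ : G → ℂ) w / (χ : G → ℂ) 1)) := by
    rw [hcount, Nat.cast_sum, Finset.sum_congr rfl fun (h : G) _ => Char.card_class_product v w h,
      ← Finset.mul_sum, Finset.sum_comm, ← Local.sum_family hP S hC hvp hwp]
    congr 1
    refine Finset.sum_congr rfl fun χ _ => ?_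
    rw [sSum, map_sum, Finset.mul_sum, Finset.sum_div]
  have hA' : (A.card : ℂ) = ((p : ℂ) - 1) * ((p * m * n : ℕ) : ℂ) := by
    have : A.card + p * m * n = p * (p * m * n) := by rw [← hRm, hsplit, hIR]
    have h' : (A.card : ℂ) + ((p * m * n : ℕ) : ℂ) = (p : ℂ) * ((p * m * n : ℕ) : ℂ) := by
      exact_mod_cast this
    linear_combination h'
  have hG : (Nat.card G : ℂ) ≠ 0 := Nat.cast_ne_zero.2 Nat.card_pos.ne'
  have hp1 : (p : ℂ) - 1 ≠ 0 := sub_ne_zero.2 (by exact_mod_cast (Fact.out : p.Prime).ne_one)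
  apply mul_left_cancel₀ hp1
  apply mul_left_cancel₀ hG
  rw [hA', Nat.cast_mul (p - 1) c, Nat.cast_sub (Fact.out : p.Prime).one_lt.le, Nat.cast_one] at hkey
  set T := ∑ χ ∈ S.Z, (S.σ χ : ℂ) * ((χ : G → ℂ) v * (χ : G → ℂ) w / (χ : G → ℂ) 1)
  field_simp at hkey
  linear_combination ((p : ℂ) - 1) * (Nat.card (Subgroup.centralizer ({v} : Set G)) : ℂ) *
      (Nat.card (Subgroup.centralizer ({w} : Set G)) : ℂ) * hkey +
    ((p : ℂ) - 1) * (c : ℂ) * T * (((Char.classFinset w).card : ℂ) *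
        (Nat.card (Subgroup.centralizer ({w} : Set G)) : ℂ) * hclv + (Nat.card G : ℂ) * hclw)

end Cfsg.Lib.MTwentyFour.Six
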