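import Cfsg.Agent.Lib.MTwentyFour.Six.RowBasic
import Cfsg.Agent.Lib.MTwentyFour.Six.Family
import Cfsg.Agent.Lib.MTwentyFour.Six.Twin
import Cfsg.Agent.Lib.MTwentyFour.Local.Values
import Cfsg.Agent.Lib.MTwentyFour.Local.Five

/-!
The values at an involution lie in the computed rows when the cofactor at 7 is 24.
-/

set_option autoImplicit false
set_option linter.style.haveILetI false
set_option linter.unusedSectionVars false
set_option maxHeartbeats 1000000

namespace Cfsg.Lib.MTwentyFour.Six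

open Cfsg Cfsg.Lib Cfsg.Lib.Block Cfsg.Lib.MTwentyFour.Eleven Cfsg.Lib.MTwentyFour.Local
open Cfsg.Lib.MTwentyFour.Search (ord24 v11)
open scoped ComplexConjugate Classical

universe u

noncomputable local instance (priority := high) fintypeSubgroupRowValues {A : Type u}
    [Group A] [Fintype A] (H : Subgroup A) : Fintype H := Fintype.ofFinite H

local notation "C[" P "]" => Subgroup.centralizer (SetLike.coe P)
local notation "Cz(" v ")" => Nat.card (Subgroup.centralizer ({v} : Set _))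

section General

variable {G : Type u} [Group G] [Fintype G]

/-- A class invariant of a centralizer. -/
theorem card_cent_conj (g v : G) :
    Nat.card (Subgroup.centralizer ({g * v * g⁻¹} : Set G)) = Nat.card (Subgroup.centralizer ({v} : Set G)) := by
  refine (Nat.card_congr (Equiv.subtypeEquiv (MulAut.conj g).toEquiv fun y => ?_)).symm
  simp only [MulEquiv.toEquiv_eq_coe, MulEquiv.coe_toEquiv, Subgroup.mem_centralizer_singleton_iff,
    MulAut.conj_apply]
  constructor
  · intro hy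
    calc g * y * g⁻¹ * (g * v * g⁻¹) = g * (y * v) * g⁻¹ := by group
      _ = g * v * g⁻¹ * (g * y * g⁻¹) := by rw [hy]; group
  · intro hy
    calc y * v = g⁻¹ * (g * y * g⁻¹ * (g * v * g⁻¹)) * g := by group
      _ = v * y := by rw [hy]; group

theorem intVal_conj (g v : G) (χ : IrrCharacter G) :
    MTwentyTwo.intVal (g * v * g⁻¹) χ = MTwentyTwo.intVal v χ := by
  simp only [MTwentyTwo.intVal, χ.2.isCharacter.conj_invariant]

end General

variable {G : Type u} [Group G] [Fintype G] [IsSimpleGroup G] [Fact (Nat.Prime 5)] [Fact (Nat.Prime 7)]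

/-- The five members as a list. -/
def FamList {P : Sylow 7 G} (S : Small.Shape P 6) (χa : IrrCharacter G) (L : List (IrrCharacter G)) : Prop :=
  L.Nodup ∧ ∀ χ, χ ∈ L ↔ χ ∈ five (χa := χa) S

/-- The values at an involution of the named characters and the five members. -/
noncomputable def rowT {P : Sylow 7 G} (S : Small.Shape P 6) (χA χa χB χE : IrrCharacter G)
    (L : List (IrrCharacter G)) (v : G) : TRow :=
  ⟨Cz(v), MTwentyTwo.intVal v χA, MTwentyTwo.intVal v χB, MTwentyTwo.intVal v χa,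
    MTwentyTwo.intVal v χE, L.map (su S v)⟩

/-- No involution commutes with elements of orders 5 and 7. -/
def NoJ (G : Type u) [Group G] : Prop :=
  ∀ j : G, orderOf j = 2 → ¬ 35 ∣ Nat.card (Subgroup.centralizer ({j} : Set G))

variable (X : Ctx G) {Q : Sylow 5 G} {q : ℕ} {S5 : Small.Shape Q 4} {χA χa χB χE : IrrCharacter G}
  (hF : FiveFam Q q S5 χA χa χB χE) {P : Sylow 7 G} (S : Small.Shape P 6)
  (hP : Nat.card C[(P : Subgroup G)] = 7 * 24)
  {L : List (IrrCharacter G)} (hL : FamList S χa L)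
include X hF S hP hL

omit hL in
theorem q_mem : q ∈ [2, 12, 32, 192] := by
  obtain ⟨hQ, -, -, dA, -, dB, -, hZ, -, -, -, -⟩ := hF
  have hA : χA ∈ S5.Z := by simp [hZ]
  have hB : χB ∈ S5.Z := by simp [hZ]
  have h1 := dvd_five X S5 hQ hA
  have h2 := dvd_five X S5 hQ hB
  rw [dA] at h1
  rw [dB] at h2
  have h384 : q ∣ 384 := Nat.dvd_gcd
    (Nat.dvd_of_mul_dvd_mul_left (k := 5796) (by norm_num) (h1.trans (dvd_of_eq (by norm_num : (48964608 : ℕ) = 5796 * 8448))))
    (Nat.dvd_of_mul_dvd_mul_left (k := 5544) (by norm_num) (h2.trans (dvd_of_eq (by norm_num : (48964608 : ℕ) = 5544 * 8832))))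
  have h := List.all_eq_true.1 cof_five_check q (mem_dv (by norm_num) h384)
  have hn := Small.card_normalizer_mul Q
  rw [card_normalizer S5.card_P hQ S5.relIndex_eq, card24 X] at hn
  have h3 : Nat.card (Sylow 5 G) * (4 * q) = 48964608 := by
    refine Nat.eq_of_mul_eq_mul_left (show 0 < 5 by norm_num) ?_
    calc 5 * (Nat.card (Sylow 5 G) * (4 * q)) = Nat.card (Sylow 5 G) * (4 * (5 * q)) := by ring
      _ = _ := hn
  have hpos : 0 < 4 * q := Nat.pos_of_ne_zero fun e => by rw [e, mul_zero] at h3; omega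
  have h4 : Nat.card (Sylow 5 G) % 5 = 1 := by
    have := card_sylow_modEq_one 5 G
    rwa [Nat.ModEq, Nat.one_mod] at this
  rw [← h3] at h
  generalize Nat.card (Sylow 5 G) = n at h h4
  simpa [Nat.mul_div_cancel _ hpos, h4, List.contains_iff_mem] using h

omit hL in
theorem named_facts : χa ∈ S.Z ∧ S.σ χa = 1 ∧ sd S χa = 2024 := by
  obtain ⟨h1, h2⟩ := seven_member X hF S hP (by simp)
  exact ⟨h1, h2, by rw [sd, h2, hF.2.2.2.2.1]; norm_num⟩

theorem fam_facts {χ : IrrCharacter G} (hχ : χ ∈ L) : χ ∈ S.Z ∧ χ ≠ Small.one' G ∧ χ ≠ χa := by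
  have h := (hL.2 χ).1 hχ
  exact ⟨Finset.mem_of_mem_erase (Finset.mem_of_mem_erase h),
    Finset.ne_of_mem_erase (Finset.mem_of_mem_erase h), Finset.ne_of_mem_erase h⟩

/-- A sum over the family. -/
theorem sum_list {M : Type*} [AddCommMonoid M] (f : IrrCharacter G → M) :
    ∑ χ ∈ S.Z, f χ = f (Small.one' G) + (f χa + (L.map f).sum) := by
  rw [sum_family X hF S hP f, ← List.sum_toFinset f hL.1]
  congr 2
  exact Finset.sum_congr (Finset.ext fun χ => by rw [List.mem_toFinset, hL.2]) fun _ _ => rfl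

/-- The members with known degrees are distinct. -/
theorem known_nodup : ([Small.one' G, χA, χB, χa, χE] ++ L).Nodup := by
  have hF' := hF
  obtain ⟨-, -, -, dA, da, dB, dE, -, -, -, -, -⟩ := hF'
  have hne : ∀ {χ ψ : IrrCharacter G}, dg χ ≠ dg ψ → χ ≠ ψ := fun h e => h (e ▸ rfl)
  have h1 : dg (Small.one' G) = 1 := Small.charDegree_one'
  have h7 : ∀ χ ∈ L, ¬ 7 ∣ dg χ := fun χ hχ => S.not_dvd_deg (fam_facts X hF S hP hL hχ).1
  refine List.nodup_append.2 ⟨?_, hL.1, fun a ha b hb e => ?_⟩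
  · simp only [List.nodup_cons, List.mem_cons, List.not_mem_nil, or_false, not_or, List.nodup_nil, not_false_eq_true,
      and_true]
    constructorm* _ ∧ _
    all_goals (apply hne; simp [h1, dA, da, dB, dE])
  · subst e
    obtain ⟨-, n1, n2⟩ := fam_facts X hF S hP hL hb
    have := h7 a hb
    simp only [List.mem_cons, List.not_mem_nil, or_false] at ha
    rcases ha with rfl | rfl | rfl | rfl | rfl
    exacts [n1 rfl, this (by rw [dA]; norm_num), this (by rw [dB]; norm_num), n2 rfl,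
      this (by rw [dE]; norm_num)]

theorem lc_facts : 2024 ∣ lc (L.map (sd S)) ∧ (∀ χ ∈ L, dg χ ∣ lc (L.map (sd S))) ∧
    lc (L.map (sd S)) ≠ 0 := by
  obtain ⟨h1, h2⟩ := lc_dvd (L.map (sd S))
  refine ⟨h1, fun χ hχ => ?_, foldl_lcm_pos _ _ (by norm_num) fun s hs => ?_⟩
  · have := h2 _ (List.mem_map_of_mem hχ)
    rwa [sd_natAbs S (fam_facts X hF S hP hL hχ).1] at this
  · obtain ⟨χ, hχ, rfl⟩ := List.mem_map.1 hs
    exact sd_ne_zero S (fam_facts X hF S hP hL hχ).1

omit X hF hP hL [IsSimpleGroup G] [Fact (Nat.Prime 5)] in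
/-- The weighted sum of products over some members. -/
theorem mix_eq {M : ℤ} (f g : IrrCharacter G → ℤ) : ∀ K : List (IrrCharacter G),
    (∀ χ ∈ K, χ ∈ S.Z ∧ sd S χ ∣ M) →
    ((mix M (K.map (sd S)) (K.map fun χ => S.σ χ * f χ) (K.map fun χ => S.σ χ * g χ) : ℤ) : ℂ) =
      (M : ℂ) * (K.map fun χ => (S.σ χ : ℂ) * ((f χ : ℂ) * (g χ : ℂ) / (dg χ : ℂ))).sum := by
  intro K hK
  induction K with
  | nil => simp [mix]
  | cons χ K ih =>
    obtain ⟨hZ, k, hk⟩ := hK χ (by simp)
    have hs0 := sd_ne_zero S hZ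
    simp only [List.map_cons, mix, List.sum_cons, Int.cast_add, ih fun ψ h => hK ψ (by simp [h])]
    rw [hk, Int.mul_ediv_cancel_left _ hs0, mul_add]
    congr 1
    have hd : (dg χ : ℂ) ≠ 0 := Nat.cast_ne_zero.2 (Block.charDegree_pos χ).ne'
    rw [sd]
    rcases S.sign χ hZ with h | h <;> rw [h] <;> push_cast <;> field_simp

/-- The weighted sum over the family at 7. -/
theorem sum_pair (f g : IrrCharacter G → ℤ) (hf : f (Small.one' G) = 1) :
    (((lc (L.map (sd S)) : ℤ) * g (Small.one' G) + ((lc (L.map (sd S)) : ℤ) / 2024) * (f χa * g χa) +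
      mix (lc (L.map (sd S)) : ℤ) (L.map (sd S)) (L.map fun χ => S.σ χ * f χ) (L.map fun χ => S.σ χ * g χ) : ℤ) : ℂ) =
      ((lc (L.map (sd S)) : ℕ) : ℂ) * ∑ χ ∈ S.Z, (S.σ χ : ℂ) * ((f χ : ℂ) * (g χ : ℂ) / (dg χ : ℂ)) := by
  obtain ⟨h2024, hd, -⟩ := lc_facts X hF S hP hL
  obtain ⟨-, hsa, -⟩ := named_facts X hF S hP
  obtain ⟨k, hk⟩ := (Int.natCast_dvd_natCast.2 h2024 : ((2024 : ℕ) : ℤ) ∣ _)
  rw [sum_list X hF S hP hL, S.sign_one, hsa, hf, hF.2.2.2.2.1,
    show dg (Small.one' G) = 1 from Small.charDegree_one']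
  push_cast
  rw [mix_eq S f g L fun χ hχ => ⟨(fam_facts X hF S hP hL hχ).1,
    Int.natAbs_dvd.1 (by rw [sd_natAbs S (fam_facts X hF S hP hL hχ).1]; exact Int.natCast_dvd_natCast.2 (hd χ hχ))⟩]
  have hk' : ((lc (L.map (sd S)) : ℕ) : ℂ) = 2024 * (k : ℂ) := by exact_mod_cast congrArg (fun n : ℤ => (n : ℂ)) hk
  rw [show ((((lc (L.map (sd S)) : ℕ) : ℤ) / 2024 : ℤ) : ℂ) = (k : ℂ) by
    rw [hk]; norm_num]
  push_cast
  rw [hk']
  ring

omit hP hL in
/-- A group of order 7 acts freely on the products singular at 5. -/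
theorem hits_dvd_seven {x : G} (hx : x ∈ pnt P) (g : G) : 7 ∣ (hits 5 g x).card := by
  obtain ⟨hxP, hx1⟩ := mem_pnt.1 hx
  rw [← S.card_P]
  refine card_dvd_of_free (P : Subgroup G) _ (fun u hu a ha => ?_) fun u hu a ha hc => ?_
  · have hux : u * x * u⁻¹ = x := by
      rw [Subgroup.mem_centralizer_iff.1 (le_centralizer_self S.card_P hu) x hxP |>.symm, mul_inv_cancel_right]
    simp only [hits, Finset.mem_filter, Char.mem_classFinset] at ha ⊢
    refine ⟨ha.1.trans (isConj_iff.2 ⟨u, rfl⟩), ?_⟩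
    rw [show u * a * u⁻¹ * x = u * a * u⁻¹ * (u * x * u⁻¹) by rw [hux],
      show u * a * u⁻¹ * (u * x * u⁻¹) = u * (a * x) * u⁻¹ by group, orderOf_conj']
    exact ha.2
  · by_contra hu1
    obtain ⟨-, k, hk⟩ := Finset.mem_filter.1 ha
    have hk0 : k ≠ 0 := fun h => by rw [h, mul_zero] at hk; exact (orderOf_pos (a * x)).ne' hk
    set r := (a * x) ^ k with hr
    have hro : orderOf r = 5 := by
      rw [hr, orderOf_pow_of_dvd hk0 ⟨5, by rw [hk, mul_comm]⟩, hk, Nat.mul_div_cancel _ (Nat.pos_of_ne_zero hk0)]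
    have hur : Commute u r := ((hc.mul_right (show Commute u x from
      (Subgroup.mem_centralizer_iff.1 (le_centralizer_self S.card_P hu) x hxP).symm))).pow_right k
    have huo : orderOf u = 7 := orderOf_of_mem S.card_P hu hu1
    obtain ⟨R, hR, hrR, hr1⟩ := Eleven.exists_sylow (q := 5) (X.hcard ▸ by norm_num) (X.hcard ▸ by norm_num) hro
    have huR : u ∈ C[(R : Subgroup G)] := by
      rw [← centralizer_singleton_eq hR hrR hr1]
      exact Subgroup.mem_centralizer_singleton_iff.2 hur.eq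
    obtain ⟨n, hn⟩ := MulAction.exists_smul_eq G R Q
    have huQ : n * u * n⁻¹ ∈ C[(Q : Subgroup G)] := by
      refine Subgroup.mem_centralizer_iff.2 fun w hw => ?_
      rw [← hn] at hw
      obtain ⟨w', hw', rfl⟩ := hw
      have hc' := Subgroup.mem_centralizer_iff.1 huR w' hw'
      show n * w' * n⁻¹ * (n * u * n⁻¹) = n * u * n⁻¹ * (n * w' * n⁻¹)
      rw [show n * w' * n⁻¹ * (n * u * n⁻¹) = n * (w' * u) * n⁻¹ by group, hc']
      group
    have h7' := Subgroup.orderOf_dvd_natCard _ huQ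
    rw [orderOf_conj', huo, hF.1] at h7'
    exact hF.2.2.1 (Nat.Coprime.dvd_of_dvd_mul_left (by norm_num) h7')

omit hF hL in
/-- Without elements of order 35 in centralizers of involutions a group of order 8 acts freely. -/
theorem hits_dvd_eight {x : G} (hx : x ∈ pnt P) (g : G) (hJ : NoJ G) : 8 ∣ (hits 5 g x).card := by
  haveI : Fact (Nat.Prime 2) := ⟨Nat.prime_two⟩
  obtain ⟨hxP, hx1⟩ := mem_pnt.1 hx
  have hxo : orderOf x = 7 := orderOf_of_mem S.card_P hxP hx1
  obtain ⟨U, hU⟩ := Sylow.exists_subgroup_card_pow_prime (G := C[(P : Subgroup G)]) 2 (n := 3)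
    (by rw [hP]; norm_num)
  have hU' : Nat.card (U.map C[(P : Subgroup G)].subtype) = 8 := by
    rw [Subgroup.card_map_of_injective (Subgroup.subtype_injective _), hU]; norm_num
  by_contra hn
  obtain ⟨j, r, hj, hjx, hr, hjr⟩ := exists_common (U.map C[(P : Subgroup G)].subtype)
    (IsPGroup.of_card (n := 3) (by rw [hU']; norm_num)) (q := 5) (v := g) (g := x)
    (fun u hu => by
      obtain ⟨u', -, rfl⟩ := hu
      exact (Subgroup.mem_centralizer_iff.1 u'.2 x hxP).symm)
    (by rw [hU']; exact hn)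
  refine hJ j hj ?_
  have a5 : 5 ∣ Nat.card (Subgroup.centralizer ({j} : Set G)) :=
    hr ▸ Subgroup.orderOf_dvd_natCard _ (Subgroup.mem_centralizer_singleton_iff.2 hjr.eq.symm)
  have a7 : 7 ∣ Nat.card (Subgroup.centralizer ({j} : Set G)) :=
    hxo ▸ Subgroup.orderOf_dvd_natCard _ (Subgroup.mem_centralizer_singleton_iff.2 hjx.eq.symm)
  exact Nat.Coprime.mul_dvd_of_dvd_of_dvd (by norm_num : Nat.Coprime 5 7) a5 a7

omit hF hP hL in
theorem exists_pnt : ∃ x, x ∈ pnt P := by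
  obtain ⟨⟨x, hxP⟩, hxo⟩ := exists_prime_orderOf_dvd_card' (G := (P : Subgroup G)) 7 (by rw [S.card_P])
  rw [Subgroup.orderOf_mk] at hxo
  exact ⟨x, mem_pnt.2 ⟨hxP, fun e => by rw [e, orderOf_one] at hxo; norm_num at hxo⟩⟩

variable {v : G} (hv : orderOf v = 2)
include hv

omit hF S hP hL in
theorem cent_mem : Cz(v) ∈ dv 967680 := mem_dv (by norm_num) (centralizer_dvd X hv)

omit hF hL in
/-- Congruence at a prime dividing the centralizer order. -/
theorem mod_of_dvd {p : ℕ} [Fact p.Prime] {R : Sylow p G} {e : ℕ} (T : Small.Shape R e)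
    (hp2 : p ≠ 2) (hfac : (Nat.card G).factorization p = 1) (hd : p ∣ Cz(v))
    {χ : IrrCharacter G} (h : χ ∈ T.Z ∨ p ∣ dg χ) :
    (p : ℤ) ∣ MTwentyTwo.intVal v χ - (dg χ : ℤ) := by
  obtain ⟨⟨x, hx⟩, hxo⟩ := exists_prime_orderOf_dvd_card' (G := Subgroup.centralizer ({v} : Set G)) p hd
  rw [Subgroup.orderOf_mk] at hxo
  obtain ⟨R', hR'⟩ := (IsPGroup.of_card (G := ↥(Subgroup.zpowers x)) (p := p) (n := 1)
    (by rw [Nat.card_zpowers, hxo, pow_one])).exists_le_sylow
  obtain ⟨g, hg⟩ := MulAction.exists_smul_eq G R' R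
  have hgx : g * x * g⁻¹ ∈ (R : Subgroup G) := by
    rw [← hg, Sylow.coe_subgroup_smul]
    exact Subgroup.smul_mem_pointwise_smul x (MulAut.conj g) _ (hR' (Subgroup.mem_zpowers x))
  have hne : g * x * g⁻¹ ≠ 1 := fun h => by
    have := orderOf_conj' g x
    rw [h, orderOf_one, hxo] at this
    exact (Fact.out : p.Prime).ne_one this.symm
  have hvC : g * v * g⁻¹ ∈ C[(R : Subgroup G)] := by
    rw [← centralizer_singleton_eq T.card_P hgx hne]
    exact Subgroup.mem_centralizer_singleton_iff.2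
      ((show Commute v x from (Subgroup.mem_centralizer_singleton_iff.1 hx).symm).map
        (MulAut.conj g).toMonoidHom).eq
  have := mod_of_commute X ((orderOf_conj' g v).trans hv) T hp2 hfac hvC h
  rwa [intVal_conj] at this

theorem valOk_of {χ : IrrCharacter G} {d : ℕ} (hd : dg χ = d) (hne : χ ≠ Small.one' G) {bd : Bool}
    (hbd : bd = true → 11 * ((MTwentyTwo.intVal v χ).natAbs : ℤ) ≤ (dg χ : ℤ) + 10 * v11 (dg χ)) {m : ℕ}
    (hm : (m : ℤ) ∣ MTwentyTwo.intVal v χ - (d : ℤ)) :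
    ValOk (Cz(v)) d m bd (MTwentyTwo.intVal v χ) := by
  have hv2 : v ^ 2 = 1 := hv ▸ pow_orderOf_eq_one v
  have hq := MTwentyTwo.qof_dvd_intVal χ hv2 rfl
  rw [X.hcard, show MTwentyTwo.deg χ = d from hd] at hq
  refine ⟨hq, ?_, ?_, fun h => hd ▸ hbd h, hm⟩
  · have hle : MTwentyTwo.intVal v χ * MTwentyTwo.intVal v χ ≤ ((Cz(v) : ℕ) : ℤ) := by
      rw [← MTwentyTwo.sum_intVal_sq hv2]
      exact Finset.single_le_sum (f := fun χ => MTwentyTwo.intVal v χ * MTwentyTwo.intVal v χ)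
        (fun _ _ => mul_self_nonneg _) (Finset.mem_univ χ)
    rw [← Int.natAbs_mul_self] at hle
    exact_mod_cast hle
  · rw [← hd]
    exact MTwentyTwo.natAbs_intVal_lt (not_cyclic X hv) hne hv2
      fun e => by rw [e, orderOf_one] at hv; norm_num at hv

omit hP in
theorem valOk_named (hP : Nat.card C[(P : Subgroup G)] = 7 * 24) {χ : IrrCharacter G} {d : ℕ} (hd : dg χ = d)
    (h5 : χ ∈ S5.Z) (h7 : χ ∈ S.Z ∨ 7 ∣ dg χ) (hd1 : d ≠ 1) {bd : Bool}
    (hbd : bd = true → 11 * ((MTwentyTwo.intVal v χ).natAbs : ℤ) ≤ (dg χ : ℤ) + 10 * v11 (dg χ)) :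
    ValOk (Cz(v)) d (mNamed (Cz(v))) bd (MTwentyTwo.intVal v χ) := by
  refine valOk_of X hF S hP hL hv hd (fun e => hd1 ?_) hbd ?_
  · rw [← hd, e]; exact Small.charDegree_one'
  have h4 := four_dvd X hv χ
  rw [hd] at h4
  have d5 : 5 ∣ Cz(v) → (5 : ℤ) ∣ MTwentyTwo.intVal v χ - (d : ℤ) := fun h =>
    hd ▸ mod_of_dvd X S hP hv S5 (by norm_num) (fac_five X) h (Or.inl h5)
  have d7 : 7 ∣ Cz(v) → (7 : ℤ) ∣ MTwentyTwo.intVal v χ - (d : ℤ) := fun h =>
    hd ▸ mod_of_dvd X S hP hv S (by norm_num) (fac_seven X) h h7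
  simp only [mNamed, beq_iff_eq]
  split_ifs with a b b
  · have := d7 (Nat.dvd_of_mod_eq_zero a); have := d5 (Nat.dvd_of_mod_eq_zero b); omega
  · have := d7 (Nat.dvd_of_mod_eq_zero a); omega
  · have := d5 (Nat.dvd_of_mod_eq_zero b); omega
  · omega

theorem valOk_fam {χ : IrrCharacter G} (hχ : χ ∈ L) {bd : Bool}
    (hbd : bd = true → 11 * ((MTwentyTwo.intVal v χ).natAbs : ℤ) ≤ (dg χ : ℤ) + 10 * v11 (dg χ)) :
    ValOk (Cz(v)) (dg χ) (mFam (Cz(v)) (dg χ)) bd (MTwentyTwo.intVal v χ) := by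
  obtain ⟨hZ, hne, -⟩ := fam_facts X hF S hP hL hχ
  refine valOk_of X hF S hP hL hv rfl hne hbd ?_
  have h4 := four_dvd X hv χ
  have d5 : 5 ∣ Cz(v) → 5 ∣ dg χ → (5 : ℤ) ∣ MTwentyTwo.intVal v χ - (dg χ : ℤ) := fun h h' =>
    mod_of_dvd X S hP hv S5 (by norm_num) (fac_five X) h (Or.inr h')
  have d7 : 7 ∣ Cz(v) → (7 : ℤ) ∣ MTwentyTwo.intVal v χ - (dg χ : ℤ) := fun h =>
    mod_of_dvd X S hP hv S (by norm_num) (fac_seven X) h (Or.inl hZ)
  simp only [mFam, beq_iff_eq, Bool.and_eq_true]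
  split_ifs with a b b
  · have := d7 (Nat.dvd_of_mod_eq_zero a)
    have := d5 (Nat.dvd_of_mod_eq_zero b.1) (Nat.dvd_of_mod_eq_zero b.2)
    omega
  · have := d7 (Nat.dvd_of_mod_eq_zero a); omega
  · have := d5 (Nat.dvd_of_mod_eq_zero b.1) (Nat.dvd_of_mod_eq_zero b.2); omega
  · omega

omit hF in
theorem su_eq_sgv {χ : IrrCharacter G} (hZ : χ ∈ S.Z) : su S v χ = sgv (sd S χ) (MTwentyTwo.intVal v χ) := by
  have hpos : (0 : ℤ) < (dg χ : ℤ) := Int.natCast_pos.2 (Block.charDegree_pos χ)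
  rcases S.sign χ hZ with h | h
  · simp [su, sd, sgv, h]
  · simp only [su, sd, sgv, h, neg_one_mul]
    rw [if_neg (by omega)]

theorem rel5 : (rowT S χA χa χB χE L v).E =
    (rowT S χA χa χB χE L v).a + (rowT S χA χa χB χE L v).B - 1 - (rowT S χA χa χB χE L v).A := by
  obtain ⟨-, -, -, dA, da, dB, dE, hZ, sA, sa, sB, sE⟩ := hF
  have hne : ∀ {χ ψ : IrrCharacter G}, dg χ ≠ dg ψ → χ ≠ ψ := fun h e => h (e ▸ rfl)
  have h1 : dg (Small.one' G) = 1 := Small.charDegree_one'
  have h := su_rel S5 X hv (MTwentyTwo.not_dvd_orderOf (G := G) Fact.out (by norm_num) hv)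
  rw [hZ, Finset.sum_insert, Finset.sum_insert, Finset.sum_insert, Finset.sum_insert, Finset.sum_singleton,
    Eleven.su_one] at h
  · simp only [su, sA, sa, sB, sE] at h
    simp only [rowT]
    linarith
  all_goals simp only [Finset.mem_insert, Finset.mem_singleton, not_or]
  all_goals (try constructorm* _ ∧ _)
  all_goals (apply hne; simp [h1, dA, da, dB, dE])

theorem rel7 : (L.map (su S v)).sum = -1 - (rowT S χA χa χB χE L v).a := by
  obtain ⟨-, hsa, -⟩ := named_facts X hF S hP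
  have h := su_rel S X hv (MTwentyTwo.not_dvd_orderOf (G := G) Fact.out (by norm_num) hv)
  rw [sum_list X hF S hP hL, Eleven.su_one, show su S v χa = MTwentyTwo.intVal v χa by rw [su, hsa, one_mul]] at h
  simp only [rowT]
  linarith

theorem sq_known : 1 + (rowT S χA χa χB χE L v).A * (rowT S χA χa χB χE L v).A +
    (rowT S χA χa χB χE L v).B * (rowT S χA χa χB χE L v).B +
    (rowT S χA χa χB χE L v).a * (rowT S χA χa χB χE L v).a +
    (rowT S χA χa χB χE L v).E * (rowT S χA χa χB χE L v).E +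
    ((L.map (su S v)).map fun x => x * x).sum ≤ ((Cz(v) : ℕ) : ℤ) := by
  have hv2 : v ^ 2 = 1 := hv ▸ pow_orderOf_eq_one v
  rw [← MTwentyTwo.sum_intVal_sq hv2]
  refine le_trans (le_of_eq ?_) (Finset.sum_le_sum_of_subset_of_nonneg
    (s := ([Small.one' G, χA, χB, χa, χE] ++ L).toFinset) (Finset.subset_univ _) fun _ _ _ => mul_self_nonneg _)
  rw [List.sum_toFinset _ (known_nodup X hF S hP hL), List.map_append, List.sum_append, List.map_map]
  congr 1
  · simp only [rowT, List.map_cons, List.map_nil, List.sum_cons, List.sum_nil,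
      MTwentyTwo.intVal_eq (z := v) (χ := Small.one' G) (m := 1) (by rw [Small.one'_apply]; norm_num)]
    ring
  · refine congrArg List.sum (List.map_congr_left fun χ hχ => ?_)
    simp only [Function.comp_apply, su]
    rcases S.sign χ (fam_facts X hF S hP hL hχ).1 with h | h <;> rw [h] <;> ring

omit hL in
/-- The square at 5. -/
theorem square5 : ∃ m : ℕ, (q : ℤ) * (ord24 : ℤ) * (127512 + 22 * (MTwentyTwo.intVal v χA * MTwentyTwo.intVal v χA) -
      23 * (MTwentyTwo.intVal v χB * MTwentyTwo.intVal v χB) - 63 * (MTwentyTwo.intVal v χa * MTwentyTwo.intVal v χa) +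
      72 * (MTwentyTwo.intVal v χE * MTwentyTwo.intVal v χE)) =
    (m : ℤ) * (m : ℤ) * (5 * (((Cz(v) : ℕ) : ℤ) * ((Cz(v) : ℕ) : ℤ)) * 127512) := by
  obtain ⟨hQ, -, -, dA, da, dB, dE, hZ, sA, sa, sB, sE⟩ := hF
  obtain ⟨m, -, h, -⟩ := class_square_card S5.card_P S5 hQ (by norm_num) hv
  refine ⟨m, ?_⟩
  have hne : ∀ {χ ψ : IrrCharacter G}, dg χ ≠ dg ψ → χ ≠ ψ := fun h e => h (e ▸ rfl)
  have h1 : dg (Small.one' G) = 1 := Small.charDegree_one'
  rw [card24 X, tSum, hZ, Finset.sum_insert, Finset.sum_insert, Finset.sum_insert, Finset.sum_insert,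
    Finset.sum_singleton] at h
  · simp only [S5.sign_one, sA, sa, sB, sE, cast_val X hv, MEleven.apply_one,
      show MEleven.deg χa = 2024 from da, show MEleven.deg χA = 5796 from dA,
      show MEleven.deg χB = 5544 from dB, show MEleven.deg χE = 1771 from dE,
      show MEleven.deg (Small.one' G) = 1 from Small.charDegree_one',
      MTwentyTwo.intVal_eq (z := v) (χ := Small.one' G) (m := 1) (by rw [Small.one'_apply]; norm_num)] at h
    push_cast at h
    apply Int.cast_injective (α := ℂ)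
    push_cast
    linear_combination (-127512 : ℂ) * h
  all_goals simp only [Finset.mem_insert, Finset.mem_singleton, not_or]
  all_goals (try constructorm* _ ∧ _)
  all_goals (apply hne; simp [h1, dA, da, dB, dE])

/-- The square at 7. -/
theorem square7 : ∃ m : ℕ, m ≤ 24 ∧ (invs P v).card = 7 * m ∧
    tnum (L.map (sd S)) (rowT S χA χa χB χE L v) (rowT S χA χa χB χE L v) =
      (m : ℤ) * (m : ℤ) * (7 * (((Cz(v) : ℕ) : ℤ) * ((Cz(v) : ℕ) : ℤ)) * (lc (L.map (sd S)) : ℤ)) := by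
  obtain ⟨m, -, h, hcard⟩ := class_square_card S.card_P S hP (by norm_num) hv
  have hle := card_invs_le (P := P) v
  rw [hP, show (invs P v).card = 7 * m from hcard] at hle
  refine ⟨m, by omega, hcard, ?_⟩
  have hsp := sum_pair X hF S hP hL (MTwentyTwo.intVal v) (MTwentyTwo.intVal v)
    (MTwentyTwo.intVal_eq (by rw [Small.one'_apply]; norm_num))
  rw [card24 X, tSum] at h
  simp only [cast_val X hv, MEleven.apply_one] at h
  simp only [MTwentyTwo.intVal_eq (z := v) (χ := Small.one' G) (m := 1) (by rw [Small.one'_apply]; norm_num),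
    mul_one] at hsp
  apply Int.cast_injective (α := ℂ)
  simp only [tnum, rowT, show (su S v : IrrCharacter G → ℤ) = fun χ => S.σ χ * MTwentyTwo.intVal v χ from rfl]
  rw [Int.cast_mul, hsp]
  push_cast at h ⊢
  linear_combination (-(lc (L.map (sd S)) : ℂ)) * h

/-- The pair condition. -/
theorem pair_ok {w : G} (hw : orderOf w = 2) :
    pairOk (L.map (sd S)) (rowT S χA χa χB χE L v) (rowT S χA χa χB χE L w) = true := by
  obtain ⟨m, -, hm, hvv⟩ := square7 X hF S hP hL hv
  obtain ⟨n, -, hn, hww⟩ := square7 X hF S hP hL hw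
  have h := class_pair S.card_P S hP (by norm_num) hv hw hm hn
  have hsp := sum_pair X hF S hP hL (MTwentyTwo.intVal v) (MTwentyTwo.intVal w)
    (MTwentyTwo.intVal_eq (by rw [Small.one'_apply]; norm_num))
  simp only [MTwentyTwo.intVal_eq (z := w) (χ := Small.one' G) (m := 1) (by rw [Small.one'_apply]; norm_num),
    mul_one] at hsp
  rw [card24 X] at h
  simp only [cast_val X hv, cast_val X hw, MEleven.apply_one] at h
  have hvw : tnum (L.map (sd S)) (rowT S χA χa χB χE L v) (rowT S χA χa χB χE L w) =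
      (((7 * m * n * Cz(v) * Cz(w) * lc (L.map (sd S)) : ℕ)) : ℤ) := by
    apply Int.cast_injective (α := ℂ)
    simp only [tnum, rowT, show (∀ z, (su S z : IrrCharacter G → ℤ) = fun χ => S.σ χ * MTwentyTwo.intVal z χ) from fun z => rfl]
    rw [Int.cast_mul, hsp]
    push_cast at h ⊢
    linear_combination (-(lc (L.map (sd S)) : ℂ)) * h
  simp only [pairOk, Bool.and_eq_true, decide_eq_true_eq, beq_iff_eq, hvw, hvv, hww]
  refine ⟨Int.natCast_nonneg _, ?_⟩
  push_cast
  ring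

/-- The products of the class with an element of order 7 that are singular at 5. -/
theorem hits_seven {x : G} (hx : x ∈ pnt P) :
    ((hits 5 v x).card : ℤ) * ((Cz(v) : ℕ) : ℤ) = 24192 * (2024 - MTwentyTwo.intVal v χa) := by
  obtain ⟨haZ, hsa, -⟩ := named_facts X hF S hP
  obtain ⟨hQ, -, -, dA, da, dB, dE, hZ, sA, sa, sB, sE⟩ := hF
  obtain ⟨hxP, hx1⟩ := mem_pnt.1 hx
  have hxo : orderOf x = 7 := orderOf_of_mem S.card_P hxP hx1
  have hne : ∀ {χ ψ : IrrCharacter G}, dg χ ≠ dg ψ → χ ≠ ψ := fun h e => h (e ▸ rfl)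
  have h1 : dg (Small.one' G) = 1 := Small.charDegree_one'
  have hcount := hits_count S5.card_P S5 hQ
    (MTwentyTwo.not_dvd_orderOf (G := G) Fact.out (by norm_num) hv) (g := x) (by rw [hxo]; norm_num)
  rw [hZ, Finset.sum_insert, Finset.sum_insert, Finset.sum_insert, Finset.sum_insert, Finset.sum_singleton] at hcount
  · simp only [S5.sign_one, sA, sa, sB, sE, cast_val X hv, MEleven.apply_one, Small.one'_apply,
      value_zero (fac_seven X) χA (by rw [dA]; norm_num) (show 7 ∣ orderOf x by rw [hxo]),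
      value_zero (fac_seven X) χB (by rw [dB]; norm_num) (show 7 ∣ orderOf x by rw [hxo]),
      value_zero (fac_seven X) χE (by rw [dE]; norm_num) (show 7 ∣ orderOf x by rw [hxo]),
      val_one S hP haZ (mem_sing.2 ⟨le_centralizer_self S.card_P hxP, hxo ▸ dvd_rfl⟩), hsa,
      show MEleven.deg χa = 2024 from da,
      show MEleven.deg (Small.one' G) = 1 from Small.charDegree_one',
      MTwentyTwo.intVal_eq (z := v) (χ := Small.one' G) (m := 1) (by rw [Small.one'_apply]; norm_num)] at hcount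
    rw [card24 X] at hcount
    apply Int.cast_injective (α := ℂ)
    push_cast at hcount ⊢
    linear_combination hcount / 20
  all_goals simp only [Finset.mem_insert, Finset.mem_singleton, not_or]
  all_goals (try constructorm* _ ∧ _)
  all_goals (apply hne; simp [h1, dA, da, dB, dE])

theorem md_seven : (24192 * (2024 - MTwentyTwo.intVal v χa)) % ((Cz(v) * 7 : ℕ) : ℤ) = 0 := by
  obtain ⟨x, hx⟩ := exists_pnt X S
  rw [← hits_seven X hF S hP hL hv hx]
  refine Int.emod_eq_zero_of_dvd ?_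
  push_cast
  rw [mul_comm ((Cz(v) : ℕ) : ℤ)]
  exact mul_dvd_mul_right (Int.natCast_dvd_natCast.2 (hits_dvd_seven X hF S hx v) : ((7 : ℕ) : ℤ) ∣ _) _

theorem md_free (hJ : NoJ G) : (24192 * (2024 - MTwentyTwo.intVal v χa)) % ((Cz(v) * 56 : ℕ) : ℤ) = 0 := by
  obtain ⟨x, hx⟩ := exists_pnt X S
  rw [← hits_seven X hF S hP hL hv hx]
  have h56 : 56 ∣ (hits 5 v x).card := Nat.Coprime.mul_dvd_of_dvd_of_dvd (by norm_num : Nat.Coprime 7 8)
    (hits_dvd_seven X hF S hx v) (hits_dvd_eight X S hP hx v hJ)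
  refine Int.emod_eq_zero_of_dvd ?_
  push_cast
  rw [mul_comm ((Cz(v) : ℕ) : ℤ)]
  exact mul_dvd_mul_right (Int.natCast_dvd_natCast.2 h56 : ((56 : ℕ) : ℤ) ∣ _) _

/-- The values are in the computed rows. -/
theorem mem_trows {bd : Bool} (hbd : bd = true → ∀ χ : IrrCharacter G,
      11 * ((MTwentyTwo.intVal v χ).natAbs : ℤ) ≤ (dg χ : ℤ) + 10 * v11 (dg χ)) {md : ℕ}
    (hmd : (24192 * (2024 - MTwentyTwo.intVal v χa)) % ((Cz(v) * md : ℕ) : ℤ) = 0) (k : ℕ) :
    rowT S χA χa χB χE L v ∈ trows (L.map (sd S)) (k * k * q) bd md (Cz(v)) := by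
  obtain ⟨haZ, hsa, -⟩ := named_facts X hF S hP
  have hC := cent_mem X hv
  have hC0 : Cz(v) ≠ 0 := Nat.card_pos.ne'
  have hF' := hF
  obtain ⟨-, -, -, dA, da, dB, dE, hZ, -, -, -, -⟩ := hF'
  have vn : ∀ χ d, dg χ = d → χ ∈ S5.Z → (χ ∈ S.Z ∨ 7 ∣ dg χ) → d ≠ 1 →
      ValOk (Cz(v)) d (mNamed (Cz(v))) bd (MTwentyTwo.intVal v χ) := fun χ d hd h5 h7 h1 =>
    valOk_named X hF S hL hv hP hd h5 h7 h1 fun h => hbd h χ
  have vA := vn χA 5796 dA (by simp [hZ]) (Or.inr (by rw [dA]; norm_num)) (by norm_num)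
  have va := vn χa 2024 da (by simp [hZ]) (Or.inl haZ) (by norm_num)
  have vB := vn χB 5544 dB (by simp [hZ]) (Or.inr (by rw [dB]; norm_num)) (by norm_num)
  have vE := vn χE 1771 dE (by simp [hZ]) (Or.inr (by rw [dE]; norm_num)) (by norm_num)
  have hE := rel5 X hF S hP hL hv
  have hsq := sq_known X hF S hP hL hv
  obtain ⟨m5, h5⟩ := square5 X hF S hP hv
  obtain ⟨m7, hm7, -, h7⟩ := square7 X hF S hP hL hv
  simp only [rowT] at hE hsq h7
  set A := MTwentyTwo.intVal v χA
  set B := MTwentyTwo.intVal v χB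
  set a := MTwentyTwo.intVal v χa
  set E := MTwentyTwo.intVal v χE
  set us := L.map (su S v) with hus
  refine List.mem_flatMap.2 ⟨(A, B, a, E), ?_, List.mem_filter.2 ⟨List.mem_map.2 ⟨us, ?_, rfl⟩,
    sqSeven_of hC0 (lc_facts X hF S hP hL).2.2 m7 hm7 h7⟩⟩
  · refine List.mem_flatMap.2 ⟨a, List.mem_filter.2 ⟨mem_vd hC va, by simpa using hmd⟩,
      List.mem_flatMap.2 ⟨A, mem_vd hC vA, List.mem_filterMap.2 ⟨B, mem_vd hC vB, ?_⟩⟩⟩
    rw [← hE, if_pos]
    simp only [Bool.and_eq_true, decide_eq_true_eq]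
    refine ⟨⟨?_, inVd_of hC vE⟩, sqFive_of hC0 k m5 h5⟩
    have : 0 ≤ (us.map fun x => x * x).sum := List.sum_nonneg (by simp [mul_self_nonneg])
    linarith
  · have hne : L ≠ [] := fun e => by
      have h := card_five X hF S hP
      rw [← show L.toFinset = five (χa := χa) S from Finset.ext fun χ => by rw [List.mem_toFinset, hL.2], e] at h
      simp at h
    have hlast : L.getLast hne ∈ L := List.getLast_mem hne
    have hL' := (List.dropLast_append_getLast hne).symm
    set χl := L.getLast hne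
    set K := L.dropLast
    simp only [search]
    rw [show (L.map (sd S)).reverse = sd S χl :: (K.map (sd S)).reverse by rw [hL']; simp]
    simp only [List.reverse_reverse]
    rw [show us = K.map (su S v) ++ [su S v χl] by rw [hus, hL']; simp]
    refine mem_dfs _ _ _ _ _ _ ?_ ?_ ?_ ?_
    · rw [List.forall₂_map_left_iff, List.forall₂_map_right_iff, List.forall₂_map_right_iff, List.forall₂_same]
      intro χ hχ
      have hχL : χ ∈ L := by rw [hL']; exact List.mem_append_left _ hχ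
      have hZ' := (fam_facts X hF S hP hL hχL).1
      refine List.mem_map.2 ⟨MTwentyTwo.intVal v χ, ?_, (su_eq_sgv X S hP hL hv hZ').symm⟩
      rw [sd_natAbs S hZ']
      exact mem_vd hC (valOk_fam X hF S hP hL hv hχL fun h => hbd h χ)
    · have hZ' := (fam_facts X hF S hP hL hlast).1
      show inVd _ _ _ _ _ = true
      rw [su_eq_sgv X S hP hL hv hZ', sgv_sgv, sd_natAbs S hZ']
      exact inVd_of hC (valOk_fam X hF S hP hL hv hlast fun h => hbd h χl)
    · have hr := rel7 X hF S hP hL hv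
      simp only [rowT] at hr
      rw [hL'] at hr
      simpa using hr
    · rw [hus, hL'] at hsq
      simp at hsq ⊢
      linarith

end Cfsg.Lib.MTwentyFour.Six
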