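import Cfsg.Agent.Lib.MTwentyFour.Six.RootMod
import Cfsg.Agent.Lib.MTwentyFour.Six.RowValues
import Cfsg.Agent.Lib.MTwentyFour.RootBlock

/-!
The values at a central involution of the characters of degrees 540 and 3840 modulo 7.
-/

set_option autoImplicit false
set_option linter.style.haveILetI false
set_option linter.unusedSectionVars false
set_option maxHeartbeats 1000000

namespace Cfsg.Lib.MTwentyFour.Six

open Cfsg Cfsg.Lib Cfsg.Lib.Block Cfsg.Lib.MTwentyFour.Eleven Cfsg.Lib.MTwentyFour.Local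
open Cfsg.Lib.MTwentyFour.Search (ord24)
open scoped ComplexConjugate Classical

universe u

noncomputable local instance (priority := high) fintypeSubgroupRootOk {A : Type u}
    [Group A] [Fintype A] (H : Subgroup A) : Fintype H := Fintype.ofFinite H

local notation "C[" P "]" => Subgroup.centralizer (SetLike.coe P)

variable {G : Type u} [Group G] [Fintype G] [IsSimpleGroup G] [Fact (Nat.Prime 5)] [Fact (Nat.Prime 7)]
  (X : Ctx G) {P : Sylow 7 G} (S : Small.Shape P 6)
  (hP : Nat.card C[(P : Subgroup G)] = 7 * 24)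
include X S hP

/-- The sum over the nontrivial elements of `P` of a character of degree 3840 is six times 4 or -10. -/
theorem sum_pnt_value {χ : IrrCharacter G} (hd : dg χ = 3840) :
    ∃ a : ℤ, (a = 4 ∨ a = -10) ∧
      ((∃ m : ℤ, ∑ y ∈ pnt P, (χ : G → ℂ) y = m) → ∑ y ∈ pnt P, (χ : G → ℂ) y = ((6 * a : ℤ) : ℂ)) := by
  by_cases hm : ∃ m : ℤ, ∑ y ∈ pnt P, (χ : G → ℂ) y = m
  swap
  · exact ⟨4, Or.inl rfl, fun h => absurd h hm⟩
  obtain ⟨m, hm⟩ := hm
  obtain ⟨⟨x, hxP⟩, hxo⟩ := exists_prime_orderOf_dvd_card' (G := (P : Subgroup G)) 7 (by rw [S.card_P])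
  rw [Subgroup.orderOf_mk] at hxo
  have hx1 : x ≠ 1 := fun e => by rw [e, orderOf_one] at hxo; norm_num at hxo
  set N := Subgroup.normalizer ((P : Subgroup G) : Set G) with hN
  have hCx : Subgroup.centralizer ({x} : Set G) = C[(P : Subgroup G)] := centralizer_singleton_eq S.card_P hxP hx1
  have horb := card_orbit N x
  rw [hCx, inf_eq_right.2 (Subgroup.centralizer_le_normalizer _), hP,
    card_normalizer S.card_P hP S.relIndex_eq] at horb
  have h6 : ((Finset.univ.filter (· ∈ N)).image fun n => n * x * n⁻¹).card = 6 := by omega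
  have himg : ((Finset.univ.filter (· ∈ N)).image fun n => n * x * n⁻¹) = pnt P := by
    refine Finset.eq_of_subset_of_card_le (fun y hy => ?_) (by rw [h6, card_pnt S.card_P])
    obtain ⟨n, hn, rfl⟩ := Finset.mem_image.1 hy
    exact mem_pnt.2 ⟨(Subgroup.mem_normalizer_iff.1 (Finset.mem_filter.1 hn).2 x).1 hxP,
      fun e => hx1 (conj_eq_one_iff.1 e)⟩
  have hall : ∑ y ∈ pnt P, (χ : G → ℂ) y = 6 * (χ : G → ℂ) x := by
    rw [Finset.sum_congr rfl (g := fun _ => (χ : G → ℂ) x) fun y hy => ?_, Finset.sum_const, card_pnt S.card_P,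
      nsmul_eq_mul]
    · norm_num
    · rw [← himg] at hy
      obtain ⟨n, -, rfl⟩ := Finset.mem_image.1 hy
      exact χ.2.isCharacter.conj_invariant _ _
  have hint := χ.2.isCharacter.isIntegral x
  obtain ⟨a, ha, -⟩ := rat_int hint (show (6 : ℤ) ≠ 0 by norm_num) (n := m)
    (by rw [← hm, hall]; norm_num)
  -- parity from the class sum
  have hcl : (Char.classFinset x).card = 1457280 := by
    have h := Char.card_classFinset x
    have h2 := Subgroup.card_mul_index (Subgroup.centralizer ({x} : Set G))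
    rw [hCx, hP, card24 X] at h2
    rw [h, hCx]
    omega
  have hK := χ.2.isIntegral_class x
  rw [hcl, ha, apply_one_eq_charDegree, show charDegree (χ : G → ℂ) = 3840 from hd] at hK
  obtain ⟨k, -, hk⟩ := rat_int hK (show (3840 : ℤ) ≠ 0 by norm_num) (n := 1457280 * a) (by push_cast; ring)
  -- congruence
  have h7 : (7 : ℤ) ∣ a - 3840 := by
    refine int_dvd_of_memLocalIdeal S.hM ?_
    have h := charVal_sub_pReg_mem (p := 7) S.hM χ.2.isCharacter x
    rw [show pReg 7 x = 1 from (eq_pReg (mul_one x) (Commute.one_right x) (k := 1) (by rw [pow_one, hxo])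
      (by simp)).symm, ha, apply_one_eq_charDegree, show charDegree (χ : G → ℂ) = 3840 from hd] at h
    simpa using h
  -- size
  have hsq : a * a ≤ 168 := by
    have h := Char.column_orthogonality x x
    rw [if_pos (IsConj.refl x), hCx, hP] at h
    have e : ∀ φ : IrrCharacter G, (φ : G → ℂ) x * conj ((φ : G → ℂ) x) = ((Complex.normSq ((φ : G → ℂ) x) : ℝ) : ℂ) :=
      fun φ => Complex.mul_conj _
    rw [Finset.sum_congr rfl fun φ _ => e φ, ← Complex.ofReal_sum] at h
    have h' : ∑ φ : IrrCharacter G, Complex.normSq ((φ : G → ℂ) x) = 168 := by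
      rw [← Complex.ofReal_inj, h]; norm_num
    have h1 : Complex.normSq ((χ : G → ℂ) x) ≤ 168 := h' ▸
      Finset.single_le_sum (f := fun φ : IrrCharacter G => Complex.normSq ((φ : G → ℂ) x))
        (fun φ _ => Complex.normSq_nonneg _) (Finset.mem_univ χ)
    rw [ha, Complex.normSq_intCast] at h1
    have h2 : ((a * a : ℤ) : ℝ) ≤ ((168 : ℤ) : ℝ) := by push_cast; linarith
    exact_mod_cast h2
  refine ⟨a, ?_, fun _ => by rw [hall, ha]; push_cast; ring⟩
  have hlo : -12 ≤ a := by nlinarith
  have hhi : a ≤ 12 := by nlinarith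
  interval_cases a <;> omega

/-- The congruence at a central involution. -/
theorem root_ok {v : G} (hv : Central P v) {χ : IrrCharacter G} {d : ℕ} (hd : dg χ = d)
    (hd' : d ∈ [45, 540, 3840]) :
    rootOk (Nat.card (Subgroup.centralizer ({v} : Set G))) d (MTwentyTwo.intVal v χ) = true := by
  simp only [List.mem_cons, List.not_mem_nil, or_false] at hd'
  simp only [rootOk, Bool.or_eq_true, Bool.and_eq_true, beq_iff_eq]
  rcases eq_or_ne d 45 with e45 | e45
  · exact Or.inl (Or.inl e45)
  have h7d : ¬ 7 ∣ dg χ := by rw [hd]; rcases hd' with rfl | rfl | rfl <;> omega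
  obtain ⟨hv2, hvC, hcase⟩ := hv
  obtain ⟨θ, hind⟩ := exists_root S.hM P S.card_P h7d
  have hχ : χ ∈ blockOf S.M (χ : G → ℂ) := self_mem_blockOf S.hM χ
  obtain ⟨T, hT, hCT, hTN⟩ := exists_stab S.hM P S.card_P θ hind
  set f := charDegree (θ.1 : C[(P : Subgroup G)] → ℂ) with hf
  set r := T.relIndex (Subgroup.normalizer ((P : Subgroup G) : Set G)) with hr
  have hf0 : 0 < f := charDegree_pos θ.1
  have hQ : Nat.card (C[(P : Subgroup G)] ⧸ coreC P) = 24 := by
    have h := (coreC P).card_eq_card_quotient_mul_card_subgroup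
    rw [Nat.card_congr (Subgroup.subgroupOfEquivOfLe (le_centralizer_self S.card_P)).toEquiv, S.card_P, hP] at h
    omega
  have hrf := card_triv_roots S.hM P S.card_P θ hind hχ T hT
  rw [hQ, ← hr, ← hf] at hrf
  have her := Subgroup.relIndex_mul_relIndex _ T _ hCT hTN
  rw [S.relIndex_eq, ← hr] at her
  have hr0 : 0 < r := Nat.pos_of_ne_zero fun e => by rw [e, mul_zero] at her; omega
  have hf4 : f ≤ 4 := by nlinarith
  have hf7 : ¬ (7 : ℤ) ∣ (f : ℤ) := fun h => by omega
  have hvreg : ¬ 7 ∣ orderOf v := by rw [hv2]; norm_num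
  set C := Nat.card (Subgroup.centralizer ({v} : Set G)) with hC
  set t := MTwentyTwo.intVal v χ with ht
  have hd7 : ∀ {t' : ℤ}, (7 : ℤ) ∣ t' * f → (7 : ℤ) ∣ t' := fun h =>
    ((Int.prime_iff_natAbs_prime.2 (by norm_num : Nat.Prime (7 : ℤ).natAbs)).dvd_or_dvd h).resolve_right hf7
  have hχ1 : (χ : G → ℂ) 1 = (d : ℂ) := by
    rw [apply_one_eq_charDegree, show charDegree (χ : G → ℂ) = d from hd]
  have hconjv : ∀ n : G, (χ : G → ℂ) (n * v * n⁻¹) = (t : ℂ) := fun n => by
    rw [χ.2.isCharacter.conj_invariant]; exact cast_val X hv2 χ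
  rcases hcase with ⟨hcen, hC1, hC2⟩ | ⟨O, hO3, hvO, hO, hOmul, hC1, hC2⟩
  · left; right
    refine ⟨⟨hC1, hC2⟩, ?_⟩
    set k : C[(P : Subgroup G)] := ⟨v, hvC⟩
    have hm := sum_orbit_mod S.hM P S.card_P θ hind hχ T hT {k}
      (fun l hl => by rw [Finset.mem_singleton.1 hl]; exact hvreg)
      (fun g hg hgm l hl => by
        rw [Finset.mem_singleton.1 hl, Finset.mem_singleton]
        exact Subtype.ext (show g * v * g⁻¹ = v by rw [(hcen g hg).eq, mul_inv_cancel_right]))
    rw [Finset.sum_singleton, Finset.sum_singleton, show (χ : G → ℂ) k = (t : ℂ) from cast_val X hv2 χ, hχ1] at hm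
    have hk : k ∈ Subgroup.center C[(P : Subgroup G)] := Subgroup.mem_center_iff.2 fun c =>
      Subtype.ext (hcen c (Subgroup.centralizer_le_normalizer _ c.2)).eq
    have hk2 : k * k = 1 := Subtype.ext (show v * v = 1 by rw [← pow_two, ← hv2, pow_orderOf_eq_one])
    rw [apply_one_eq_charDegree θ.1] at hm
    rcases apply_central θ.1 hk hk2 with e | e <;> rw [e, apply_one_eq_charDegree θ.1, ← hf] at hm
    · refine Or.inl (Int.emod_eq_zero_of_dvd (hd7 (int_dvd_of_memLocalIdeal S.hM ?_)))
      push_cast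
      convert hm using 1
      ring
    · refine Or.inr (Int.emod_eq_zero_of_dvd (hd7 (int_dvd_of_memLocalIdeal S.hM ?_)))
      push_cast
      convert hm using 1
      ring
  · right
    refine ⟨⟨hC1, hC2⟩, ?_⟩
    have hOC : ∀ a ∈ O, a ∈ C[(P : Subgroup G)] ∧ orderOf a = 2 := fun a ha => by
      obtain ⟨n, hn, rfl⟩ := (hO a).1 ha
      exact ⟨conj_centralizer_mem hn hvC, (orderOf_conj' n v).trans hv2⟩
    set O' : Finset C[(P : Subgroup G)] := Finset.univ.filter fun k => (k : G) ∈ O with hO'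
    have hmem' : ∀ {k : C[(P : Subgroup G)]}, k ∈ O' ↔ (k : G) ∈ O := by simp [hO']
    have hO'3 : O'.card = 3 := by
      rw [← hO3]
      exact Finset.card_bij (fun k _ => (k : G)) (fun k hk => hmem'.1 hk) (fun _ _ _ _ h => Subtype.ext h)
        (fun a ha => ⟨⟨a, (hOC a ha).1⟩, hmem'.2 ha, rfl⟩)
    have hinvO : ∀ g ∈ Subgroup.normalizer ((P : Subgroup G) : Set G),
        ∀ (hg : ConjMaps g C[(P : Subgroup G)] C[(P : Subgroup G)]), ∀ k ∈ O', conjIso hg k ∈ O' := by
      intro g hg hgm k hk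
      obtain ⟨n, hn, he⟩ := (hO _).1 (hmem'.1 hk)
      refine hmem'.2 ((hO _).2 ⟨g * n, mul_mem hg hn, ?_⟩)
      show g * n * v * (g * n)⁻¹ = g * (k : G) * g⁻¹
      rw [← he]; group
    have hregO : ∀ k ∈ O', ¬ 7 ∣ orderOf (k : G) := fun k hk => by
      rw [(hOC _ (hmem'.1 hk)).2]; norm_num
    have hm := sum_orbit_mod S.hM P S.card_P θ hind hχ T hT O' hregO hinvO
    rw [Finset.sum_congr rfl (g := fun _ => (t : ℂ)) (fun k hk => by
      obtain ⟨n, -, he⟩ := (hO _).1 (hmem'.1 hk)
      rw [← he]; exact hconjv n), Finset.sum_const, hO'3, nsmul_eq_mul, hχ1] at hm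
    -- the four-group
    have h1O : (1 : C[(P : Subgroup G)]) ∉ O' := fun h => by
      have := (hOC _ (hmem'.1 h)).2
      simp at this
    set V := insert (1 : C[(P : Subgroup G)]) O' with hV
    have hVcases := sum_invariant θ.1 V (fun a ha b hb => by
        rcases Finset.mem_insert.1 ha with rfl | ha
        · rwa [one_mul]
        rcases Finset.mem_insert.1 hb with rfl | hb
        · rw [mul_one]; exact Finset.mem_insert_of_mem ha
        by_cases e : a = b
        · rw [e]
          refine Finset.mem_insert.2 (Or.inl (Subtype.ext ?_))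
          show (b : G) * b = 1
          rw [← pow_two, ← (hOC _ (hmem'.1 hb)).2, pow_orderOf_eq_one]
        · exact Finset.mem_insert_of_mem (hmem'.2 (hOmul _ (hmem'.1 ha) _ (hmem'.1 hb) fun h => e (Subtype.ext h))))
      (fun a ha h => by
        rcases Finset.mem_insert.1 ha with rfl | ha
        · simp [hV]
        refine Finset.mem_insert_of_mem (hmem'.2 ((hO _).2 ?_))
        obtain ⟨n, hn, he⟩ := (hO _).1 (hmem'.1 ha)
        refine ⟨(h : G) * n, mul_mem (Subgroup.centralizer_le_normalizer _ h.2) hn, ?_⟩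
        push_cast
        rw [← he]; group)
    rw [hV, Finset.sum_insert h1O, Finset.card_insert_of_notMem h1O, hO'3, apply_one_eq_charDegree θ.1,
      ← hf] at hVcases
    rw [apply_one_eq_charDegree θ.1, ← hf] at hm
    rcases hVcases with hF | hF
    · -- the four-group outside the kernel
      have hF' : ∑ k ∈ O', (θ.1 : C[(P : Subgroup G)] → ℂ) k = -(f : ℂ) := by linear_combination hF
      rw [hF'] at hm
      have h3 : (7 : ℤ) ∣ 3 * t + (d : ℤ) := hd7 (int_dvd_of_memLocalIdeal S.hM (by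
        push_cast
        convert hm using 1
        push_cast
        ring))
      rcases eq_or_ne d 540 with rfl | h540
      · exact Or.inr ⟨rfl, Int.emod_eq_zero_of_dvd h3⟩
      exfalso
      have hd3 : d = 3840 := by rcases hd' with rfl | rfl | rfl <;> first | rfl | omega
      obtain ⟨Z, hZ, hZ3⟩ := orbit_integral S.hM P S.card_P θ hind hχ T hT O' (Finset.card_pos.1 (by omega)) hinvO
        (fun k hk l hl => by
          obtain ⟨n, hn, he⟩ := (hO _).1 (hmem'.1 hk)
          obtain ⟨m, hm, he'⟩ := (hO _).1 (hmem'.1 hl)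
          have hg : m * n⁻¹ ∈ Subgroup.normalizer ((P : Subgroup G) : Set G) := mul_mem hm (inv_mem hn)
          refine ⟨_, hg, conjMaps_cent P hg, Subtype.ext ?_⟩
          show m * n⁻¹ * (k : G) * (m * n⁻¹)⁻¹ = (l : G)
          rw [← he, ← he']; group)
      rw [hO'3, ← hr, hF'] at hZ3
      obtain ⟨z, -, hz⟩ := rat_int hZ (show (3 : ℤ) ≠ 0 by norm_num) (n := -((r : ℤ) * f))
        (by push_cast at hZ3 ⊢; linear_combination hZ3)
      obtain ⟨E, D, hD, hE, hsum⟩ := sum_pnt_eq S.hM P S.card_P θ hind hχ T hT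
      rw [← hr, ← hf] at hsum
      obtain ⟨a, ha, hav⟩ := sum_pnt_value X S hP (hd.trans hd3)
      have hsum' : ∑ y ∈ pnt P, (χ : G → ℂ) y = ((-((r : ℤ) * f * (E * D)) : ℤ) : ℂ) := by
        rw [hsum]; push_cast; ring
      rw [hav ⟨_, hsum'⟩] at hsum'
      have h6 : 6 * a = -((r : ℤ) * f * (E * D)) := by exact_mod_cast hsum'
      have hre : ((C[(P : Subgroup G)]).relIndex T : ℤ) * r = 6 := by exact_mod_cast her
      rcases hE with rfl | rfl
      · rcases hD with rfl | rfl <;> rcases ha with rfl | rfl <;> omega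
      · have h66 : 6 * a = -(6 * (f * D)) := by rw [h6]; linear_combination (-(f * D) : ℤ) * hre
        have hf' : f = 4 := by rcases hD with rfl | rfl <;> rcases ha with rfl | rfl <;> omega
        rw [hf'] at hrf hz
        omega
    · -- the four-group in the kernel
      have hF' : ∑ k ∈ O', (θ.1 : C[(P : Subgroup G)] → ℂ) k = 3 * (f : ℂ) := by
        push_cast at hF; linear_combination hF
      rw [hF'] at hm
      left
      have h3 : (7 : ℤ) ∣ 3 * (t - (d : ℤ)) := hd7 (int_dvd_of_memLocalIdeal S.hM (by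
        push_cast
        convert hm using 1
        push_cast
        ring))
      omega

end Cfsg.Lib.MTwentyFour.Six
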