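import Cfsg.Agent.Lib.MTwentyFour.Six.RowDefs
import Cfsg.Agent.Lib.MTwentyFour.Eleven.Family
import Cfsg.Agent.Lib.MTwentyFour.Eleven.Pairs
import Cfsg.Agent.Lib.MTwentyFour.Local.Checks

/-!
Soundness of the computed lists of values.
-/

set_option autoImplicit false

namespace Cfsg.Lib.MTwentyFour.Six

open Cfsg.Lib.MTwentyFour.Eleven (dv isq notSq notSq_ne)
open Cfsg.Lib.MTwentyFour.Search (ord24 v11)

theorem sgv_sgv (d u : ℤ) : sgv d (sgv d u) = u := by
  unfold sgv; split <;> simp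

theorem sgv_mul_sgv (d a b : ℤ) : sgv d a * sgv d b = a * b := by
  unfold sgv; split <;> simp

/-- The conditions behind membership in the values. -/
def ValOk (C d m : ℕ) (bd : Bool) (v : ℤ) : Prop :=
  ((d / Nat.gcd d (ord24 / C) : ℕ) : ℤ) ∣ v ∧ v.natAbs * v.natAbs ≤ C ∧ v.natAbs < d ∧
    (bd = true → 11 * (v.natAbs : ℤ) ≤ (d : ℤ) + 10 * v11 d) ∧ (m : ℤ) ∣ v - (d : ℤ)

theorem valOk_bound {C d m : ℕ} {bd : Bool} {v : ℤ} (hC : C ∈ dv 967680) (h : ValOk C d m bd v) :
    ∃ i : ℤ, v = ((d / Nat.gcd d (ord24 / C) : ℕ) : ℤ) * i ∧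
      i.natAbs ≤ (if bd then min (min (isq C) (d - 1)) (((d : ℤ) + 10 * v11 d).toNat / 11)
        else min (isq C) (d - 1)) / (d / Nat.gcd d (ord24 / C)) := by
  obtain ⟨hq, hC2, hlt, hb, -⟩ := h
  have hd0 : 0 < d := Nat.lt_of_le_of_lt (Nat.zero_le _) hlt
  have hg := Nat.gcd_pos_of_pos_left (ord24 / C) hd0
  have hq0 : 0 < d / Nat.gcd d (ord24 / C) := Nat.div_pos (Nat.gcd_le_left _ hd0) hg
  generalize d / Nat.gcd d (ord24 / C) = q at hq hq0 ⊢
  obtain ⟨i, rfl⟩ := hq
  refine ⟨i, rfl, (Nat.le_div_iff_mul_le hq0).2 ?_⟩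
  rw [Int.natAbs_mul, Int.natAbs_natCast] at hC2 hlt
  have hisq := List.all_eq_true.1 Local.isq_check C hC
  rw [decide_eq_true_eq] at hisq
  have h1 : i.natAbs * q ≤ isq C := by
    have := Nat.mul_self_lt_mul_self_iff.1 (lt_of_le_of_lt hC2 hisq)
    rw [mul_comm]; omega
  have h2 : i.natAbs * q ≤ d - 1 := by rw [mul_comm]; omega
  cases bd with
  | false => exact le_min h1 h2
  | true =>
    refine le_min (le_min h1 h2) ?_
    have h3 := hb rfl
    rw [Int.natAbs_mul, Int.natAbs_natCast, mul_comm q] at h3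
    rw [Nat.le_div_iff_mul_le (by norm_num)]
    generalize i.natAbs * q = w at h3 ⊢
    omega

theorem mem_vd {C d m : ℕ} {bd : Bool} {v : ℤ} (hC : C ∈ dv 967680) (h : ValOk C d m bd v) :
    v ∈ vd C d m bd := by
  obtain ⟨i, hi, hir⟩ := valOk_bound hC h
  have hm := h.2.2.2.2
  simp only [vd]
  generalize (if bd then min (min (isq C) (d - 1)) (((d : ℤ) + 10 * v11 d).toNat / 11)
    else min (isq C) (d - 1)) / (d / Nat.gcd d (ord24 / C)) = r at hir ⊢
  refine List.mem_filter.2 ⟨List.mem_map.2 ⟨(i + r).toNat, List.mem_range.2 (by omega), ?_⟩, ?_⟩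
  · rw [Int.toNat_of_nonneg (by omega), hi]; ring
  · simp only [beq_iff_eq]; exact Int.emod_eq_zero_of_dvd hm

theorem inVd_of {C d m : ℕ} {bd : Bool} {v : ℤ} (hC : C ∈ dv 967680) (h : ValOk C d m bd v) :
    inVd C d m bd v = true := by
  obtain ⟨i, hi, hir⟩ := valOk_bound hC h
  have hm := h.2.2.2.2
  simp only [inVd, Bool.and_eq_true, Nat.ble_eq, beq_iff_eq, Nat.beq_eq]
  rw [hi, Int.natAbs_mul, Int.natAbs_natCast]
  refine ⟨⟨?_, Nat.mul_mod_right _ _⟩, hi ▸ Int.emod_eq_zero_of_dvd hm⟩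
  rw [mul_comm]; exact Nat.mul_le_mul_right _ hir

theorem sq_sum_le : ∀ l : List ℤ, l.sum * l.sum ≤ (l.length : ℤ) * (l.map fun x => x * x).sum
  | [] => by simp
  | x :: l => by
    have ih := sq_sum_le l
    simp only [List.sum_cons, List.map_cons, List.length_cons, Nat.cast_succ]
    have hT : 0 ≤ (l.map fun x => x * x).sum := List.sum_nonneg (by simp [mul_self_nonneg])
    rcases Nat.eq_zero_or_pos l.length with h0 | h0
    · rw [List.length_eq_zero_iff.1 h0]; simp
    · have hn : (0 : ℤ) < (l.length : ℤ) := by exact_mod_cast h0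
      generalize (l.length : ℤ) = n at ih hn ⊢
      generalize (l.map fun x => x * x).sum = T at ih hT ⊢
      generalize l.sum = s at ih ⊢
      have h1 : 0 ≤ n * ((n + 1) * (x * x + T) - (x + s) * (x + s)) := by
        nlinarith [mul_self_nonneg (n * x - s)]
      nlinarith

/-- The search finds every tuple. -/
theorem mem_dfs (last : ℤ → Bool) : ∀ (Ds : List (List ℤ)) (us : List ℤ) (u b need : ℤ),
    List.Forall₂ (fun v D => v ∈ D) us Ds → last u = true → us.sum + u = need →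
      (us.map fun x => x * x).sum + u * u ≤ b → us ++ [u] ∈ dfs last Ds b need := by
  intro Ds
  induction Ds with
  | nil =>
    intro us u b need h hl hs hb
    obtain rfl := List.forall₂_nil_right_iff.1 h
    simp at hs hb
    subst hs
    simp [dfs, hl, hb]
  | cons D Ds ih =>
    intro us u b need h hl hs hb
    obtain ⟨v, us', hv, hus, rfl⟩ := List.forall₂_cons_right_iff.1 h
    have hlen : us'.length = Ds.length := List.Forall₂.length_eq hus
    have hc := sq_sum_le (v :: us' ++ [u])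
    simp only [List.sum_append, List.sum_cons, List.sum_nil, List.map_append, List.map_cons, List.map_nil,
      List.length_append, List.length_cons, List.length_nil, hlen, add_zero] at hc
    simp only [List.sum_cons, List.map_cons] at hs hb
    push_cast at hc
    have hnot : ¬ b * ((Ds.length : ℤ) + 2) < need * need := by
      rw [← hs]; nlinarith
    have hT : 0 ≤ (us'.map fun x => x * x).sum := List.sum_nonneg (by simp [mul_self_nonneg])
    have hvb : v * v ≤ b := by nlinarith [mul_self_nonneg u]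
    rw [dfs, if_neg (by simpa using hnot)]
    refine List.mem_flatMap.2 ⟨v, hv, ?_⟩
    rw [if_pos (by simpa using hvb)]
    exact List.mem_map.2 ⟨us' ++ [u], ih us' u _ _ hus hl (by linarith) (by linarith), rfl⟩

/-- The square condition at 5 from a square. -/
theorem sqFive_of {q C : ℕ} (hC : C ≠ 0) {A B a E : ℤ} (k m : ℕ)
    (h : (q : ℤ) * (ord24 : ℤ) * (127512 + 22 * (A * A) - 23 * (B * B) - 63 * (a * a) + 72 * (E * E)) =
      (m : ℤ) * (m : ℤ) * (5 * ((C : ℤ) * (C : ℤ)) * 127512)) :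
    sqFive (k * k * q) C A B a E = true := by
  have hden : (5 * ((C : ℤ) * (C : ℤ)) * 127512) ≠ 0 := by
    have : (C : ℤ) ≠ 0 := Int.natCast_ne_zero.2 hC
    simpa using this
  have e : ((k * k * q : ℕ) : ℤ) * (ord24 : ℤ) *
      (127512 + 22 * (A * A) - 23 * (B * B) - 63 * (a * a) + 72 * (E * E)) =
      (((k * m : ℕ) : ℤ) * ((k * m : ℕ) : ℤ)) * (5 * ((C : ℤ) * (C : ℤ)) * 127512) := by
    push_cast; linear_combination ((k : ℤ) * k) * h
  simp only [sqFive, e, Int.mul_emod_left, Int.mul_ediv_cancel _ hden, Bool.and_eq_true, beq_iff_eq,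
    Bool.not_eq_true', true_and]
  cases hs : notSq (((k * m : ℕ) : ℤ) * ((k * m : ℕ) : ℤ)) with
  | false => rfl
  | true => exact absurd rfl (notSq_ne hs ((k * m : ℕ) : ℤ))

/-- The square condition at 7 from a square. -/
theorem sqSeven_of {l : List ℤ} {r : TRow} (hC : r.C ≠ 0) (hL : lc l ≠ 0) (m : ℕ) (hm : m ≤ 24)
    (h : tnum l r r = (m : ℤ) * (m : ℤ) * (7 * ((r.C : ℤ) * (r.C : ℤ)) * (lc l : ℤ))) :
    sqSeven l r = true := by
  have hden : (7 * ((r.C : ℤ) * (r.C : ℤ)) * (lc l : ℤ)) ≠ 0 := by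
    have h1 : (r.C : ℤ) ≠ 0 := Int.natCast_ne_zero.2 hC
    have h2 : (lc l : ℤ) ≠ 0 := Int.natCast_ne_zero.2 hL
    exact mul_ne_zero (mul_ne_zero (by norm_num) (mul_ne_zero h1 h1)) h2
  simp only [sqSeven, h, Int.mul_emod_left, Int.mul_ediv_cancel _ hden, Bool.and_eq_true, beq_iff_eq,
    Bool.not_eq_true', true_and, decide_eq_true_eq]
  refine ⟨?_, ?_⟩
  · cases hs : notSq ((m : ℤ) * (m : ℤ)) with
    | false => rfl
    | true => exact absurd rfl (notSq_ne hs (m : ℤ))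
  · have : (m : ℤ) ≤ 24 := by exact_mod_cast hm
    nlinarith [Int.natCast_nonneg m]

theorem foldl_lcm_dvd : ∀ (l : List ℤ) (a : ℕ),
    a ∣ l.foldl (fun L d => Nat.lcm L d.natAbs) a ∧
      ∀ s ∈ l, s.natAbs ∣ l.foldl (fun L d => Nat.lcm L d.natAbs) a
  | [], a => ⟨dvd_rfl, by simp⟩
  | x :: l, a => by
    obtain ⟨h1, h2⟩ := foldl_lcm_dvd l (Nat.lcm a x.natAbs)
    refine ⟨(Nat.dvd_lcm_left _ _).trans h1, fun s hs => ?_⟩
    rcases List.mem_cons.1 hs with rfl | hs
    · exact (Nat.dvd_lcm_right _ _).trans h1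
    · exact h2 s hs

theorem lc_dvd (l : List ℤ) : 2024 ∣ lc l ∧ ∀ s ∈ l, s.natAbs ∣ lc l := foldl_lcm_dvd l 2024

theorem foldl_lcm_pos : ∀ (l : List ℤ) (a : ℕ), a ≠ 0 → (∀ s ∈ l, s ≠ 0) →
    l.foldl (fun L d => Nat.lcm L d.natAbs) a ≠ 0
  | [], _, h, _ => h
  | x :: l, a, h, hl => foldl_lcm_pos l _ (Nat.lcm_ne_zero h (Int.natAbs_ne_zero.2 (hl x (by simp))))
      fun s hs => hl s (by simp [hs])

end Cfsg.Lib.MTwentyFour.Six
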