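import Cfsg.Agent.Lib.MTwentyFour.Six.RowData

/-!
Completeness of a list of rows, checked separately on groups of centralizer orders.
-/

set_option autoImplicit false

namespace Cfsg.Lib.MTwentyFour.Six

/-- The rows at the given centralizer orders are listed. -/
def partOk (l : List ℤ) (q md : ℕ) (zs : List TRow) (cs : List ℕ) : Bool :=
  cs.all fun C => subT (trows l q true md C) zs

/-- The rows at one centralizer order with named values in a segment of their list are listed. -/
def segOk (l : List ℤ) (q md : ℕ) (zs : List TRow) (C i n : ℕ) : Bool :=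
  subT ((((fives q C true md).drop i).take n).flatMap fun f =>
    ((search C true l ((C : ℤ) - (1 + f.1 * f.1 + f.2.1 * f.2.1 + f.2.2.1 * f.2.2.1 + f.2.2.2 * f.2.2.2))
      (-1 - f.2.2.1)).map fun us => TRow.mk C f.1 f.2.1 f.2.2.1 f.2.2.2 us).filter (sqSeven l)) zs

theorem partOk_of_segs {l : List ℤ} {q md : ℕ} {zs : List TRow} {C k : ℕ}
    {n : ℕ} (h1 : segOk l q md zs C 0 k = true) (h2 : segOk l q md zs C k n = true)
    (hlen : (fives q C true md).length ≤ k + n) : partOk l q md zs [C] = true := by
  simp only [partOk, segOk, subT, trows, List.all_cons, List.all_nil, Bool.and_true, List.drop_zero] at *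
  rw [← List.take_append_drop k (fives q C true md), List.flatMap_append, List.all_append, h1, Bool.true_and]
  rwa [List.take_of_length_le (by rw [List.length_drop]; omega)] at h2

theorem subT_parts {l : List ℤ} {q md : ℕ} {zs : List TRow} {cs : List ℕ} (H : List (List ℕ))
    (hrest : partOk l q md zs (cs.filter fun C => !H.flatten.contains C) = true)
    (hH : ∀ h ∈ H, partOk l q md zs h = true) :
    subT (cs.flatMap (trows l q true md)) zs = true := by
  simp only [subT, List.all_eq_true, List.mem_flatMap]
  rintro r ⟨C, hC, hr⟩
  simp only [partOk, subT, List.all_eq_true] at hrest hH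
  by_cases hb : C ∈ H.flatten
  · obtain ⟨h, hh, hCh⟩ := List.mem_flatten.1 hb
    exact hH h hh C hCh r hr
  · exact hrest C (List.mem_filter.2 ⟨hC, by simpa [List.contains_iff_mem] using hb⟩) r hr

theorem coversZ_of {F : FamData} (h : subT (listZ F.l 192) F.z192 = true) : F.coversZ = true := by
  rw [FamData.coversZ, h, Bool.or_true]

theorem coversZAny_of {F : FamData} (h : subT (listZAny F.l 192) F.zAny = true) : F.coversZAny = true := by
  rw [FamData.coversZAny, h, Bool.or_true]

end Cfsg.Lib.MTwentyFour.Six
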