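import Cfsg.Agent.Lib.MTwentyFour.Six.RowChunks

/-!
The listed rows are complete and pass the tests, for some of the families.
-/

set_option autoImplicit false
set_option Elab.async false

namespace Cfsg.Lib.MTwentyFour.Six

theorem data10_tests : data10.tests = true := by decide +kernel
theorem data10_coversV : data10.coversV = true := by decide +kernel
theorem data10_coversJ : data10.coversJ = true := by decide +kernel
theorem data10_coversZ_seg0 : segOk data10.l 192 56 data10.z192 5760 0 1 = true := by decide +kernel
theorem data10_coversZ_seg1 : segOk data10.l 192 56 data10.z192 5760 1 1 = true := by decide +kernel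
theorem data10_coversZ_part0 : partOk data10.l 192 56 data10.z192 [5760] = true :=
  partOk_of_segs data10_coversZ_seg0 data10_coversZ_seg1 (by decide +kernel)
theorem data10_coversZ_part1 : partOk data10.l 192 56 data10.z192 [11520, 8640] = true := by decide +kernel
theorem data10_coversZ_rest : partOk data10.l 192 56 data10.z192
    (centsZFree.filter fun C => !(List.flatten [[5760], [11520, 8640]]).contains C) = true := by decide +kernel
theorem data10_coversZ : data10.coversZ = true := by
  refine coversZ_of (subT_parts [[5760], [11520, 8640]] data10_coversZ_rest fun h hh => ?_)
  simp only [List.mem_cons, List.not_mem_nil, or_false] at hh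
  rcases hh with rfl | rfl
  exacts [data10_coversZ_part0, data10_coversZ_part1]
theorem data10_coversZAny : data10.coversZAny = true := by decide +kernel

end Cfsg.Lib.MTwentyFour.Six
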