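import Cfsg.Agent.Lib.MTwentyFour.Six.RowChunks

/-!
The listed rows are complete and pass the tests, for some of the families.
-/

set_option autoImplicit false
set_option Elab.async false

namespace Cfsg.Lib.MTwentyFour.Six

theorem data15_tests : data15.tests = true := by decide +kernel
theorem data15_coversV : data15.coversV = true := by decide +kernel
theorem data15_coversJ : data15.coversJ = true := by decide +kernel
theorem data15_coversZ : data15.coversZ = true := by decide +kernel
theorem data15_coversZAny_part0 : partOk data15.l 192 7 data15.zAny [23040] = true := by decide +kernel
theorem data15_coversZAny_part1 : partOk data15.l 192 7 data15.zAny [46080, 11520] = true := by decide +kernel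
theorem data15_coversZAny_part2 : partOk data15.l 192 7 data15.zAny [7680, 15360, 5760, 69120] = true := by decide +kernel
theorem data15_coversZAny_rest : partOk data15.l 192 7 data15.zAny
    (centsZ.filter fun C => !(List.flatten [[23040], [46080, 11520], [7680, 15360, 5760, 69120]]).contains C) = true := by decide +kernel
theorem data15_coversZAny : data15.coversZAny = true := by
  refine coversZAny_of (subT_parts [[23040], [46080, 11520], [7680, 15360, 5760, 69120]] data15_coversZAny_rest fun h hh => ?_)
  simp only [List.mem_cons, List.not_mem_nil, or_false] at hh
  rcases hh with rfl | rfl | rfl
  exacts [data15_coversZAny_part0, data15_coversZAny_part1, data15_coversZAny_part2]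

end Cfsg.Lib.MTwentyFour.Six
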