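import Cfsg.Agent.Lib.MTwentyFour.Six.RowChunks

/-!
The listed rows are complete and pass the tests, for some of the families.
-/

set_option autoImplicit false
set_option Elab.async false

namespace Cfsg.Lib.MTwentyFour.Six

theorem data0_tests : data0.tests = true := by decide +kernel
theorem data0_coversV : data0.coversV = true := by decide +kernel
theorem data0_coversJ : data0.coversJ = true := by decide +kernel
theorem data0_coversZ_part0 : partOk data0.l 192 56 data0.z192 [5760, 8640] = true := by decide +kernel
theorem data0_coversZ_rest : partOk data0.l 192 56 data0.z192
    (centsZFree.filter fun C => !(List.flatten [[5760, 8640]]).contains C) = true := by decide +kernel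
theorem data0_coversZ : data0.coversZ = true := by
  refine coversZ_of (subT_parts [[5760, 8640]] data0_coversZ_rest fun h hh => ?_)
  simp only [List.mem_cons, List.not_mem_nil, or_false] at hh
  rw [hh]
  exact data0_coversZ_part0
theorem data0_coversZAny : data0.coversZAny = true := by decide +kernel

theorem data1_tests : data1.tests = true := by decide +kernel
theorem data1_coversV : data1.coversV = true := by decide +kernel
theorem data1_coversJ : data1.coversJ = true := by decide +kernel
theorem data1_coversZ : data1.coversZ = true := by decide +kernel
theorem data1_coversZAny : data1.coversZAny = true := by decide +kernel

theorem data2_tests : data2.tests = true := by decide +kernel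
theorem data2_coversV : data2.coversV = true := by decide +kernel
theorem data2_coversJ : data2.coversJ = true := by decide +kernel
theorem data2_coversZ : data2.coversZ = true := by decide +kernel
theorem data2_coversZAny : data2.coversZAny = true := by decide +kernel

end Cfsg.Lib.MTwentyFour.Six
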