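import Cfsg.Agent.Lib.MTwentyFour.Six.RowData

/-!
The listed rows are complete and pass the tests, for some of the families.
-/

set_option autoImplicit false
set_option Elab.async false

namespace Cfsg.Lib.MTwentyFour.Six

theorem data3_tests : data3.tests = true := by decide +kernel
theorem data3_coversV : data3.coversV = true := by decide +kernel
theorem data3_coversJ : data3.coversJ = true := by decide +kernel
theorem data3_coversZ : data3.coversZ = true := by decide +kernel
theorem data3_coversZAny : data3.coversZAny = true := by decide +kernel

theorem data4_tests : data4.tests = true := by decide +kernel
theorem data4_coversV : data4.coversV = true := by decide +kernel
theorem data4_coversJ : data4.coversJ = true := by decide +kernel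
theorem data4_coversZ : data4.coversZ = true := by decide +kernel
theorem data4_coversZAny : data4.coversZAny = true := by decide +kernel

theorem data5_tests : data5.tests = true := by decide +kernel
theorem data5_coversV : data5.coversV = true := by decide +kernel
theorem data5_coversJ : data5.coversJ = true := by decide +kernel
theorem data5_coversZ : data5.coversZ = true := by decide +kernel
theorem data5_coversZAny : data5.coversZAny = true := by decide +kernel

theorem data6_tests : data6.tests = true := by decide +kernel
theorem data6_coversV : data6.coversV = true := by decide +kernel
theorem data6_coversJ : data6.coversJ = true := by decide +kernel
theorem data6_coversZ : data6.coversZ = true := by decide +kernel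
theorem data6_coversZAny : data6.coversZAny = true := by decide +kernel

theorem data7_tests : data7.tests = true := by decide +kernel
theorem data7_coversV : data7.coversV = true := by decide +kernel
theorem data7_coversJ : data7.coversJ = true := by decide +kernel
theorem data7_coversZ : data7.coversZ = true := by decide +kernel
theorem data7_coversZAny : data7.coversZAny = true := by decide +kernel

theorem data24_tests : data24.tests = true := by decide +kernel
theorem data24_coversV : data24.coversV = true := by decide +kernel
theorem data24_coversJ : data24.coversJ = true := by decide +kernel
theorem data24_coversZ : data24.coversZ = true := by decide +kernel
theorem data24_coversZAny : data24.coversZAny = true := by decide +kernel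

end Cfsg.Lib.MTwentyFour.Six
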