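import Cfsg.Agent.Lib.MTwentyFour.Six.RowChunks

/-!
The listed rows are complete and pass the tests, for some of the families.
-/

set_option autoImplicit false
set_option Elab.async false

namespace Cfsg.Lib.MTwentyFour.Six

theorem data8_tests : data8.tests = true := by decide +kernel
theorem data8_coversV : data8.coversV = true := by decide +kernel
theorem data8_coversJ : data8.coversJ = true := by decide +kernel
theorem data8_coversZ_part0 : partOk data8.l 192 56 data8.z192 [5760, 11520, 8640, 23040] = true := by decide +kernel
theorem data8_coversZ_rest : partOk data8.l 192 56 data8.z192
    (centsZFree.filter fun C => !(List.flatten [[5760, 11520, 8640, 23040]]).contains C) = true := by decide +kernel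
theorem data8_coversZ : data8.coversZ = true := by
  refine coversZ_of (subT_parts [[5760, 11520, 8640, 23040]] data8_coversZ_rest fun h hh => ?_)
  simp only [List.mem_cons, List.not_mem_nil, or_false] at hh
  rw [hh]
  exact data8_coversZ_part0
theorem data8_coversZAny : data8.coversZAny = true := by decide +kernel

theorem data9_tests : data9.tests = true := by decide +kernel
theorem data9_coversV : data9.coversV = true := by decide +kernel
theorem data9_coversJ : data9.coversJ = true := by decide +kernel
theorem data9_coversZ : data9.coversZ = true := by decide +kernel
theorem data9_coversZAny : data9.coversZAny = true := by decide +kernel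

end Cfsg.Lib.MTwentyFour.Six
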