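import Cfsg.Agent.Lib.MTwentyFour.Six.RowData

/-!
The listed rows are complete and pass the tests, for some of the families.
-/

set_option autoImplicit false
set_option Elab.async false

namespace Cfsg.Lib.MTwentyFour.Six

theorem data11_tests : data11.tests = true := by decide +kernel
theorem data11_coversV : data11.coversV = true := by decide +kernel
theorem data11_coversJ : data11.coversJ = true := by decide +kernel
theorem data11_coversZ : data11.coversZ = true := by decide +kernel
theorem data11_coversZAny : data11.coversZAny = true := by decide +kernel

theorem data12_tests : data12.tests = true := by decide +kernel
theorem data12_coversV : data12.coversV = true := by decide +kernel
theorem data12_coversJ : data12.coversJ = true := by decide +kernel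
theorem data12_coversZ : data12.coversZ = true := by decide +kernel
theorem data12_coversZAny : data12.coversZAny = true := by decide +kernel

theorem data14_tests : data14.tests = true := by decide +kernel
theorem data14_coversV : data14.coversV = true := by decide +kernel
theorem data14_coversJ : data14.coversJ = true := by decide +kernel
theorem data14_coversZ : data14.coversZ = true := by decide +kernel
theorem data14_coversZAny : data14.coversZAny = true := by decide +kernel

theorem data16_tests : data16.tests = true := by decide +kernel
theorem data16_coversV : data16.coversV = true := by decide +kernel
theorem data16_coversJ : data16.coversJ = true := by decide +kernel
theorem data16_coversZ : data16.coversZ = true := by decide +kernel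
theorem data16_coversZAny : data16.coversZAny = true := by decide +kernel

theorem data17_tests : data17.tests = true := by decide +kernel
theorem data17_coversV : data17.coversV = true := by decide +kernel
theorem data17_coversJ : data17.coversJ = true := by decide +kernel
theorem data17_coversZ : data17.coversZ = true := by decide +kernel
theorem data17_coversZAny : data17.coversZAny = true := by decide +kernel

theorem data22_tests : data22.tests = true := by decide +kernel
theorem data22_coversV : data22.coversV = true := by decide +kernel
theorem data22_coversJ : data22.coversJ = true := by decide +kernel
theorem data22_coversZ : data22.coversZ = true := by decide +kernel
theorem data22_coversZAny : data22.coversZAny = true := by decide +kernel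

end Cfsg.Lib.MTwentyFour.Six
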