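import Cfsg.Agent.Lib.MTwentyFour.Six.RowData

/-!
The listed rows are complete and pass the tests, for some of the families.
-/

set_option autoImplicit false
set_option Elab.async false

namespace Cfsg.Lib.MTwentyFour.Six

theorem data18_tests : data18.tests = true := by decide +kernel
theorem data18_coversV : data18.coversV = true := by decide +kernel
theorem data18_coversJ : data18.coversJ = true := by decide +kernel
theorem data18_coversZ : data18.coversZ = true := by decide +kernel
theorem data18_coversZAny : data18.coversZAny = true := by decide +kernel

theorem data19_tests : data19.tests = true := by decide +kernel
theorem data19_coversV : data19.coversV = true := by decide +kernel
theorem data19_coversJ : data19.coversJ = true := by decide +kernel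
theorem data19_coversZ : data19.coversZ = true := by decide +kernel
theorem data19_coversZAny : data19.coversZAny = true := by decide +kernel

theorem data20_tests : data20.tests = true := by decide +kernel
theorem data20_coversV : data20.coversV = true := by decide +kernel
theorem data20_coversJ : data20.coversJ = true := by decide +kernel
theorem data20_coversZ : data20.coversZ = true := by decide +kernel
theorem data20_coversZAny : data20.coversZAny = true := by decide +kernel

theorem data21_tests : data21.tests = true := by decide +kernel
theorem data21_coversV : data21.coversV = true := by decide +kernel
theorem data21_coversJ : data21.coversJ = true := by decide +kernel
theorem data21_coversZ : data21.coversZ = true := by decide +kernel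
theorem data21_coversZAny : data21.coversZAny = true := by decide +kernel

theorem data23_tests : data23.tests = true := by decide +kernel
theorem data23_coversV : data23.coversV = true := by decide +kernel
theorem data23_coversJ : data23.coversJ = true := by decide +kernel
theorem data23_coversZ : data23.coversZ = true := by decide +kernel
theorem data23_coversZAny : data23.coversZAny = true := by decide +kernel

end Cfsg.Lib.MTwentyFour.Six
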