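import Cfsg.Agent.Lib.MTwentyFour.Six.Columns
import Cfsg.Agent.Lib.MTwentyFour.Six.RootMod

/-!
The values at an element of order 3 and its inverse, for the exceptional case of the cofactor 24.
-/

set_option autoImplicit false
set_option linter.style.haveILetI false
set_option linter.unusedSectionVars false
set_option maxHeartbeats 1000000

namespace Cfsg.Lib.MTwentyFour.Six

open Cfsg Cfsg.Lib Cfsg.Lib.Block Cfsg.Lib.MTwentyFour.Eleven Cfsg.Lib.MTwentyFour.Local
open Cfsg.Lib.MTwentyFour.Search (ord24 v11)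
open scoped ComplexConjugate Classical

universe u

noncomputable local instance (priority := high) fintypeSubgroupThreeBasic {A : Type u}
    [Group A] [Fintype A] (H : Subgroup A) : Fintype H := Fintype.ofFinite H

local notation "C[" P "]" => Subgroup.centralizer (SetLike.coe P)

/-- The square roots used for the centralizers of elements of order 3. -/
theorem isq_g_check : centsG.all (fun C => decide (4 * C < (isq (4 * C) + 1) * (isq (4 * C) + 1))) = true := by
  decide +kernel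

/-- The conditions on a sum of values at an element of order 3 and its inverse. -/
def SOk (C d : ℕ) (r7 r5 : Option ℤ) (s : ℤ) : Prop :=
  ((d / Nat.gcd d (ord24 / C) : ℕ) : ℤ) ∣ s ∧ s * s ≤ 4 * (C : ℤ) ∧ (3 : ℤ) ∣ s - 2 * (d : ℤ) ∧
    (∀ a ∈ r7, (7 : ℤ) ∣ s - 2 * a) ∧ ∀ a ∈ r5, (5 : ℤ) ∣ s - 2 * a

theorem mem_sdom {C d : ℕ} {r7 r5 : Option ℤ} {s : ℤ} (hd0 : 0 < d) (hC : C ∈ centsG) (h : SOk C d r7 r5 s) :
    s ∈ sdom C d r7 r5 := by
  obtain ⟨hq, hs, h3, h7, h5⟩ := h
  simp only [sdom]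
  have hq0 : 0 < d / Nat.gcd d (ord24 / C) :=
    Nat.div_pos (Nat.gcd_le_left _ hd0) (Nat.gcd_pos_of_pos_left _ hd0)
  generalize d / Nat.gcd d (ord24 / C) = q at hq hq0
  obtain ⟨i, hi⟩ := hq
  have hisq := List.all_eq_true.1 isq_g_check C hC
  rw [decide_eq_true_eq] at hisq
  have hir : i.natAbs ≤ isq (4 * C) / q := by
    rw [Nat.le_div_iff_mul_le hq0]
    have h1 : (q * i.natAbs) * (q * i.natAbs) ≤ 4 * C := by
      have : (((q * i.natAbs) * (q * i.natAbs) : ℕ) : ℤ) ≤ ((4 * C : ℕ) : ℤ) := by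
        push_cast
        rw [hi] at hs
        calc (q : ℤ) * |i| * ((q : ℤ) * |i|) = (q : ℤ) * q * (|i| * |i|) := by ring
          _ = (q : ℤ) * i * ((q : ℤ) * i) := by rw [abs_mul_abs_self]; ring
          _ ≤ 4 * C := hs
      exact_mod_cast this
    have h2 := Nat.mul_self_lt_mul_self_iff.1 (lt_of_le_of_lt h1 hisq)
    rw [mul_comm]; omega
  generalize isq (4 * C) / q = r at hir ⊢
  refine List.mem_filter.2 ⟨List.mem_map.2 ⟨(i + r).toNat, List.mem_range.2 (by omega), ?_⟩, ?_⟩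
  · rw [Int.toNat_of_nonneg (by omega), hi]; ring
  · simp only [Bool.and_eq_true, beq_iff_eq]
    refine ⟨⟨Int.emod_eq_zero_of_dvd h3, ?_⟩, ?_⟩
    · cases r7 with
      | none => rfl
      | some a => simpa using Int.emod_eq_zero_of_dvd (h7 a rfl)
    · cases r5 with
      | none => rfl
      | some a => simpa using Int.emod_eq_zero_of_dvd (h5 a rfl)

theorem bessel_mono {n n' : ℤ} (hn : n' ≤ n) {ns : List ℤ} {pts us : List (List ℤ)}
    (h : bessel (n' :: ns) pts us = false) : bessel (n :: ns) pts us = false := by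
  rw [Bool.eq_false_iff] at h ⊢
  intro h'
  apply h
  simp only [bessel, List.any_eq_true, decide_eq_true_eq] at h' ⊢
  obtain ⟨u, hu, hlt⟩ := h'
  refine ⟨u, hu, lt_of_le_of_lt ?_ hlt⟩
  cases u with
  | nil => simp [dot]
  | cons a u =>
    simp only [List.map_cons, dot_cons]
    nlinarith [mul_self_nonneg a]

section General

variable {G : Type u} [Group G] [Fintype G]

/-- The sum of the values at an element and its inverse, when it is an integer. -/
noncomputable def sv (g : G) (χ : IrrCharacter G) : ℤ :=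
  if h : ∃ m : ℤ, (χ : G → ℂ) g + (χ : G → ℂ) g⁻¹ = m then h.choose else 0

theorem sv_eq_of {g : G} {χ : IrrCharacter G} {m : ℤ} (h : (χ : G → ℂ) g + (χ : G → ℂ) g⁻¹ = m) :
    sv g χ = m := by
  have hex : ∃ m : ℤ, (χ : G → ℂ) g + (χ : G → ℂ) g⁻¹ = m := ⟨m, h⟩
  rw [sv, dif_pos hex]
  have := hex.choose_spec.symm.trans h
  exact_mod_cast this

theorem sum_three {g : G} (hg : orderOf g = 3) (χ : IrrCharacter G) :
    ∃ a : ℕ, (χ : G → ℂ) g + (χ : G → ℂ) g⁻¹ = (((3 * a : ℤ) - (dg χ : ℤ) : ℤ) : ℂ) := by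
  obtain ⟨a, ha⟩ := MEleven.exists_nat_sum χ (Subgroup.zpowers g)
  refine ⟨a, ?_⟩
  have hset : Finset.univ.filter (fun y : G => y ∈ Subgroup.zpowers g) = {1, g, g⁻¹} := by
    have hg1 : g ≠ 1 := fun e => by rw [e, orderOf_one] at hg; norm_num at hg
    have hgg : g ≠ g⁻¹ := fun e => by
      have h2 : orderOf g ∣ 2 := orderOf_dvd_of_pow_eq_one (by rw [pow_two]; exact eq_inv_iff_mul_eq_one.1 e)
      rw [hg] at h2
      norm_num at h2
    symm
    refine Finset.eq_of_subset_of_card_le (fun y hy => ?_) ?_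
    · simp only [Finset.mem_insert, Finset.mem_singleton] at hy
      rcases hy with rfl | rfl | rfl
      · simp [one_mem]
      · simp [Subgroup.mem_zpowers]
      · simp [inv_mem (Subgroup.mem_zpowers g)]
    · rw [← Fintype.card_subtype, ← Nat.card_eq_fintype_card]
      rw [Nat.card_zpowers, hg, Finset.card_insert_of_notMem (by simp [hg1, Ne.symm hg1]), Finset.card_pair hgg]
  rw [← Finset.sum_subtype (Finset.univ.filter fun y : G => y ∈ Subgroup.zpowers g) (fun y => by simp)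
    (fun y => (χ : G → ℂ) y), hset, Nat.card_zpowers, hg] at ha
  have hg1 : g ≠ 1 := fun e => by rw [e, orderOf_one] at hg; norm_num at hg
  have hgg : g ≠ g⁻¹ := fun e => by
    have h2 : orderOf g ∣ 2 := orderOf_dvd_of_pow_eq_one (by rw [pow_two]; exact eq_inv_iff_mul_eq_one.1 e)
    rw [hg] at h2
    norm_num at h2
  rw [Finset.sum_insert (by simp [hg1, Ne.symm hg1]), Finset.sum_pair hgg, apply_one_eq_charDegree] at ha
  push_cast at ha ⊢
  linear_combination ha

theorem cast_sv {g : G} (hg : orderOf g = 3) (χ : IrrCharacter G) :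
    ((sv g χ : ℤ) : ℂ) = (χ : G → ℂ) g + (χ : G → ℂ) g⁻¹ := by
  obtain ⟨a, ha⟩ := sum_three hg χ
  rw [sv_eq_of ha, ha]

theorem sv_three {g : G} (hg : orderOf g = 3) (χ : IrrCharacter G) :
    (3 : ℤ) ∣ sv g χ - 2 * (dg χ : ℤ) := by
  obtain ⟨a, ha⟩ := sum_three hg χ
  rw [sv_eq_of ha]
  omega

theorem sv_one {g : G} : sv g (Small.one' G) = 2 :=
  sv_eq_of (by rw [Small.one'_apply, Small.one'_apply]; norm_num)

theorem card_cent_inv (g : G) : Nat.card (Subgroup.centralizer ({g⁻¹} : Set G)) =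
    Nat.card (Subgroup.centralizer ({g} : Set G)) := by
  have : Subgroup.centralizer ({g⁻¹} : Set G) = Subgroup.centralizer ({g} : Set G) := by
    ext y
    simp only [Subgroup.mem_centralizer_singleton_iff]
    exact ⟨fun h => by have := (Commute.inv_right (show Commute y g⁻¹ from h)).eq; rwa [inv_inv] at this,
      fun h => (Commute.inv_right (show Commute y g from h)).eq⟩
  rw [this]

/-- The class sum makes the sum of the values divisible by the part of the degree prime to the class size. -/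
theorem qof_dvd_sv {g : G} (hg : orderOf g = 3) (χ : IrrCharacter G) :
    ((dg χ / Nat.gcd (dg χ) (Nat.card G / Nat.card (Subgroup.centralizer ({g} : Set G))) : ℕ) : ℤ) ∣ sv g χ := by
  set K := Nat.card G / Nat.card (Subgroup.centralizer ({g} : Set G)) with hK
  set d := dg χ with hd
  have hd0 : 0 < d := Block.charDegree_pos χ
  have hcl : ∀ y : G, Nat.card (Subgroup.centralizer ({y} : Set G)) =
      Nat.card (Subgroup.centralizer ({g} : Set G)) → (Char.classFinset y).card = K := fun y hy => by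
    rw [Char.card_classFinset, hK, ← hy]
    refine (Nat.div_eq_of_eq_mul_left Nat.card_pos ?_).symm
    rw [Subgroup.index_mul_card]
  have h := (χ.2.isIntegral_class g).add (χ.2.isIntegral_class g⁻¹)
  rw [hcl g rfl, hcl g⁻¹ (card_cent_inv g), ← add_div, ← mul_add, ← cast_sv hg,
    apply_one_eq_charDegree] at h
  obtain ⟨m, hm⟩ := Char.exists_int_of_isIntegral_rat (q := (((K : ℤ) * sv g χ : ℤ) : ℚ) / (d : ℚ))
    (by push_cast; exact h)
  rw [div_eq_iff (Nat.cast_ne_zero.2 hd0.ne')] at hm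
  have hm' : (K : ℤ) * sv g χ = m * (d : ℤ) := by exact_mod_cast hm
  set e := Nat.gcd d K
  have he0 : 0 < e := Nat.gcd_pos_of_pos_left _ hd0
  have hcop : Int.gcd (d / e : ℕ) (K / e : ℕ) = 1 := by
    rw [Int.gcd_natCast_natCast]
    exact Nat.coprime_div_gcd_div_gcd he0
  refine Int.dvd_of_dvd_mul_right_of_gcd_one (b := (K / e : ℕ)) ⟨m, ?_⟩ hcop
  apply mul_left_cancel₀ (show (e : ℤ) ≠ 0 by exact_mod_cast he0.ne')
  have e1 : (e : ℤ) * (d / e : ℕ) = d := by exact_mod_cast Nat.mul_div_cancel' (Nat.gcd_dvd_left _ _)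
  have e2 : (e : ℤ) * (K / e : ℕ) = K := by exact_mod_cast Nat.mul_div_cancel' (Nat.gcd_dvd_right _ _)
  rw [← mul_assoc, e2, hm', ← mul_assoc, e1, mul_comm]

/-- The exact squared length of the combined column. -/
theorem sum_sv_sq {g : G} (hg : orderOf g = 3) :
    ∃ n : ℤ, ∑ χ : IrrCharacter G, sv g χ * sv g χ = n ∧
      n ≤ 4 * (Nat.card (Subgroup.centralizer ({g} : Set G)) : ℤ) ∧
      ((∃ χ : IrrCharacter G, sv g χ % 2 ≠ 0) → n = 2 * (Nat.card (Subgroup.centralizer ({g} : Set G)) : ℤ)) := by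
  set C := Nat.card (Subgroup.centralizer ({g} : Set G)) with hC
  have h1 := Char.column_orthogonality g g
  have h2 := Char.column_orthogonality g g⁻¹
  have h3 := Char.column_orthogonality g⁻¹ g
  have h4 := Char.column_orthogonality g⁻¹ g⁻¹
  rw [if_pos (IsConj.refl g)] at h1
  rw [if_pos (IsConj.refl g⁻¹)] at h4
  have e : ((∑ χ : IrrCharacter G, sv g χ * sv g χ : ℤ) : ℂ) =
      ∑ χ : IrrCharacter G, (χ : G → ℂ) g * conj ((χ : G → ℂ) g) +
        ∑ χ : IrrCharacter G, (χ : G → ℂ) g * conj ((χ : G → ℂ) g⁻¹) +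
        (∑ χ : IrrCharacter G, (χ : G → ℂ) g⁻¹ * conj ((χ : G → ℂ) g) +
        ∑ χ : IrrCharacter G, (χ : G → ℂ) g⁻¹ * conj ((χ : G → ℂ) g⁻¹)) := by
    rw [Int.cast_sum, ← Finset.sum_add_distrib, ← Finset.sum_add_distrib, ← Finset.sum_add_distrib]
    refine Finset.sum_congr rfl fun χ _ => ?_
    rw [Int.cast_mul]
    conv_lhs => arg 2; rw [← map_intCast (starRingEnd ℂ) (sv g χ)]
    rw [cast_sv hg, map_add]
    ring
  by_cases hc : IsConj g g⁻¹
  · refine ⟨_, rfl, le_of_eq ?_, fun ⟨χ, hodd⟩ => absurd ?_ hodd⟩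
    · rw [if_pos hc] at h2
      rw [if_pos hc.symm] at h3
      rw [h1, h2, h3, h4, card_cent_inv, ← hC] at e
      have : ((∑ χ : IrrCharacter G, sv g χ * sv g χ : ℤ) : ℂ) = ((4 * (C : ℤ) : ℤ) : ℂ) := by
        rw [e]; push_cast; ring
      exact_mod_cast this
    · obtain ⟨h, hh⟩ := isConj_iff.1 hc
      have he : (χ : G → ℂ) g⁻¹ = (χ : G → ℂ) g := by rw [← hh, χ.2.isCharacter.conj_invariant]
      have hs := cast_sv hg χ
      rw [he, ← two_mul] at hs
      obtain ⟨k, -, hk⟩ := rat_int (χ.2.isCharacter.isIntegral g) (show (2 : ℤ) ≠ 0 by norm_num)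
        (n := sv g χ) (by push_cast; exact hs.symm)
      omega
  · refine ⟨_, rfl, ?_, fun _ => ?_⟩ <;>
    · rw [if_neg hc] at h2
      rw [if_neg fun h => hc h.symm] at h3
      rw [h1, h2, h3, h4, card_cent_inv, ← hC] at e
      have : ((∑ χ : IrrCharacter G, sv g χ * sv g χ : ℤ) : ℂ) = ((2 * (C : ℤ) : ℤ) : ℂ) := by
        rw [e]; push_cast; ring
      have h' : ∑ χ : IrrCharacter G, sv g χ * sv g χ = 2 * (C : ℤ) := by exact_mod_cast this
      omega

theorem orth_sv {g h : G} (hg : orderOf g = 3) (hh : orderOf h ≠ 3) (f : IrrCharacter G → ℤ)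
    (hf : ∀ χ : IrrCharacter G, (χ : G → ℂ) h = f χ) :
    ∑ χ : IrrCharacter G, sv g χ * f χ = 0 := by
  have h1 := Char.column_orthogonality g h
  have h2 := Char.column_orthogonality g⁻¹ h
  rw [if_neg (not_conj_of_order (by rw [hg]; exact Ne.symm hh))] at h1
  rw [if_neg (not_conj_of_order (by rw [orderOf_inv, hg]; exact Ne.symm hh))] at h2
  have : ((∑ χ : IrrCharacter G, sv g χ * f χ : ℤ) : ℂ) = 0 := by
    rw [Int.cast_sum, ← add_zero (0 : ℂ)]
    conv_rhs => arg 1; rw [← h1]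
    conv_rhs => arg 2; rw [← h2]
    rw [← Finset.sum_add_distrib]
    exact Finset.sum_congr rfl fun χ _ => by rw [Int.cast_mul, cast_sv hg, hf, map_intCast]; ring
  exact_mod_cast this

/-- Inverting the class of the first element does not change the count. -/
theorem hits_inv (p : ℕ) {g x : G} (hx : IsConj x x⁻¹) : (hits p g⁻¹ x).card = (hits p g x).card := by
  obtain ⟨h, hh⟩ := isConj_iff.1 hx
  rw [← hits_conj p g x h, hh]
  refine Finset.card_nbij' (fun a => a⁻¹) (fun a => a⁻¹) ?_ ?_ ?_ ?_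
  · intro a ha
    simp only [hits, Finset.mem_coe, Finset.mem_filter, Char.mem_classFinset] at ha ⊢
    refine ⟨?_, ?_⟩
    · obtain ⟨y, hy⟩ := isConj_iff.1 ha.1
      exact isConj_iff.2 ⟨y, by rw [← hy]; group⟩
    · rw [show a⁻¹ * x⁻¹ = a⁻¹ * (a * x)⁻¹ * a⁻¹⁻¹ by group, orderOf_conj', orderOf_inv]
      exact ha.2
  · intro a ha
    simp only [hits, Finset.mem_coe, Finset.mem_filter, Char.mem_classFinset] at ha ⊢
    refine ⟨?_, ?_⟩
    · obtain ⟨y, hy⟩ := isConj_iff.1 ha.1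
      exact isConj_iff.2 ⟨y, by rw [← hy]; group⟩
    · rw [show a⁻¹ * x = x⁻¹ * (a * x⁻¹)⁻¹ * x⁻¹⁻¹ by group, orderOf_conj', orderOf_inv]
      exact ha.2
  · intro a _; simp
  · intro a _; simp

/-- The pairs of two classes with product singular for `P` in its centralizer. -/
noncomputable def spairs {p : ℕ} [Fact p.Prime] (P : Sylow p G) (g v : G) : Finset (G × G) :=
  (Char.classFinset g ×ˢ Char.classFinset v).filter fun r => r.1 * r.2 ∈ sing P

theorem spairs_count {p : ℕ} [Fact p.Prime] {P : Sylow p G} (hP : Nat.card (P : Subgroup G) = p) {e c : ℕ}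
    (S : Small.Shape P e) (hC : Nat.card C[(P : Subgroup G)] = p * c) {g v : G}
    (hg : ¬ p ∣ orderOf g) (hv : ¬ p ∣ orderOf v) :
    ((spairs P g v).card : ℂ) * (Nat.card (Subgroup.centralizer ({g} : Set G)) : ℂ) *
        (Nat.card (Subgroup.centralizer ({v} : Set G)) : ℂ) =
      (Nat.card G : ℂ) * (((p - 1) * c : ℕ) : ℂ) *
        ∑ χ ∈ S.Z, (S.σ χ : ℂ) * ((χ : G → ℂ) g * (χ : G → ℂ) v / (χ : G → ℂ) 1) := by
  have hcount : (spairs P g v).card = ∑ h ∈ sing P,
      ((Char.classFinset g ×ˢ Char.classFinset v).filter fun r => r.1 * r.2 = h).card := by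
    rw [Finset.card_eq_sum_card_fiberwise (s := spairs P g v) (f := fun r : G × G => r.1 * r.2) (t := sing P)
      (fun r hr => Finset.mem_coe.2 (Finset.mem_filter.1 (Finset.mem_coe.1 hr)).2)]
    refine Finset.sum_congr rfl fun h hh => congrArg Finset.card ?_
    ext r
    simp only [spairs, Finset.mem_filter]
    exact ⟨fun a => ⟨a.1.1, a.2⟩, fun a => ⟨⟨a.1, a.2 ▸ hh⟩, a.2⟩⟩
  have hcl : ∀ y : G, ((Char.classFinset y).card : ℂ) * (Nat.card (Subgroup.centralizer ({y} : Set G)) : ℂ) =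
      (Nat.card G : ℂ) := fun y => by
    rw [Char.card_classFinset, ← Nat.cast_mul, mul_comm, Subgroup.card_mul_index]
  have hkey : ((spairs P g v).card : ℂ) = ((Char.classFinset g).card : ℂ) * (Char.classFinset v).card /
      (Nat.card G : ℂ) * ((((p - 1) * c : ℕ) : ℂ) *
        ∑ χ ∈ S.Z, (S.σ χ : ℂ) * ((χ : G → ℂ) g * (χ : G → ℂ) v / (χ : G → ℂ) 1)) := by
    rw [hcount, Nat.cast_sum, Finset.sum_congr rfl fun (h : G) _ => Char.card_class_product g v h,
      ← Finset.mul_sum, Finset.sum_comm, ← Local.sum_family hP S hC hg hv]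
    congr 1
    refine Finset.sum_congr rfl fun χ _ => ?_
    rw [sSum, map_sum, Finset.mul_sum, Finset.sum_div]
  have hG : (Nat.card G : ℂ) ≠ 0 := Nat.cast_ne_zero.2 Nat.card_pos.ne'
  rw [hkey]
  generalize (∑ χ ∈ S.Z, (S.σ χ : ℂ) * ((χ : G → ℂ) g * (χ : G → ℂ) v / (χ : G → ℂ) 1)) = T
  generalize (((p - 1) * c : ℕ) : ℂ) = E
  field_simp
  linear_combination (E * T) *
    (((Char.classFinset v).card : ℂ) * (Nat.card (Subgroup.centralizer ({v} : Set G)) : ℂ) * hcl g +
      (Nat.card G : ℂ) * hcl v)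

theorem spairs_inv {p : ℕ} [Fact p.Prime] (P : Sylow p G) {g v : G} (hv : v ^ 2 = 1) :
    (spairs P g⁻¹ v).card = (spairs P g v).card := by
  have key : ∀ g' : G, ∀ r ∈ spairs P g' v, (r.2 * r.1⁻¹ * r.2, r.2) ∈ spairs P g'⁻¹ v ∧
      r.2 * (r.2 * r.1⁻¹ * r.2)⁻¹ * r.2 = r.1 := by
    intro g' r hr
    simp only [spairs, Finset.mem_filter, Finset.mem_product, Char.mem_classFinset] at hr ⊢
    obtain ⟨⟨h1, h2⟩, h3⟩ := hr
    have hbb : r.2 * r.2 = 1 := by
      obtain ⟨y, hy⟩ := isConj_iff.1 h2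
      rw [← pow_two, ← hy, conj_pow, hv, mul_one, mul_inv_cancel]
    have hb : r.2⁻¹ = r.2 := inv_eq_of_mul_eq_one_right hbb
    refine ⟨⟨⟨?_, h2⟩, ?_⟩, ?_⟩
    · obtain ⟨y, hy⟩ := isConj_iff.1 h1
      refine isConj_iff.2 ⟨r.2 * y, ?_⟩
      rw [← hy, mul_inv_rev, hb]
      group
    · have e : r.2 * r.1⁻¹ * r.2 * r.2 = (r.1 * r.2)⁻¹ := by
        rw [mul_inv_rev, hb, mul_assoc, hbb, mul_one]
      obtain ⟨a1, a2⟩ := mem_sing.1 h3
      rw [e]
      exact mem_sing.2 ⟨inv_mem a1, by rwa [orderOf_inv]⟩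
    · rw [mul_inv_rev, mul_inv_rev, inv_inv, hb,
        show r.2 * (r.2 * (r.1 * r.2)) * r.2 = (r.2 * r.2) * r.1 * (r.2 * r.2) by group, hbb, one_mul, mul_one]
  refine Finset.card_nbij' (fun r => (r.2 * r.1⁻¹ * r.2, r.2)) (fun r => (r.2 * r.1⁻¹ * r.2, r.2)) ?_ ?_ ?_ ?_
  · intro r hr
    have := (key g⁻¹ r hr).1
    rwa [inv_inv] at this
  · intro r hr
    exact (key g r hr).1
  · intro r hr
    exact Prod.ext (key g⁻¹ r hr).2 rfl
  · intro r hr
    exact Prod.ext (key g r hr).2 rfl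

end General

end Cfsg.Lib.MTwentyFour.Six
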