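import Cfsg.Agent.Lib.MTwentyFour.Six.ThreeBasic
import Cfsg.Agent.Lib.MTwentyFour.Six.RowTests

/-!
The exceptional case of the cofactor 24: the element of order 3 it needs does not exist.
-/

set_option autoImplicit false
set_option linter.style.haveILetI false
set_option linter.unusedSectionVars false
set_option maxHeartbeats 1000000

namespace Cfsg.Lib.MTwentyFour.Six

open Cfsg Cfsg.Lib Cfsg.Lib.Block Cfsg.Lib.MTwentyFour.Eleven Cfsg.Lib.MTwentyFour.Local
open Cfsg.Lib.MTwentyFour.Search (ord24 v11)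
open scoped ComplexConjugate Classical

universe u

noncomputable local instance (priority := high) fintypeSubgroupThrees {A : Type u}
    [Group A] [Fintype A] (H : Subgroup A) : Fintype H := Fintype.ofFinite H

local notation "C[" P "]" => Subgroup.centralizer (SetLike.coe P)

section General

variable {G : Type u} [Group G] [Fintype G]

/-- An element of prime order commuting with `v` may be conjugated into the Sylow subgroup. -/
theorem conj_into {p : ℕ} [Fact p.Prime] (R : Sylow p G) (hR : Nat.card (R : Subgroup G) = p) {v r : G}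
    (hr : orderOf r = p) (hvr : Commute v r) :
    ∃ a : G, a * r * a⁻¹ ∈ pnt R ∧ a * v * a⁻¹ ∈ C[(R : Subgroup G)] := by
  obtain ⟨R', hR'⟩ := (IsPGroup.of_card (G := ↥(Subgroup.zpowers r)) (p := p) (n := 1)
    (by rw [Nat.card_zpowers, hr, pow_one])).exists_le_sylow
  obtain ⟨a, ha⟩ := MulAction.exists_smul_eq G R' R
  have har : a * r * a⁻¹ ∈ (R : Subgroup G) := by
    rw [← ha, Sylow.coe_subgroup_smul]
    exact Subgroup.smul_mem_pointwise_smul r (MulAut.conj a) _ (hR' (Subgroup.mem_zpowers r))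
  have hne : a * r * a⁻¹ ≠ 1 := fun h => by
    have := orderOf_conj' a r
    rw [h, orderOf_one, hr] at this
    exact (Fact.out : p.Prime).ne_one this.symm
  refine ⟨a, mem_pnt.2 ⟨har, hne⟩, ?_⟩
  rw [← centralizer_singleton_eq hR har hne]
  exact Subgroup.mem_centralizer_singleton_iff.2 (hvr.map (MulAut.conj a).toMonoidHom).eq

/-- The sum of the values at an element of order 3 modulo the prime of a commuting element, from the
common value on the sections. -/
theorem sv_mod {p : ℕ} [Fact p.Prime] {R : Sylow p G} (hR : Nat.card (R : Subgroup G) = p)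
    {M : Ideal AlgInt} (hM : IsPModular p M) (hp3 : ¬ p ∣ 3) {g r : G} (hg : orderOf g = 3)
    (hr : orderOf r = p) (hgr : Commute g r) (χ : IrrCharacter G) (s : ℤ)
    (hval : ∀ h ∈ sing R, (χ : G → ℂ) h = (s : ℂ)) : (p : ℤ) ∣ sv g χ - 2 * s := by
  refine int_dvd_of_memLocalIdeal hM ?_
  have key : ∀ y : G, orderOf y = 3 → Commute y r → MemLocalIdeal M ((s : ℂ) - (χ : G → ℂ) y) := by
    intro y hy hyr
    obtain ⟨a, har, hay⟩ := conj_into R hR hr hyr
    have hreg : a * y * a⁻¹ ∈ regs R := mem_regs.2 ⟨hay, by rw [orderOf_conj', hy]; exact hp3⟩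
    have h := charVal_sub_pReg_mem (p := p) hM χ.2.isCharacter ((a * r * a⁻¹) * (a * y * a⁻¹))
    rw [hval _ (mul_mem_sing hR har hreg),
      show pReg p ((a * r * a⁻¹) * (a * y * a⁻¹)) = a * y * a⁻¹ from (eq_pReg rfl
        (Subgroup.mem_centralizer_iff.1 hay _ (mem_pnt.1 har).1) (k := 1)
        (by rw [pow_one, orderOf_conj', hr]) (mem_regs.1 hreg).2).symm,
      χ.2.isCharacter.conj_invariant] at h
    exact h
  have h := memLocalIdeal_add hM (key g hg hgr) (key g⁻¹ (by rw [orderOf_inv, hg]) hgr.inv_left)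
  have h' := memLocalIdeal_neg hM h
  convert h' using 1
  push_cast
  rw [cast_sv hg]
  ring

end General

variable {G : Type u} [Group G] [Fintype G] [IsSimpleGroup G] [Fact (Nat.Prime 5)] [Fact (Nat.Prime 7)]
  (X : Ctx G) {Q : Sylow 5 G} {q : ℕ} {S5 : Small.Shape Q 4} {χA χa χB χE : IrrCharacter G}
  (hF : FiveFam Q q S5 χA χa χB χE) {P : Sylow 7 G} (S : Small.Shape P 6)
  (hP : Nat.card C[(P : Subgroup G)] = 7 * 24)
  {L : List (IrrCharacter G)} (hL : FamList S χa L)
include X hF S hP hL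

/-- The known characters. -/
noncomputable def knownList (χA χa χB χE : IrrCharacter G) (L : List (IrrCharacter G)) : List (IrrCharacter G) :=
  [Small.one' G, χA, χB, χa, χE] ++ L

theorem zipWith_sgv (f : IrrCharacter G → ℤ) :
    List.zipWith sgv (L.map (sd S)) (L.map fun χ => S.σ χ * f χ) = L.map f := by
  rw [List.zipWith_map, List.zipWith_self]
  refine List.map_congr_left fun χ hχ => ?_
  have hZ := (fam_facts X hF S hP hL hχ).1
  have hpos : (0 : ℤ) < (dg χ : ℤ) := Int.natCast_pos.2 (Block.charDegree_pos χ)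
  rcases S.sign χ hZ with h | h
  · simp [sgv, sd, h]
  · simp only [sgv, sd, h, neg_one_mul]
    rw [if_neg (by omega)]
    ring

theorem namedRow_eq {v : G} : namedRow (L.map (sd S)) (rowT S χA χa χB χE L v) =
    (knownList χA χa χB χE L).map (MTwentyTwo.intVal v) := by
  simp only [namedRow, knownList, rowT, List.map_append, List.map_cons, List.map_nil,
    MTwentyTwo.intVal_eq (z := v) (χ := Small.one' G) (m := 1) (by rw [Small.one'_apply]; norm_num),
    show (su S v : IrrCharacter G → ℤ) = fun χ => S.σ χ * MTwentyTwo.intVal v χ from rfl,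
    zipWith_sgv X hF S hP hL]

theorem yRow_eq : yRow (L.map (sd S)) = (knownList χA χa χB χE L).map fun χ => v11 (dg χ) := by
  obtain ⟨-, -, -, dA, da, dB, dE, -, -, -, -, -⟩ := hF
  simp only [yRow, knownList, List.map_append, List.map_cons, List.map_nil, dA, da, dB, dE, List.map_map,
    show dg (Small.one' G) = 1 from Small.charDegree_one', show v11 1 = 1 from rfl]
  congr 1
  refine List.map_congr_left fun χ hχ => ?_
  simp only [Function.comp_apply]
  rw [sd_natAbs S]
  exact Finset.mem_of_mem_erase (Finset.mem_of_mem_erase ((hL.2 χ).1 hχ))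

variable {w : G} (hw : w ∈ pnt Q) (hwI : ∀ χ : IrrCharacter G, (χ : G → ℂ) w = (MTwentyTwo.intVal w χ : ℂ))
include hw hwI

theorem xRow_eq : xRow (L.map (sd S)) (L.map fun χ => S.σ χ * MTwentyTwo.intVal w χ) =
    (knownList χA χa χB χE L).map (MTwentyTwo.intVal w) := by
  obtain ⟨h1, hA, ha, hB, hE⟩ := w_named X hF hw hwI
  simp only [xRow, knownList, List.map_append, List.map_cons, List.map_nil, h1, hA, ha, hB, hE,
    zipWith_sgv X hF S hP hL]

theorem pts4_eq {v z : G} : pts4 (L.map (sd S)) (L.map fun χ => S.σ χ * MTwentyTwo.intVal w χ)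
      (rowT S χA χa χB χE L v) (rowT S χA χa χB χE L z) =
    (knownList χA χa χB χE L).map fun χ =>
      [MTwentyTwo.intVal v χ, MTwentyTwo.intVal z χ, v11 (dg χ), MTwentyTwo.intVal w χ] := by
  simp only [pts4, pts3, namedRow_eq X hF S hP hL, yRow_eq X hF S hP hL, xRow_eq X hF S hP hL hw hwI,
    List.zipWith_map, List.zipWith_self, List.zipWith_map_left, List.zipWith_map_right, List.map_map,
    Function.comp_def, List.cons_append, List.nil_append]

/-- A non-free action gives an element of order 3 commuting with elements of orders 5 and 7. -/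
theorem exists_three (hJ : NoJ G) (hq : q = 12) (hn : ¬ 60 ∣ (hits 7 w w).card) :
    ∃ g r : G, orderOf g = 3 ∧ Commute g w ∧ orderOf r = 7 ∧ Commute g r := by
  obtain ⟨hwQ, hw1⟩ := mem_pnt.1 hw
  have hwo := w_order X hF hw
  set U := C[(Q : Subgroup G)] with hU
  have hUc : Nat.card U = 60 := by rw [hU, hF.1, hq]
  by_contra hno
  refine hn (hUc ▸ card_dvd_of_free U _ (fun u hu a ha => ?_) fun u hu a ha hc => ?_)
  · have hux : u * w * u⁻¹ = w := by
      rw [← Subgroup.mem_centralizer_iff.1 hu w hwQ, mul_inv_cancel_right]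
    simp only [hits, Finset.mem_filter, Char.mem_classFinset] at ha ⊢
    refine ⟨ha.1.trans (isConj_iff.2 ⟨u, rfl⟩), ?_⟩
    rw [show u * a * u⁻¹ * w = u * a * u⁻¹ * (u * w * u⁻¹) by rw [hux],
      show u * a * u⁻¹ * (u * w * u⁻¹) = u * (a * w) * u⁻¹ by group, orderOf_conj']
    exact ha.2
  · by_contra hu1
    obtain ⟨-, k, hk⟩ := Finset.mem_filter.1 ha
    have hk0 : k ≠ 0 := fun h => by rw [h, mul_zero] at hk; exact (orderOf_pos (a * w)).ne' hk
    set r := (a * w) ^ k with hr
    have hro : orderOf r = 7 := by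
      rw [hr, orderOf_pow_of_dvd hk0 ⟨7, by rw [hk, mul_comm]⟩, hk, Nat.mul_div_cancel _ (Nat.pos_of_ne_zero hk0)]
    have huw : Commute u w := (Subgroup.mem_centralizer_iff.1 hu w hwQ).symm
    have hur : Commute u r := (hc.mul_right huw).pow_right k
    obtain ⟨p, hp, hpd⟩ := Nat.exists_prime_and_dvd (n := orderOf u) fun e => hu1 (orderOf_eq_one_iff.1 e)
    obtain ⟨j, hj⟩ := hpd
    have hj0 : j ≠ 0 := fun h => by rw [h, mul_zero] at hj; exact (orderOf_pos u).ne' hj
    set y := u ^ j with hy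
    have hyo : orderOf y = p := by
      rw [hy, orderOf_pow_of_dvd hj0 ⟨p, by rw [hj, mul_comm]⟩, hj, Nat.mul_div_cancel _ (Nat.pos_of_ne_zero hj0)]
    have hyw : Commute y w := huw.pow_left j
    have hyr : Commute y r := hur.pow_left j
    have hp60 : p ∣ 60 := by
      rw [← hUc, ← hyo]; exact Subgroup.orderOf_dvd_natCard _ (pow_mem hu j)
    have hp5 : p = 2 ∨ p = 3 ∨ p = 5 := by
      have := Nat.le_of_dvd (by norm_num) hp60
      interval_cases p <;> first | omega | norm_num at hp | norm_num at hp60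
    rcases hp5 with rfl | rfl | rfl
    · refine hJ y hyo ?_
      have a5 : 5 ∣ Nat.card (Subgroup.centralizer ({y} : Set G)) :=
        hwo ▸ Subgroup.orderOf_dvd_natCard _ (Subgroup.mem_centralizer_singleton_iff.2 hyw.eq.symm)
      have a7 : 7 ∣ Nat.card (Subgroup.centralizer ({y} : Set G)) :=
        hro ▸ Subgroup.orderOf_dvd_natCard _ (Subgroup.mem_centralizer_singleton_iff.2 hyr.eq.symm)
      exact Nat.Coprime.mul_dvd_of_dvd_of_dvd (by norm_num : Nat.Coprime 5 7) a5 a7
    · exact hno ⟨y, r, hyo, hyw, hro, hyr⟩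
    · -- an element of order 5 of the centralizer lies in `Q`
      obtain ⟨b, -, hbC⟩ := conj_into Q S5.card_P hyo hyr.symm
      have h7' := Subgroup.orderOf_dvd_natCard _ hbC
      rw [orderOf_conj', hro, hF.1] at h7'
      exact hF.2.2.1 (Nat.Coprime.dvd_of_dvd_mul_left (by norm_num) h7')

variable {g r : G} (hg : orderOf g = 3) (hgw : Commute g w) (hr : orderOf r = 7) (hgr : Commute g r)
include hg hgw hr hgr

theorem cent_g : Nat.card (Subgroup.centralizer ({g} : Set G)) ∈ centsG := by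
  haveI : Fact (Nat.Prime 11) := ⟨by norm_num⟩
  haveI : Fact (Nat.Prime 23) := ⟨by norm_num⟩
  haveI : Fact (Nat.Prime 3) := ⟨by norm_num⟩
  set C := Nat.card (Subgroup.centralizer ({g} : Set G))
  have hd : C ∣ 967680 * (11 * 23) := (Subgroup.card_subgroup_dvd_card _).trans
    (dvd_of_eq (by rw [card24 X]))
  have h23 : ¬ 23 ∣ C := fun h => by
    obtain ⟨⟨u, hu⟩, huo⟩ := exists_prime_orderOf_dvd_card' (G := Subgroup.centralizer ({g} : Set G)) 23 h
    rw [Subgroup.orderOf_mk] at huo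
    have := X.cent u g huo (Subgroup.mem_centralizer_singleton_iff.1 hu)
    rw [hg] at this
    norm_num at this
  have h11 : ¬ 11 ∣ C := fun h => by
    obtain ⟨⟨u, hu⟩, huo⟩ := exists_prime_orderOf_dvd_card' (G := Subgroup.centralizer ({g} : Set G)) 11 h
    rw [Subgroup.orderOf_mk] at huo
    obtain ⟨R, hR, huR, hu1⟩ := Eleven.exists_sylow (q := 11) (X.hcard ▸ by norm_num) (X.hcard ▸ by norm_num) huo
    have hgC : g ∈ C[(R : Subgroup G)] := by
      rw [← centralizer_singleton_eq hR huR hu1]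
      exact Subgroup.mem_centralizer_singleton_iff.2 (Subgroup.mem_centralizer_singleton_iff.1 hu).symm
    have := Subgroup.orderOf_dvd_natCard _ hgC
    rw [hg, (local_eleven (card24 X) R).1] at this
    norm_num at this
  have hc : C.Coprime (11 * 23) := Nat.Coprime.mul_right
    ((Nat.Prime.coprime_iff_not_dvd (by norm_num)).2 h11).symm
    ((Nat.Prime.coprime_iff_not_dvd (by norm_num)).2 h23).symm
  have a3 : 3 ∣ C := hg ▸ Subgroup.orderOf_dvd_natCard _ (Subgroup.mem_centralizer_singleton_iff.2 rfl)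
  have a5 : 5 ∣ C := (w_order X hF hw) ▸
    Subgroup.orderOf_dvd_natCard _ (Subgroup.mem_centralizer_singleton_iff.2 hgw.eq.symm)
  have a7 : 7 ∣ C := hr ▸ Subgroup.orderOf_dvd_natCard _ (Subgroup.mem_centralizer_singleton_iff.2 hgr.eq.symm)
  refine List.mem_filter.2 ⟨mem_dv (by norm_num) (hc.dvd_of_dvd_mul_right hd), ?_⟩
  simp only [beq_iff_eq]
  omega

theorem sv_sq (χ : IrrCharacter G) : sv g χ * sv g χ ≤ 4 * (Nat.card (Subgroup.centralizer ({g} : Set G)) : ℤ) := by
  obtain ⟨n, hn, hle, -⟩ := sum_sv_sq hg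
  exact le_trans (hn ▸ Finset.single_le_sum (f := fun χ => sv g χ * sv g χ) (fun _ _ => mul_self_nonneg _)
    (Finset.mem_univ χ)) hle

theorem sok {χ : IrrCharacter G} {d : ℕ} (hd : dg χ = d) {r7 r5 : Option ℤ}
    (h7 : ∀ a ∈ r7, (7 : ℤ) ∣ sv g χ - 2 * a) (h5 : ∀ a ∈ r5, (5 : ℤ) ∣ sv g χ - 2 * a) :
    sv g χ ∈ sdom (Nat.card (Subgroup.centralizer ({g} : Set G))) d r7 r5 := by
  subst hd
  refine mem_sdom (Block.charDegree_pos χ) (cent_g X hF S hP hL hw hwI hg hgw hr hgr)
    ⟨?_, sv_sq X hF S hP hL hw hwI hg hgw hr hgr χ, sv_three hg χ, h7, h5⟩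
  have := qof_dvd_sv hg χ
  rwa [card24 X] at this

theorem mod7 {χ : IrrCharacter G} (s : ℤ) (h : (χ ∈ S.Z ∧ s = S.σ χ) ∨ (7 ∣ dg χ ∧ s = 0)) :
    (7 : ℤ) ∣ sv g χ - 2 * s :=
  sv_mod S.card_P S.hM (by norm_num) hg hr hgr χ s fun y hy => by
    rcases h with ⟨hZ, rfl⟩ | ⟨hd, rfl⟩
    · exact val_one S hP hZ hy
    · rw [value_zero (fac_seven X) χ hd (mem_sing.1 hy).2, Int.cast_zero]

theorem mod5 {χ : IrrCharacter G} (s : ℤ) (h : (χ ∈ S5.Z ∧ s = S5.σ χ) ∨ (5 ∣ dg χ ∧ s = 0)) :
    (5 : ℤ) ∣ sv g χ - 2 * s :=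
  sv_mod S5.card_P S5.hM (by norm_num) hg (w_order X hF hw) hgw χ s fun y hy => by
    haveI : Fact (Nat.Prime 11) := ⟨by norm_num⟩
    rcases h with ⟨hZ, rfl⟩ | ⟨hd, rfl⟩
    · exact val_full S5 (by norm_num) hF.1 hZ hy
    · rw [value_zero (fac_five X) χ hd (mem_sing.1 hy).2, Int.cast_zero]

theorem rel5g : sv g χE = sv g χa + sv g χB - 2 - sv g χA := by
  obtain ⟨-, -, -, dA, da, dB, dE, hZ, sA, sa, sB, sE⟩ := hF
  have hne : ∀ {χ ψ : IrrCharacter G}, dg χ ≠ dg ψ → χ ≠ ψ := fun h e => h (e ▸ rfl)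
  have h1 : dg (Small.one' G) = 1 := Small.charDegree_one'
  have e1 := S5.rel g (by rw [hg]; norm_num)
  have e2 := S5.rel g⁻¹ (by rw [orderOf_inv, hg]; norm_num)
  rw [hZ, Finset.sum_insert, Finset.sum_insert, Finset.sum_insert, Finset.sum_insert, Finset.sum_singleton] at e1 e2
  · simp only [S5.sign_one, sA, sa, sB, sE, Small.one'_apply] at e1 e2
    push_cast at e1 e2
    apply Int.cast_injective (α := ℂ)
    push_cast
    rw [cast_sv hg, cast_sv hg, cast_sv hg, cast_sv hg]
    linear_combination e1 + e2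
  all_goals simp only [Finset.mem_insert, Finset.mem_singleton, not_or]
  all_goals (try constructorm* _ ∧ _)
  all_goals (apply hne; simp [h1, dA, da, dB, dE])

theorem rel7g : (L.map fun χ => S.σ χ * sv g χ).sum = -2 - sv g χa := by
  obtain ⟨-, hsa, -⟩ := named_facts X hF S hP
  have e1 := S.rel g (by rw [hg]; norm_num)
  have e2 := S.rel g⁻¹ (by rw [orderOf_inv, hg]; norm_num)
  have h' : ((∑ χ ∈ S.Z, S.σ χ * sv g χ : ℤ) : ℂ) = ((0 : ℤ) : ℂ) := by
    rw [Int.cast_sum, Int.cast_zero, ← add_zero (0 : ℂ)]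
    conv_rhs => arg 1; rw [← e1]
    conv_rhs => arg 2; rw [← e2]
    rw [← Finset.sum_add_distrib]
    exact Finset.sum_congr rfl fun χ _ => by rw [Int.cast_mul, cast_sv hg]; ring
  have h'' : ∑ χ ∈ S.Z, S.σ χ * sv g χ = 0 := Int.cast_injective h'
  rw [sum_list X hF S hP hL, S.sign_one, hsa, sv_one] at h''
  linarith

theorem known_sq (n : ℤ) (hn : ∑ χ : IrrCharacter G, sv g χ * sv g χ = n) :
    4 + sv g χA * sv g χA + sv g χB * sv g χB + sv g χa * sv g χa + sv g χE * sv g χE +
      ((L.map fun χ => S.σ χ * sv g χ).map fun x => x * x).sum ≤ n := by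
  rw [← hn]
  refine le_trans (le_of_eq ?_) (Finset.sum_le_sum_of_subset_of_nonneg
    (s := ([Small.one' G, χA, χB, χa, χE] ++ L).toFinset) (Finset.subset_univ _) fun _ _ _ => mul_self_nonneg _)
  rw [List.sum_toFinset _ (known_nodup X hF S hP hL), List.map_append, List.sum_append, List.map_map]
  congr 1
  · simp [sv_one]; ring
  · refine congrArg List.sum (List.map_congr_left fun χ hχ => ?_)
    simp only [Function.comp_apply]
    rcases S.sign χ (fam_facts X hF S hP hL hχ).1 with h | h <;> rw [h] <;> ring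

/-- The values lie in the computed columns. -/
theorem mem_gRows (hJ : NoJ G) :
    ([sv g χA, sv g χB, sv g χa, sv g χE], L.map fun χ => S.σ χ * sv g χ) ∈
      gRows (L.map (sd S)) (Nat.card (Subgroup.centralizer ({g} : Set G))) := by
  haveI : Fact (Nat.Prime 11) := ⟨by norm_num⟩
  obtain ⟨haZ, hsa, -⟩ := named_facts X hF S hP
  have hF' := hF
  obtain ⟨hQ, -, -, dA, da, dB, dE, hZ, sA, sa, sB, sE⟩ := hF'
  have hA5 : χA ∈ S5.Z := by simp [hZ]
  have ha5 : χa ∈ S5.Z := by simp [hZ]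
  have hB5 : χB ∈ S5.Z := by simp [hZ]
  have hE5 : χE ∈ S5.Z := by simp [hZ]
  have m7 := fun χ s h => mod7 X hF S hP hL hw hwI hg hgw hr hgr (χ := χ) s h
  have m5 := fun χ s h => mod5 X hF S hP hL hw hwI hg hgw hr hgr (χ := χ) s h
  have msok := fun {χ : IrrCharacter G} {d : ℕ} (hd : dg χ = d) {r7 r5 : Option ℤ} =>
    sok X hF S hP hL hw hwI hg hgw hr hgr hd (r7 := r7) (r5 := r5)
  set C := Nat.card (Subgroup.centralizer ({g} : Set G)) with hC
  have sa' : sv g χa ∈ sdom C 2024 (some 1) (some (-1)) := msok da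
    (fun a e => by cases e; exact m7 χa 1 (Or.inl ⟨haZ, hsa.symm⟩))
    (fun a e => by cases e; exact m5 χa (-1) (Or.inl ⟨ha5, sa.symm⟩))
  have sA' : sv g χA ∈ sdom C 5796 (some 0) (some 1) := msok dA
    (fun a e => by cases e; exact m7 χA 0 (Or.inr ⟨by rw [dA]; norm_num, rfl⟩))
    (fun a e => by cases e; exact m5 χA 1 (Or.inl ⟨hA5, sA.symm⟩))
  have sB' : sv g χB ∈ sdom C 5544 (some 0) (some (-1)) := msok dB
    (fun a e => by cases e; exact m7 χB 0 (Or.inr ⟨by rw [dB]; norm_num, rfl⟩))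
    (fun a e => by cases e; exact m5 χB (-1) (Or.inl ⟨hB5, sB.symm⟩))
  have sE' : sv g χE ∈ sdom C 1771 (some 0) (some 1) := msok dE
    (fun a e => by cases e; exact m7 χE 0 (Or.inr ⟨by rw [dE]; norm_num, rfl⟩))
    (fun a e => by cases e; exact m5 χE 1 (Or.inl ⟨hE5, sE.symm⟩))
  have hone : ∀ χ ∈ L, S.σ χ * sv g χ ∈ gdom C (sd S χ) := by
    intro χ hχ
    have hZ7 := (fam_facts X hF S hP hL hχ).1
    have hpos : (0 : ℤ) < (dg χ : ℤ) := Int.natCast_pos.2 (Block.charDegree_pos χ)
    refine List.mem_map.2 ⟨sv g χ, ?_, ?_⟩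
    · refine msok (sd_natAbs S hZ7).symm (fun a e => ?_) fun a e => ?_
      · cases e
        refine m7 χ _ (Or.inl ⟨hZ7, ?_⟩)
        rcases S.sign χ hZ7 with h | h
        · simp [sgv, sd, h]
        · simp only [sgv, sd, h, neg_one_mul]; rw [if_neg (by omega)]
      · split_ifs at e with h5
        · cases e
          have h5' : 5 ∣ dg χ := by
            have := Int.natAbs_dvd_natAbs.2 (Int.dvd_of_emod_eq_zero (beq_iff_eq.1 h5))
            rwa [sd_natAbs S hZ7] at this
          exact m5 χ 0 (Or.inr ⟨h5', rfl⟩)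
        · simp at e
    · rcases S.sign χ hZ7 with h | h
      · simp [sgv, sd, h]
      · simp only [sgv, sd, h, neg_one_mul]; rw [if_neg (by omega)]
  obtain ⟨n, hn, hle, -⟩ := sum_sv_sq hg
  have hsq := known_sq X hF S hP hL hw hwI hg hgw hr hgr n hn
  rw [← hC] at hle
  have hE := rel5g X hF S hP hL hw hwI hg hgw hr hgr
  have hrel := rel7g X hF S hP hL hw hwI hg hgw hr hgr
  -- the count at 5
  obtain ⟨x, hx⟩ := exists_pnt X S
  have hxo : orderOf x = 7 := orderOf_of_mem S.card_P (mem_pnt.1 hx).1 (mem_pnt.1 hx).2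
  have hcount := fun (y : G) (hy : orderOf y = 3) => hits_count S5.card_P S5 hQ
    (v := y) (g := x) (by rw [hy]; norm_num) (by rw [hxo]; norm_num)
  have hxinv : IsConj x x⁻¹ := pnt_conj S.card_P hP S.relIndex_eq hx
    (mem_pnt.2 ⟨inv_mem (mem_pnt.1 hx).1, fun e => (mem_pnt.1 hx).2 (inv_eq_one.1 e)⟩)
  have hc1 := hcount g hg
  have hc2 := hcount g⁻¹ (by rw [orderOf_inv, hg])
  rw [hits_inv 5 hxinv, card_cent_inv, ← hC] at hc2
  rw [← hC] at hc1
  have hne : ∀ {χ ψ : IrrCharacter G}, dg χ ≠ dg ψ → χ ≠ ψ := fun h e => h (e ▸ rfl)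
  have h1 : dg (Small.one' G) = 1 := Small.charDegree_one'
  have hcnt : ((hits 5 g x).card : ℤ) * (C : ℤ) * 2 = 24192 * (4048 - sv g χa) := by
    rw [hZ, Finset.sum_insert, Finset.sum_insert, Finset.sum_insert, Finset.sum_insert, Finset.sum_singleton] at hc1 hc2
    · simp only [S5.sign_one, sA, sa, sB, sE, MEleven.apply_one, Small.one'_apply,
        value_zero (fac_seven X) χA (by rw [dA]; norm_num) (show 7 ∣ orderOf x by rw [hxo]),
        value_zero (fac_seven X) χB (by rw [dB]; norm_num) (show 7 ∣ orderOf x by rw [hxo]),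
        value_zero (fac_seven X) χE (by rw [dE]; norm_num) (show 7 ∣ orderOf x by rw [hxo]),
        val_one S hP haZ (mem_sing.2 ⟨le_centralizer_self S.card_P (mem_pnt.1 hx).1, hxo ▸ dvd_rfl⟩), hsa,
        show MEleven.deg χa = 2024 from da] at hc1 hc2
      rw [card24 X] at hc1 hc2
      apply Int.cast_injective (α := ℂ)
      push_cast at hc1 hc2 ⊢
      rw [cast_sv hg]
      linear_combination hc1 / 20 + hc2 / 20
    all_goals simp only [Finset.mem_insert, Finset.mem_singleton, not_or]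
    all_goals (try constructorm* _ ∧ _)
    all_goals (apply hne; simp [h1, dA, da, dB, dE])
  have hdiv : (24192 * (4048 - sv g χa)) % ((2 * C * 56 : ℕ) : ℤ) = 0 := by
    have h56 : 56 ∣ (hits 5 g x).card := Nat.Coprime.mul_dvd_of_dvd_of_dvd (by norm_num : Nat.Coprime 7 8)
      (hits_dvd_seven X hF S hx g) (hits_dvd_eight X S hP hx g hJ)
    refine Int.emod_eq_zero_of_dvd ?_
    rw [← hcnt]
    obtain ⟨k, hk⟩ := h56
    exact ⟨k, by rw [hk]; push_cast; ring⟩
  have hne' : L ≠ [] := fun e => by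
    have h := card_five X hF S hP
    rw [← show L.toFinset = five (χa := χa) S from Finset.ext fun χ => by rw [List.mem_toFinset, hL.2], e] at h
    simp at h
  have hL' := (List.dropLast_append_getLast hne').symm
  have hlast : L.getLast hne' ∈ L := List.getLast_mem hne'
  set χl := L.getLast hne'
  set K := L.dropLast
  simp only [gRows]
  rw [show (L.map (sd S)).reverse = sd S χl :: (K.map (sd S)).reverse by rw [hL']; simp]
  simp only [List.reverse_reverse]
  refine List.mem_flatMap.2 ⟨sv g χa, List.mem_filter.2 ⟨sa', by simpa using hdiv⟩,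
    List.mem_flatMap.2 ⟨sv g χA, sA', List.mem_flatMap.2 ⟨sv g χB, sB', ?_⟩⟩⟩
  rw [← hE, if_pos (List.contains_iff_mem.2 sE')]
  refine List.mem_map.2 ⟨L.map fun χ => S.σ χ * sv g χ, ?_, rfl⟩
  rw [show (L.map fun χ => S.σ χ * sv g χ) =
    K.map (fun χ => S.σ χ * sv g χ) ++ [S.σ χl * sv g χl] by rw [hL']; simp]
  refine mem_dfs _ _ _ _ _ _ ?_ (List.contains_iff_mem.2 (hone χl hlast)) ?_ ?_
  · rw [List.forall₂_map_left_iff, List.forall₂_map_right_iff, List.forall₂_map_right_iff, List.forall₂_same]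
    intro χ hχ
    exact hone χ (by rw [hL']; exact List.mem_append_left _ hχ)
  · rw [hL'] at hrel
    simpa using hrel
  · rw [hL'] at hsq
    simp at hsq ⊢
    linarith

theorem h5_ok : decide (0 ≤ 34974720 * (2 * (lc (L.map (sd S)) : ℤ) - ((lc (L.map (sd S)) : ℤ) / 2024) * sv g χa +
      mix (lc (L.map (sd S)) : ℤ) (L.map (sd S)) (L.map fun χ => S.σ χ * MTwentyTwo.intVal w χ) (L.map fun χ => S.σ χ * sv g χ))) = true ∧
    (34974720 * (2 * (lc (L.map (sd S)) : ℤ) - ((lc (L.map (sd S)) : ℤ) / 2024) * sv g χa +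
      mix (lc (L.map (sd S)) : ℤ) (L.map (sd S)) (L.map fun χ => S.σ χ * MTwentyTwo.intVal w χ) (L.map fun χ => S.σ χ * sv g χ))) %
      ((2 * Nat.card (Subgroup.centralizer ({g} : Set G)) * lc (L.map (sd S)) : ℕ) : ℤ) = 0 := by
  obtain ⟨h1, -, ha, -, -⟩ := w_named X hF hw hwI
  have hwo := w_order X hF hw
  have hwinv : IsConj w w⁻¹ := pnt_conj S5.card_P hF.1 S5.relIndex_eq hw
    (mem_pnt.2 ⟨inv_mem (mem_pnt.1 hw).1, fun e => (mem_pnt.1 hw).2 (inv_eq_one.1 e)⟩)
  have hcount := fun (y : G) (hy : orderOf y = 3) => hits_count S.card_P S hP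
    (v := y) (g := w) (by rw [hy]; norm_num) (by rw [hwo]; norm_num)
  have hc1 := hcount g hg
  have hc2 := hcount g⁻¹ (by rw [orderOf_inv, hg])
  rw [hits_inv 7 hwinv, card_cent_inv] at hc2
  have hsp := sum_pair X hF S hP hL (MTwentyTwo.intVal w) (sv g) h1
  simp only [sv_one, ha] at hsp
  have hh : ((hits 7 g w).card : ℤ) * (2 * (Nat.card (Subgroup.centralizer ({g} : Set G)) : ℤ)) * (lc (L.map (sd S)) : ℤ) =
      34974720 * (2 * (lc (L.map (sd S)) : ℤ) - ((lc (L.map (sd S)) : ℤ) / 2024) * sv g χa +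
      mix (lc (L.map (sd S)) : ℤ) (L.map (sd S)) (L.map fun χ => S.σ χ * MTwentyTwo.intVal w χ) (L.map fun χ => S.σ χ * sv g χ)) := by
    rw [card24 X] at hc1 hc2
    simp only [hwI, MEleven.apply_one] at hc1 hc2
    apply Int.cast_injective (α := ℂ)
    push_cast at hc1 hc2 hsp ⊢
    simp only [cast_sv hg] at hsp ⊢
    have hsum : ∀ χ : IrrCharacter G, (S.σ χ : ℂ) *
        ((MTwentyTwo.intVal w χ : ℂ) * ((χ : G → ℂ) g + (χ : G → ℂ) g⁻¹) / (dg χ : ℂ)) =
        (S.σ χ : ℂ) * ((χ : G → ℂ) g * (MTwentyTwo.intVal w χ : ℂ) / (dg χ : ℂ)) +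
        (S.σ χ : ℂ) * ((χ : G → ℂ) g⁻¹ * (MTwentyTwo.intVal w χ : ℂ) / (dg χ : ℂ)) := fun χ => by ring
    rw [Finset.sum_congr rfl fun χ _ => hsum χ, Finset.sum_add_distrib] at hsp
    linear_combination ((lc (L.map (sd S)) : ℕ) : ℂ) / 42 * (hc1 + hc2) - (34974720 : ℂ) * hsp
  rw [decide_eq_true_eq, ← hh]
  refine ⟨by positivity, Int.emod_eq_zero_of_dvd ⟨(hits 7 g w).card, ?_⟩⟩
  push_cast
  ring

theorem h7_ok {v : G} (hv : orderOf v = 2) :
    decide (0 ≤ 144 * (ord24 : ℤ) * (2 * (lc (L.map (sd S)) : ℤ) + ((lc (L.map (sd S)) : ℤ) / 2024) * (MTwentyTwo.intVal v χa * sv g χa) +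
      mix (lc (L.map (sd S)) : ℤ) (L.map (sd S)) (L.map (su S v)) (L.map fun χ => S.σ χ * sv g χ))) = true ∧
    (144 * (ord24 : ℤ) * (2 * (lc (L.map (sd S)) : ℤ) + ((lc (L.map (sd S)) : ℤ) / 2024) * (MTwentyTwo.intVal v χa * sv g χa) +
      mix (lc (L.map (sd S)) : ℤ) (L.map (sd S)) (L.map (su S v)) (L.map fun χ => S.σ χ * sv g χ))) %
      ((2 * Nat.card (Subgroup.centralizer ({g} : Set G)) * Nat.card (Subgroup.centralizer ({v} : Set G)) *
        lc (L.map (sd S)) : ℕ) : ℤ) = 0 := by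
  have hv7 : ¬ 7 ∣ orderOf v := by rw [hv]; norm_num
  have hc1 := spairs_count S.card_P S hP (g := g) (v := v) (by rw [hg]; norm_num) hv7
  have hc2 := spairs_count S.card_P S hP (g := g⁻¹) (v := v) (by rw [orderOf_inv, hg]; norm_num) hv7
  rw [spairs_inv P (hv ▸ pow_orderOf_eq_one v), card_cent_inv] at hc2
  have hv1 : MTwentyTwo.intVal v (Small.one' G) = 1 := MTwentyTwo.intVal_eq (by rw [Small.one'_apply]; norm_num)
  have hsp := sum_pair X hF S hP hL (MTwentyTwo.intVal v) (sv g) hv1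
  simp only [sv_one] at hsp
  have hh : ((spairs P g v).card : ℤ) * (2 * (Nat.card (Subgroup.centralizer ({g} : Set G)) : ℤ) *
        (Nat.card (Subgroup.centralizer ({v} : Set G)) : ℤ)) * (lc (L.map (sd S)) : ℤ) =
      144 * (ord24 : ℤ) * (2 * (lc (L.map (sd S)) : ℤ) + ((lc (L.map (sd S)) : ℤ) / 2024) * (MTwentyTwo.intVal v χa * sv g χa) +
      mix (lc (L.map (sd S)) : ℤ) (L.map (sd S)) (L.map (su S v)) (L.map fun χ => S.σ χ * sv g χ)) := by
    rw [card24 X] at hc1 hc2
    simp only [cast_val X hv, MEleven.apply_one] at hc1 hc2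
    apply Int.cast_injective (α := ℂ)
    simp only [show (su S v : IrrCharacter G → ℤ) = fun χ => S.σ χ * MTwentyTwo.intVal v χ from rfl]
    push_cast at hc1 hc2 hsp ⊢
    simp only [cast_sv hg] at hsp ⊢
    have hsum : ∀ χ : IrrCharacter G, (S.σ χ : ℂ) *
        ((MTwentyTwo.intVal v χ : ℂ) * ((χ : G → ℂ) g + (χ : G → ℂ) g⁻¹) / (dg χ : ℂ)) =
        (S.σ χ : ℂ) * ((χ : G → ℂ) g * (MTwentyTwo.intVal v χ : ℂ) / (dg χ : ℂ)) +
        (S.σ χ : ℂ) * ((χ : G → ℂ) g⁻¹ * (MTwentyTwo.intVal v χ : ℂ) / (dg χ : ℂ)) := fun χ => by ring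
    rw [Finset.sum_congr rfl fun χ _ => hsum χ, Finset.sum_add_distrib] at hsp
    linear_combination ((lc (L.map (sd S)) : ℕ) : ℂ) * (hc1 + hc2) - (144 * 244823040 : ℂ) * hsp
  rw [decide_eq_true_eq, ← hh]
  refine ⟨by positivity, Int.emod_eq_zero_of_dvd ⟨(spairs P g v).card, ?_⟩⟩
  push_cast
  ring

omit g r hg hgw hr hgr in
/-- The exceptional case does not occur. -/
theorem gcase_false (hJ : NoJ G) {v z : G} (hv : orderOf v = 2) (hz : orderOf z = 2)
    (hvz : Nat.card (Subgroup.centralizer ({v} : Set G)) ≠ Nat.card (Subgroup.centralizer ({z} : Set G)))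
    {χ : IrrCharacter G} {d : ℕ} (hd : dg χ = d) (hd' : d ∈ [45, 540, 3840])
    (hχ : χ ∉ knownList χA χa χB χE L) :
    gCase (L.map (sd S)) (L.map fun ψ => S.σ ψ * MTwentyTwo.intVal w ψ) q
      (rowT S χA χa χB χE L v) (rowT S χA χa χB χE L z)
      (d, MTwentyTwo.intVal v χ, MTwentyTwo.intVal z χ) = false := by
  rw [Bool.eq_false_iff]
  intro hG
  simp only [gCase, Bool.and_eq_true, beq_iff_eq, Bool.not_eq_true', beq_eq_false_iff_ne] at hG
  obtain ⟨⟨hq, hnum⟩, hkill⟩ := hG
  have hwo := w_order X hF hw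
  obtain ⟨h1, -, ha, -, -⟩ := w_named X hF hw hwI
  have hn : ¬ 60 ∣ (hits 7 w w).card := by
    rintro ⟨k, hk⟩
    refine hnum (Int.emod_eq_zero_of_dvd ⟨(k : ℤ), ?_⟩)
    have hc := hits_count S.card_P S hP (v := w) (g := w) (by rw [hwo]; norm_num) (by rw [hwo]; norm_num)
    have hsp := sum_pair X hF S hP hL (MTwentyTwo.intVal w) (MTwentyTwo.intVal w) h1
    simp only [h1, ha, mul_one, neg_mul, one_mul, neg_neg] at hsp
    rw [card24 X, centralizer_singleton_eq S5.card_P (mem_pnt.1 hw).1 (mem_pnt.1 hw).2, hF.1, hq, hk] at hc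
    simp only [hwI, MEleven.apply_one] at hc
    apply Int.cast_injective (α := ℂ)
    push_cast at hc hsp ⊢
    linear_combination (-((lc (L.map (sd S)) : ℕ) : ℂ) / 42) * hc + (34974720 : ℂ) * hsp
  obtain ⟨g, r, hg, hgw, hr, hgr⟩ := exists_three X hF S hP hL hw hwI hJ hq hn
  set C := Nat.card (Subgroup.centralizer ({g} : Set G)) with hC
  have hrow := mem_gRows X hF S hP hL hw hwI hg hgw hr hgr hJ
  simp only [gKill, List.all_eq_true] at hkill
  have h := hkill C (cent_g X hF S hP hL hw hwI hg hgw hr hgr) _ hrow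
  obtain ⟨a5, b5⟩ := h5_ok X hF S hP hL hw hwI hg hgw hr hgr
  obtain ⟨a7, b7⟩ := h7_ok X hF S hP hL hw hwI hg hgw hr hgr hv
  simp only [List.getD_cons_succ, List.getD_cons_zero, rowT, Bool.or_eq_true, Bool.not_eq_true',
    ← Bool.not_eq_true, decide_eq_true_eq, List.all_eq_true] at h
  rw [decide_eq_true_eq] at a5 a7
  obtain ⟨n, hn, hle, hodd⟩ := sum_sv_sq hg
  rw [← hC] at hle hodd
  set m := gNorm C ([sv g χA, sv g χB, sv g χa, sv g χE] ++ L.map fun ψ => S.σ ψ * sv g ψ) with hm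
  have hnm : n ≤ m := by
    rw [hm, gNorm]
    split_ifs with ho
    · refine le_of_eq (hodd ?_)
      simp only [List.any_eq_true, List.mem_append, List.mem_cons, List.not_mem_nil, or_false, List.mem_map,
        Bool.not_eq_true', beq_eq_false_iff_ne] at ho
      obtain ⟨t, ht, hto⟩ := ho
      rcases ht with (rfl | rfl | rfl | rfl) | ⟨ψ, hψ, rfl⟩
      · exact ⟨χA, hto⟩
      · exact ⟨χB, hto⟩
      · exact ⟨χa, hto⟩
      · exact ⟨χE, hto⟩
      · refine ⟨ψ, fun h => hto ?_⟩
        rcases S.sign ψ (fam_facts X hF S hP hL hψ).1 with e | e <;> rw [e] <;> omega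
    · exact hle
  have hsq := known_sq X hF S hP hL hw hwI hg hgw hr hgr n hn
  have hsq' : ¬ m < dot [sv g χA, sv g χB, sv g χa, sv g χE] [sv g χA, sv g χB, sv g χa, sv g χE] +
      dot (L.map fun ψ => S.σ ψ * sv g ψ) (L.map fun ψ => S.σ ψ * sv g ψ) + 4 := by
    have hdot : ∀ l : List ℤ, dot l l = (l.map fun x => x * x).sum := fun l => by
      induction l with
      | nil => rfl
      | cons a l ih => simp [dot, ih]
    rw [hdot, hdot]
    simp only [List.map_cons, List.map_nil, List.sum_cons, List.sum_nil]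
    linarith
  rcases h with ((h | h) | h) | h
  · exact h (by rw [Bool.and_eq_true]; exact ⟨decide_eq_true a7, beq_iff_eq.2 b7⟩)
  · exact h (by rw [Bool.and_eq_true]; exact ⟨decide_eq_true a5, beq_iff_eq.2 b5⟩)
  · exact hsq' h
  · have ht : sv g χ ∈ gExtra C d := by
      have hd5 : 5 ∣ dg χ := by
        simp only [List.mem_cons, List.not_mem_nil, or_false] at hd'
        rcases hd' with rfl | rfl | rfl <;> rw [hd] <;> norm_num
      simp only [gExtra, beq_iff_eq]
      split_ifs with h27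
      · haveI : Fact (Nat.Prime 3) := ⟨Nat.prime_three⟩
        have hfull : (MEleven.deg χ).factorization 3 = (Nat.card G).factorization 3 := by
          refine le_antisymm ((Nat.factorization_le_iff_dvd (Block.charDegree_pos χ).ne' Nat.card_pos.ne').2
            (Block.charDegree_dvd_card χ) 3) ?_
          rw [card24 X, show (244823040 : ℕ) = 3 ^ 3 * 9067520 by norm_num,
            factorization_eq Nat.prime_three (by norm_num) (by norm_num)]
          refine (Nat.Prime.pow_dvd_iff_le_factorization Nat.prime_three (Block.charDegree_pos χ).ne').1 ?_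
          show 3 ^ 3 ∣ dg χ
          rw [hd]
          exact Nat.dvd_of_mod_eq_zero (by simpa using h27)
        simp only [List.mem_singleton]
        refine sv_eq_of ?_
        rw [MEleven.apply_eq_zero_of_defectZero χ hfull (by rw [hg]),
          MEleven.apply_eq_zero_of_defectZero χ hfull (by rw [orderOf_inv, hg])]
        norm_num
      · exact sok X hF S hP hL hw hwI hg hgw hr hgr hd (fun a e => by simp at e)
          (fun a e => by cases e; exact mod5 X hF S hP hL hw hwI hg hgw hr hgr 0 (Or.inr ⟨hd5, rfl⟩))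
    have hb := h _ ht
    haveI : Fact (Nat.Prime 11) := ⟨by norm_num⟩
    obtain ⟨y, -, -, hy, -⟩ := exists_inverter X
    have hcol := (column_of_order_eleven X hy).1
    have hwC : Nat.card (Subgroup.centralizer ({w} : Set G)) = 5 * q := by
      rw [centralizer_singleton_eq S5.card_P (mem_pnt.1 hw).1 (mem_pnt.1 hw).2, hF.1]
    have hyC : Nat.card (Subgroup.centralizer ({y} : Set G)) = 11 := by
      obtain ⟨R, hR, hyR, hy1⟩ := Eleven.exists_sylow (q := 11) (X.hcard ▸ by norm_num) (X.hcard ▸ by norm_num) hy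
      rw [centralizer_singleton_eq hR hyR hy1, (local_eleven (card24 X) R).1]
    let cols : List ((IrrCharacter G → ℤ) × ℤ) :=
      [(sv g, n), (MTwentyTwo.intVal v, (Nat.card (Subgroup.centralizer ({v} : Set G)) : ℤ)),
        (MTwentyTwo.intVal z, (Nat.card (Subgroup.centralizer ({z} : Set G)) : ℤ)),
        ((fun ψ => v11 (dg ψ)), 11), (MTwentyTwo.intVal w, ((5 * q : ℕ) : ℤ))]
    have hnodup : (χ :: knownList χA χa χB χE L).Nodup :=
      List.nodup_cons.2 ⟨hχ, known_nodup X hF S hP hL⟩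
    have hbf := bessel_mono hnm (not_bessel cols (χ :: knownList χA χa χB χE L) hnodup ?_ ?_ vecs5)
    rotate_left
    · intro c hc
      simp only [cols, List.mem_cons, List.not_mem_nil, or_false] at hc
      rcases hc with rfl | rfl | rfl | rfl | rfl
      · exact hn
      · exact col_norm _ (cast_val X hv)
      · exact col_norm _ (cast_val X hz)
      · exact (col_norm _ hcol).trans (by rw [hyC]; norm_num)
      · exact (col_norm _ hwI).trans (by rw [hwC])
    · simp only [cols, List.pairwise_cons, List.mem_cons, List.not_mem_nil, or_false, forall_eq_or_imp, forall_eq,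
        List.Pairwise.nil, and_true, false_imp_iff, implies_true]
      refine ⟨⟨orth_sv hg (by rw [hv]; norm_num) _ (cast_val X hv), orth_sv hg (by rw [hz]; norm_num) _ (cast_val X hz),
        orth_sv hg (by rw [hy]; norm_num) _ hcol, orth_sv hg (by rw [hwo]; norm_num) _ hwI⟩,
        ⟨col_orth (not_conj_of_card hvz) _ _ (cast_val X hv) (cast_val X hz),
          col_orth (not_conj_of_order (by rw [hv, hy]; norm_num)) _ _ (cast_val X hv) hcol,
          col_orth (not_conj_of_order (by rw [hv, hwo]; norm_num)) _ _ (cast_val X hv) hwI⟩,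
        ⟨col_orth (not_conj_of_order (by rw [hz, hy]; norm_num)) _ _ (cast_val X hz) hcol,
          col_orth (not_conj_of_order (by rw [hz, hwo]; norm_num)) _ _ (cast_val X hz) hwI⟩,
        col_orth (not_conj_of_order (by rw [hy, hwo]; norm_num)) _ _ hcol hwI⟩
    have hv11 : v11 d = 1 := by
      simp only [List.mem_cons, List.not_mem_nil, or_false] at hd'
      rcases hd' with rfl | rfl | rfl <;> rfl
    have hd5 : 5 ∣ dg χ := by
      simp only [List.mem_cons, List.not_mem_nil, or_false] at hd'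
      rcases hd' with rfl | rfl | rfl <;> rw [hd] <;> norm_num
    simp only [cols, List.map_cons, List.map_nil, hd, hv11, w_zero X hF hw hwI hd5] at hbf
    have hp := pts4_eq X hF S hP hL hw hwI (v := v) (z := z)
    simp only [rowT] at hp
    simp only [hp, extraPt] at hb
    have e : [2] ++ [sv g χA, sv g χB, sv g χa, sv g χE] ++
        List.zipWith sgv (L.map (sd S)) (L.map fun ψ => S.σ ψ * sv g ψ) =
        (knownList χA χa χB χE L).map (sv g) := by
      simp [knownList, zipWith_sgv X hF S hP hL, sv_one]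
    rw [e, List.zipWith_map, List.zipWith_self] at hb
    rw [Bool.eq_false_iff] at hbf
    apply hbf
    convert hb using 2
    push_cast
    rfl

end Cfsg.Lib.MTwentyFour.Six
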