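import Cfsg.Agent.Lib.MTwentyFour.Six.RowsA
import Cfsg.Agent.Lib.MTwentyFour.Six.RowsB
import Cfsg.Agent.Lib.MTwentyFour.Six.RowsC
import Cfsg.Agent.Lib.MTwentyFour.Six.RowsD
import Cfsg.Agent.Lib.MTwentyFour.Six.RowsE
import Cfsg.Agent.Lib.MTwentyFour.Six.RowsF
import Cfsg.Agent.Lib.MTwentyFour.Six.RowsG
import Cfsg.Agent.Lib.MTwentyFour.Six.RowsH
import Cfsg.Agent.Lib.MTwentyFour.Six.Threes
import Cfsg.Agent.Lib.MTwentyFour.Six.RootOk
import Cfsg.Agent.Lib.MTwentyFour.Six.Columns
import Cfsg.Agent.Lib.MTwentyFour.Six.Three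
import Cfsg.Agent.Lib.MTwentyFour.Six.Big

/-!
The cofactor 24 at 7 does not occur.
-/

set_option autoImplicit false
set_option linter.style.haveILetI false
set_option linter.unusedSectionVars false
set_option maxHeartbeats 1000000

namespace Cfsg.Lib.MTwentyFour.Six

open Cfsg Cfsg.Lib Cfsg.Lib.Block Cfsg.Lib.MTwentyFour.Eleven Cfsg.Lib.MTwentyFour.Local
open Cfsg.Lib.MTwentyFour.Search (ord24 v11 w23)
open scoped ComplexConjugate Classical

universe u

noncomputable local instance (priority := high) fintypeSubgroupTwentyFour {A : Type u}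
    [Group A] [Fintype A] (H : Subgroup A) : Fintype H := Fintype.ofFinite H

local notation "C[" P "]" => Subgroup.centralizer (SetLike.coe P)
local notation "Cz(" v ")" => Nat.card (Subgroup.centralizer ({v} : Set _))

/-- All families pass all tests and their lists are complete. -/
theorem data_ok : ∀ F ∈ allData, F.tests = true ∧ F.coversV = true ∧ F.coversJ = true ∧ F.coversZ = true ∧
    F.coversZAny = true := by
  unfold allData
  refine List.forall_mem_cons.2 ⟨⟨data0_tests, data0_coversV, data0_coversJ, data0_coversZ, data0_coversZAny⟩, ?_⟩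
  refine List.forall_mem_cons.2 ⟨⟨data1_tests, data1_coversV, data1_coversJ, data1_coversZ, data1_coversZAny⟩, ?_⟩
  refine List.forall_mem_cons.2 ⟨⟨data2_tests, data2_coversV, data2_coversJ, data2_coversZ, data2_coversZAny⟩, ?_⟩
  refine List.forall_mem_cons.2 ⟨⟨data3_tests, data3_coversV, data3_coversJ, data3_coversZ, data3_coversZAny⟩, ?_⟩
  refine List.forall_mem_cons.2 ⟨⟨data4_tests, data4_coversV, data4_coversJ, data4_coversZ, data4_coversZAny⟩, ?_⟩
  refine List.forall_mem_cons.2 ⟨⟨data5_tests, data5_coversV, data5_coversJ, data5_coversZ, data5_coversZAny⟩, ?_⟩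
  refine List.forall_mem_cons.2 ⟨⟨data6_tests, data6_coversV, data6_coversJ, data6_coversZ, data6_coversZAny⟩, ?_⟩
  refine List.forall_mem_cons.2 ⟨⟨data7_tests, data7_coversV, data7_coversJ, data7_coversZ, data7_coversZAny⟩, ?_⟩
  refine List.forall_mem_cons.2 ⟨⟨data8_tests, data8_coversV, data8_coversJ, data8_coversZ, data8_coversZAny⟩, ?_⟩
  refine List.forall_mem_cons.2 ⟨⟨data9_tests, data9_coversV, data9_coversJ, data9_coversZ, data9_coversZAny⟩, ?_⟩
  refine List.forall_mem_cons.2 ⟨⟨data10_tests, data10_coversV, data10_coversJ, data10_coversZ, data10_coversZAny⟩, ?_⟩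
  refine List.forall_mem_cons.2 ⟨⟨data11_tests, data11_coversV, data11_coversJ, data11_coversZ, data11_coversZAny⟩, ?_⟩
  refine List.forall_mem_cons.2 ⟨⟨data12_tests, data12_coversV, data12_coversJ, data12_coversZ, data12_coversZAny⟩, ?_⟩
  refine List.forall_mem_cons.2 ⟨⟨data13_tests, data13_coversV, data13_coversJ, data13_coversZ, data13_coversZAny⟩, ?_⟩
  refine List.forall_mem_cons.2 ⟨⟨data14_tests, data14_coversV, data14_coversJ, data14_coversZ, data14_coversZAny⟩, ?_⟩
  refine List.forall_mem_cons.2 ⟨⟨data15_tests, data15_coversV, data15_coversJ, data15_coversZ, data15_coversZAny⟩, ?_⟩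
  refine List.forall_mem_cons.2 ⟨⟨data16_tests, data16_coversV, data16_coversJ, data16_coversZ, data16_coversZAny⟩, ?_⟩
  refine List.forall_mem_cons.2 ⟨⟨data17_tests, data17_coversV, data17_coversJ, data17_coversZ, data17_coversZAny⟩, ?_⟩
  refine List.forall_mem_cons.2 ⟨⟨data18_tests, data18_coversV, data18_coversJ, data18_coversZ, data18_coversZAny⟩, ?_⟩
  refine List.forall_mem_cons.2 ⟨⟨data19_tests, data19_coversV, data19_coversJ, data19_coversZ, data19_coversZAny⟩, ?_⟩
  refine List.forall_mem_cons.2 ⟨⟨data20_tests, data20_coversV, data20_coversJ, data20_coversZ, data20_coversZAny⟩, ?_⟩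
  refine List.forall_mem_cons.2 ⟨⟨data21_tests, data21_coversV, data21_coversJ, data21_coversZ, data21_coversZAny⟩, ?_⟩
  refine List.forall_mem_cons.2 ⟨⟨data22_tests, data22_coversV, data22_coversJ, data22_coversZ, data22_coversZAny⟩, ?_⟩
  refine List.forall_mem_cons.2 ⟨⟨data23_tests, data23_coversV, data23_coversJ, data23_coversZ, data23_coversZAny⟩, ?_⟩
  refine List.forall_mem_cons.2 ⟨⟨data24_tests, data24_coversV, data24_coversJ, data24_coversZ, data24_coversZAny⟩, ?_⟩
  exact fun F hF => absurd hF List.not_mem_nil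

theorem data_perm : fams24.all (fun l => allData.any fun F => l.isPerm F.l) = true := by decide +kernel

theorem neg_degrees : degList.all (fun d => decide (0 ≤ v11 d * w23 d) || [45, 540, 3840].contains d) = true := by
  decide +kernel

theorem subT_mem {xs ys : List TRow} (h : subT xs ys = true) {r : TRow} (hr : r ∈ xs) : r ∈ ys :=
  List.contains_iff_mem.1 (List.all_eq_true.1 h r hr)

theorem dot_map_map {ι : Type*} (f g : ι → ℤ) : ∀ K : List ι,
    dot (K.map f) (K.map g) = (K.map fun i => f i * g i).sum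
  | [] => rfl
  | a :: K => by simp [dot, dot_map_map f g K]

/-- Two orthogonal columns on a part of the index set. -/
theorem cauchy_rest {ι : Type*} [Fintype ι] [DecidableEq ι] (K : List ι) (hK : K.Nodup) (f g : ι → ℤ) {a b : ℤ}
    (hf : ∑ i, f i * f i = a) (hg : ∑ i, g i * g i = b) (hfg : ∑ i, f i * g i = 0) :
    0 ≤ a - dot (K.map f) (K.map f) ∧ 0 ≤ b - dot (K.map g) (K.map g) ∧
      dot (K.map f) (K.map g) * dot (K.map f) (K.map g) ≤
        (a - dot (K.map f) (K.map f)) * (b - dot (K.map g) (K.map g)) := by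
  simp only [dot_map_map, ← List.sum_toFinset _ hK]
  rw [← Finset.sum_add_sum_compl K.toFinset] at hf hg hfg
  refine ⟨?_, ?_, ?_⟩
  · have : 0 ≤ ∑ i ∈ K.toFinsetᶜ, f i * f i := Finset.sum_nonneg fun i _ => mul_self_nonneg _
    linarith
  · have : 0 ≤ ∑ i ∈ K.toFinsetᶜ, g i * g i := Finset.sum_nonneg fun i _ => mul_self_nonneg _
    linarith
  · have h := Finset.sum_mul_sq_le_sq_mul_sq K.toFinsetᶜ f g
    simp only [pow_two] at h
    rw [show ∑ i ∈ K.toFinsetᶜ, f i * f i = a - ∑ i ∈ K.toFinset, f i * f i by linarith,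
      show ∑ i ∈ K.toFinsetᶜ, g i * g i = b - ∑ i ∈ K.toFinset, g i * g i by linarith,
      show ∑ i ∈ K.toFinsetᶜ, f i * g i = -∑ i ∈ K.toFinset, f i * g i by linarith, neg_mul_neg] at h
    exact h

variable {G : Type u} [Group G] [Fintype G] [IsSimpleGroup G] [Fact (Nat.Prime 5)] [Fact (Nat.Prime 7)]
  (X : Ctx G) {Q : Sylow 5 G} {q : ℕ} {S5 : Small.Shape Q 4} {χA χa χB χE : IrrCharacter G}
  (hF : FiveFam Q q S5 χA χa χB χE) {P : Sylow 7 G} (S : Small.Shape P 6)
  (hP : Nat.card C[(P : Subgroup G)] = 7 * 24)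
include X hF S hP

omit hF S hP in
/-- The involution inverting an element of order 11. -/
theorem inverter_facts : ∃ z : G, orderOf z = 2 ∧ Cz(z) % 10 = 0 ∧
    ∀ χ : IrrCharacter G, 11 * ((MTwentyTwo.intVal z χ).natAbs : ℤ) ≤ (dg χ : ℤ) + 10 * v11 (dg χ) := by
  obtain ⟨y, z, f, hy, hz, hf, hinv, hfz⟩ := exists_inverter X
  refine ⟨z, hz, Nat.mod_eq_zero_of_dvd ?_, fun χ => inverted_bound X hy hz hinv χ (cast_val X hz χ)⟩
  refine Nat.Coprime.mul_dvd_of_dvd_of_dvd (by norm_num : Nat.Coprime 2 5) ?_ ?_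
  · exact hz ▸ Subgroup.orderOf_dvd_natCard _ (Subgroup.mem_centralizer_singleton_iff.2 rfl)
  · exact hf ▸ Subgroup.orderOf_dvd_natCard _ (Subgroup.mem_centralizer_singleton_iff.2 hfz.eq)

/-- The ways to the two computed cofactors at 5. -/
theorem q_split : ∃ k : ℕ, (k * k * q = 32 ∧ (q = 2 ∨ q = 32)) ∨ (k * k * q = 192 ∧ (q = 12 ∨ q = 192)) := by
  have hq := q_mem X hF S hP
  simp only [List.mem_cons, List.not_mem_nil, or_false] at hq
  rcases hq with rfl | rfl | rfl | rfl
  exacts [⟨4, Or.inl ⟨rfl, Or.inl rfl⟩⟩, ⟨4, Or.inr ⟨rfl, Or.inl rfl⟩⟩, ⟨1, Or.inl ⟨rfl, Or.inr rfl⟩⟩,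
    ⟨1, Or.inr ⟨rfl, Or.inr rfl⟩⟩]

variable {L : List (IrrCharacter G)} (hL : FamList S χa L)
include hL

/-- A further character. -/
theorem exists_extra (hw0 : ∀ χ ∈ L, v11 (dg χ) * w23 (dg χ) = 0) :
    ∃ (χ : IrrCharacter G) (d : ℕ), dg χ = d ∧ d ∈ [45, 540, 3840] ∧ χ ∉ knownList χA χa χB χE L := by
  have hsum := cross_zero X
  obtain ⟨-, -, -, dA, da, dB, dE, -, -, -, -, -⟩ := id hF
  have h1 : dg (Small.one' G) = 1 := Small.charDegree_one'
  have hpos : ∀ χ ∈ knownList χA χa χB χE L, 0 ≤ v11 (dg χ) * w23 (dg χ) := fun χ hχ => by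
    simp only [knownList, List.mem_append, List.mem_cons, List.not_mem_nil, or_false] at hχ
    rcases hχ with (rfl | rfl | rfl | rfl | rfl) | hχ
    · rw [h1]; decide
    · rw [dA]; decide
    · rw [dB]; decide
    · rw [da]; decide
    · rw [dE]; decide
    · exact (hw0 χ hχ).ge
  have hone : 0 < v11 (dg (Small.one' G)) * w23 (dg (Small.one' G)) := by rw [h1]; decide
  by_contra hno
  push Not at hno
  have hall : ∀ χ : IrrCharacter G, 0 ≤ v11 (dg χ) * w23 (dg χ) := fun χ => by
    by_contra hneg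
    have h := List.all_eq_true.1 neg_degrees (dg χ) (mem_degList X χ)
    simp only [Bool.or_eq_true, decide_eq_true_eq, List.contains_iff_mem] at h
    exact hneg (hpos χ (hno χ _ rfl (h.resolve_left hneg)))
  exact hone.ne' ((Finset.sum_eq_zero_iff_of_nonneg fun χ _ => hall χ).1 hsum _ (Finset.mem_univ _))

/-- The row of an involution survives against the column at an element of order 11. -/
theorem alive_row {v : G} (hv : orderOf v = 2) :
    aliveY (L.map (sd S)) (rowT S χA χa χB χE L v) = true := by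
  haveI : Fact (Nat.Prime 11) := ⟨by norm_num⟩
  obtain ⟨y, -, -, hy, -⟩ := exists_inverter X
  have hcol := (column_of_order_eleven X hy).1
  obtain ⟨R, hR, hyR, hy1⟩ := Eleven.exists_sylow (q := 11) (X.hcard ▸ by norm_num) (X.hcard ▸ by norm_num) hy
  have hyC : Cz(y) = 11 := by rw [centralizer_singleton_eq hR hyR hy1, (local_eleven (card24 X) R).1]
  have h := cauchy_rest (knownList χA χa χB χE L) (known_nodup X hF S hP hL) (MTwentyTwo.intVal v)
    (fun χ => v11 (dg χ)) (col_norm _ (cast_val X hv)) ((col_norm _ hcol).trans (by rw [hyC]; norm_num : _ = (11 : ℤ)))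
    (col_orth (not_conj_of_order (by rw [hv, hy]; norm_num)) _ _ (cast_val X hv) hcol)
  simp only [aliveY, namedRow_eq X hF S hP hL, yRow_eq X hF S hP hL, Bool.and_eq_true, decide_eq_true_eq]
  exact ⟨⟨h.1, h.2.1⟩, h.2.2⟩

/-- The values of a further character. -/
theorem extra_mem {v z : G} (hv : Central P v) (hz : orderOf z = 2) (hz10 : Cz(z) % 10 = 0)
    (hzb : ∀ χ : IrrCharacter G, 11 * ((MTwentyTwo.intVal z χ).natAbs : ℤ) ≤ (dg χ : ℤ) + 10 * v11 (dg χ))
    {χ : IrrCharacter G} {d : ℕ} (hd : dg χ = d) (hd' : d ∈ [45, 540, 3840]) :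
    (d, MTwentyTwo.intVal v χ, MTwentyTwo.intVal z χ) ∈
      extras (rowT S χA χa χB χE L v) (rowT S χA χa χB χE L z) := by
  have hne : χ ≠ Small.one' G := fun e => by
    have : d = 1 := by rw [← hd, e]; exact Small.charDegree_one'
    subst this; simp at hd'
  have h5 : 5 ∣ dg χ := by
    simp only [List.mem_cons, List.not_mem_nil, or_false] at hd'
    rcases hd' with rfl | rfl | rfl <;> rw [hd] <;> norm_num
  have m5 := mod_of_dvd X S hP hz S5 (by norm_num) (fac_five X)
    ((Dvd.intro 2 rfl : 5 ∣ 10).trans (Nat.dvd_of_mod_eq_zero hz10)) (Or.inr h5)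
  have m4v := four_dvd X hv.1 χ
  have m4z := four_dvd X hz χ
  rw [hd] at m5 m4v m4z
  refine List.mem_flatMap.2 ⟨d, hd', List.mem_flatMap.2 ⟨_, List.mem_filter.2
    ⟨mem_vd (cent_mem X hv.1) (valOk_of X hF S hP hL hv.1 hd hne (fun h => absurd h Bool.false_ne_true) m4v),
      root_ok X S hP hv hd hd'⟩, List.mem_map.2 ⟨_, ?_, rfl⟩⟩⟩
  exact mem_vd (cent_mem X hz) (valOk_of X hF S hP hL hz hd hne (fun _ => hzb χ) (by omega))

/-- The row of a central involution is listed. -/
theorem central_row {v : G} (hv : Central P v) (k : ℕ) :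
    rowT S χA χa χB χE L v ∈ centsV.flatMap (trows (L.map (sd S)) (k * k * q) false 7) :=
  List.mem_flatMap.2 ⟨_, List.mem_filter.2 ⟨cent_mem X hv.1, hv.cSeven⟩,
    mem_trows X hF S hP hL hv.1 (fun h => absurd h Bool.false_ne_true) (md_seven X hF S hP hL hv.1) k⟩

variable {F : FamData} (hl : L.map (sd S) = F.l) (hok : F.tests = true ∧ F.coversV = true ∧ F.coversJ = true ∧
    F.coversZ = true ∧ F.coversZAny = true)
include hl hok

/-- No involution commutes with elements of orders 5 and 7. -/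
theorem no_j (hw0 : ∀ χ ∈ L, v11 (dg χ) * w23 (dg χ) = 0) : NoJ G := by
  intro j hj h35
  obtain ⟨ht, hcV, hcJ, -, hcA⟩ := hok
  simp only [FamData.tests, Bool.and_eq_true, Bool.not_eq_true'] at ht
  obtain ⟨⟨⟨⟨-, hk192⟩, hn32⟩, -⟩, -⟩ := ht
  simp only [FamData.coversV, FamData.coversJ, Bool.and_eq_true] at hcV hcJ
  obtain ⟨v, hv⟩ := exists_central X S hP
  have hj70 : Cz(j) % 70 = 0 := Nat.mod_eq_zero_of_dvd (Nat.Coprime.mul_dvd_of_dvd_of_dvd
    (by norm_num : Nat.Coprime 2 35) (hj ▸ Subgroup.orderOf_dvd_natCard _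
      (Subgroup.mem_centralizer_singleton_iff.2 rfl)) h35)
  obtain ⟨k, hk⟩ := q_split X hF S hP
  have hjr : rowT S χA χa χB χE L j ∈ listJ F.l (k * k * q) := hl ▸ List.mem_flatMap.2 ⟨_,
    List.mem_filter.2 ⟨cent_mem X hj, by simpa using hj70⟩,
    mem_trows X hF S hP hL hj (fun h => absurd h Bool.false_ne_true) (md_seven X hF S hP hL hj) k⟩
  have hvr := central_row X hF S hP hL hv k
  have hp := pair_ok X hF S hP hL hj hv.1
  have haj := alive_row X hF S hP hL hj
  have hav := alive_row X hF S hP hL hv.1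
  rw [hl] at hvr hp haj hav
  have hneed : ∀ {J V : List TRow}, rowT S χA χa χB χE L j ∈ J → rowT S χA χa χB χE L v ∈ V →
      needZ F.l J V = true := fun h1 h2 => by
    simp only [needZ, List.any_eq_true, Bool.and_eq_true]
    exact ⟨_, h1, _, h2, ⟨hp, haj⟩, hav⟩
  rcases hk with ⟨hk, -⟩ | ⟨hk, -⟩ <;> rw [hk] at hjr hvr
  · rw [hneed (subT_mem hcJ.1 hjr) (subT_mem hcV.1 hvr)] at hn32
    exact Bool.noConfusion hn32
  · obtain ⟨z, hz, hz10, hzb⟩ := inverter_facts X
    obtain ⟨χ, d, hd, hd', -⟩ := exists_extra X hF S hP hL hw0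
    have hzr : rowT S χA χa χB χE L z ∈ listZAny F.l (k * k * q) := hl ▸ List.mem_flatMap.2 ⟨_,
      List.mem_filter.2 ⟨cent_mem X hz, by simpa using hz10⟩,
      mem_trows X hF S hP hL hz (fun _ => hzb) (md_seven X hF S hP hL hz) k⟩
    rw [hk] at hzr
    have hJ' := subT_mem hcJ.2 hjr
    have hV' := subT_mem hcV.2 hvr
    simp only [FamData.coversZAny, hneed hJ' hV', Bool.not_true, Bool.false_or] at hcA
    have hp1 := pair_ok X hF S hP hL hj hz
    have hp2 := pair_ok X hF S hP hL hv.1 hz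
    rw [hl] at hp1 hp2
    simp only [jKill, List.all_eq_true] at hk192
    have h := hk192 _ hJ' _ hV'
    simp only [hp, haj, hav, Bool.and_true, Bool.not_true, Bool.false_or, List.all_eq_true] at h
    have h' := h _ (subT_mem hcA hzr)
    simp only [hp1, hp2, Bool.and_true, Bool.not_true, Bool.false_or, List.isEmpty_iff] at h'
    exact List.not_mem_nil (h' ▸ extra_mem X hF S hP hL hv hz hz10 hzb hd hd')

/-- The contradiction for a family. -/
theorem family_false (hw0 : ∀ χ ∈ L, v11 (dg χ) * w23 (dg χ) = 0) : False := by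
  have hJ := no_j X hF S hP hL hl hok hw0
  obtain ⟨ht, hcV, -, hcZ, -⟩ := hok
  simp only [FamData.tests, Bool.and_eq_true, Bool.not_eq_true'] at ht
  obtain ⟨⟨-, hmain⟩, hfree⟩ := ht
  simp only [FamData.coversV, Bool.and_eq_true] at hcV
  obtain ⟨v, hv⟩ := exists_central X S hP
  obtain ⟨k, hk⟩ := q_split X hF S hP
  have hqm := q_mem X hF S hP
  have h7 : 7 ∣ Cz(v) := by
    rcases hv.2.2 with ⟨-, h, -⟩ | ⟨O, -, -, -, -, h, -⟩ <;> omega
  have hv5 : ¬ 5 ∣ Cz(v) := fun h => hJ v hv.1 (Nat.Coprime.mul_dvd_of_dvd_of_dvd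
    (by norm_num : Nat.Coprime 5 7) h h7)
  have hsqF : ∀ {u : G}, orderOf u = 2 → sqFive q Cz(u) (MTwentyTwo.intVal u χA) (MTwentyTwo.intVal u χB)
      (MTwentyTwo.intVal u χa) (MTwentyTwo.intVal u χE) = true := fun {u} hu => by
    obtain ⟨m, hm⟩ := square5 X hF S hP hu
    simpa using sqFive_of (C := Cz(u)) Nat.card_pos.ne' 1 m hm
  have hvf : ∀ {V : List TRow}, rowT S χA χa χB χE L v ∈ V → rowT S χA χa χB χE L v ∈ freeV q V := fun h => by
    refine List.mem_filter.2 ⟨List.mem_filter.2 ⟨h, ?_⟩, ?_⟩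
    · exact Bool.and_eq_true _ _ ▸ ⟨hsqF hv.1, beq_iff_eq.2 (md_free X hF S hP hL hv.1 hJ)⟩
    · simp only [rowT, Bool.not_eq_true', beq_eq_false_iff_ne]
      omega
  have hvr := central_row X hF S hP hL hv k
  rw [hl] at hvr
  rcases hk with ⟨hk, -⟩ | ⟨hk, -⟩ <;> rw [hk] at hvr
  · have h := List.isEmpty_iff.1 (List.all_eq_true.1 hfree q hqm)
    exact List.not_mem_nil (h ▸ hvf (subT_mem hcV.1 hvr))
  have hV := subT_mem hcV.2 hvr
  obtain ⟨z, hz, hz10, hzb⟩ := inverter_facts X
  have hz7 : ¬ 7 ∣ Cz(z) := fun h => hJ z hz (Nat.Coprime.mul_dvd_of_dvd_of_dvd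
    (by norm_num : Nat.Coprime 5 7) (by omega) h)
  have hcZ' : subT (listZ F.l 192) F.z192 = true := by
    simp only [FamData.coversZ, Bool.or_eq_true, List.all_eq_true] at hcZ
    rcases hcZ with h | h
    · have := h _ hV
      simp only [rowT, Bool.not_eq_true', Bool.and_eq_false_iff, bne_eq_false_iff_eq, beq_eq_false_iff_ne] at this
      rcases this with e | e
      · omega
      · exact absurd (md_free X hF S hP hL hv.1 hJ) e
    · exact h
  have hzr : rowT S χA χa χB χE L z ∈ listZ F.l (k * k * q) := hl ▸ List.mem_flatMap.2 ⟨_,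
    List.mem_filter.2 ⟨List.mem_filter.2 ⟨cent_mem X hz, by simpa using hz10⟩,
      by simp only [Bool.not_eq_true', beq_eq_false_iff_ne]; omega⟩,
    mem_trows X hF S hP hL hz (fun _ => hzb) (md_free X hF S hP hL hz hJ) k⟩
  rw [hk] at hzr
  have hzf : rowT S χA χa χB χE L z ∈ freeRows q F.z192 := List.mem_filter.2 ⟨subT_mem hcZ' hzr,
    Bool.and_eq_true _ _ ▸ ⟨hsqF hz, beq_iff_eq.2 (md_free X hF S hP hL hz hJ)⟩⟩
  obtain ⟨χ, d, hd, hd', hχ⟩ := exists_extra X hF S hP hL hw0
  obtain ⟨w, hw, hwo, hwC, hwI⟩ := exists_five_column X hF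
  have hp := pair_ok X hF S hP hL hv.1 hz
  have hx := mem_xlist X hF S hP hL hw hwI
  have hcv := cx_ok X hF S hP hL hw hwI hv.1 hJ
  have hcz := cx_ok X hF S hP hL hw hwI hz hJ
  have hvz : Cz(v) ≠ Cz(z) := fun e => hv5 (by omega)
  have hg := gcase_false X hF S hP hL hw hwI hJ hv.1 hz hvz hd hd' hχ
  rw [hl] at hp hx hcv hcz hg
  simp only [mainKill, List.all_eq_true] at hmain
  have h := hmain q hqm _ hzf _ (hvf hV)
  simp only [hp, Bool.not_true, Bool.false_or, List.all_eq_true] at h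
  have h' := h _ hx
  simp only [hcv, hcz, Bool.and_true, Bool.not_true, Bool.false_or, List.all_eq_true] at h'
  have hb := h' _ (extra_mem X hF S hP hL hv hz hz10 hzb hd hd')
  rw [hg, Bool.or_false] at hb
  haveI : Fact (Nat.Prime 11) := ⟨by norm_num⟩
  obtain ⟨y, -, -, hy, -⟩ := exists_inverter X
  have hcol := (column_of_order_eleven X hy).1
  obtain ⟨R, hR, hyR, hy1⟩ := Eleven.exists_sylow (q := 11) (X.hcard ▸ by norm_num) (X.hcard ▸ by norm_num) hy
  have hyC : Cz(y) = 11 := by rw [centralizer_singleton_eq hR hyR hy1, (local_eleven (card24 X) R).1]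
  let cols : List ((IrrCharacter G → ℤ) × ℤ) :=
    [(MTwentyTwo.intVal v, (Cz(v) : ℤ)), (MTwentyTwo.intVal z, (Cz(z) : ℤ)),
      ((fun ψ => v11 (dg ψ)), 11), (MTwentyTwo.intVal w, 5 * (q : ℤ))]
  have hbf := not_bessel cols (χ :: knownList χA χa χB χE L)
    (List.nodup_cons.2 ⟨hχ, known_nodup X hF S hP hL⟩) ?_ ?_ vecs4
  rotate_left
  · intro c hc
    simp only [cols, List.mem_cons, List.not_mem_nil, or_false] at hc
    rcases hc with rfl | rfl | rfl | rfl
    · exact col_norm _ (cast_val X hv.1)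
    · exact col_norm _ (cast_val X hz)
    · exact (col_norm _ hcol).trans (by rw [hyC]; norm_num)
    · exact (col_norm _ hwI).trans (by rw [hwC, hF.1]; push_cast; ring)
  · simp only [cols, List.pairwise_cons, List.mem_cons, List.not_mem_nil, or_false, forall_eq_or_imp, forall_eq,
      List.Pairwise.nil, and_true, false_imp_iff, implies_true]
    exact ⟨⟨col_orth (not_conj_of_card hvz) _ _ (cast_val X hv.1) (cast_val X hz),
        col_orth (not_conj_of_order (by rw [hv.1, hy]; norm_num)) _ _ (cast_val X hv.1) hcol,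
        col_orth (not_conj_of_order (by rw [hv.1, hwo]; norm_num)) _ _ (cast_val X hv.1) hwI⟩,
      ⟨col_orth (not_conj_of_order (by rw [hz, hy]; norm_num)) _ _ (cast_val X hz) hcol,
        col_orth (not_conj_of_order (by rw [hz, hwo]; norm_num)) _ _ (cast_val X hz) hwI⟩,
      col_orth (not_conj_of_order (by rw [hy, hwo]; norm_num)) _ _ hcol hwI⟩
  have hv11 : v11 d = 1 := by
    simp only [List.mem_cons, List.not_mem_nil, or_false] at hd'
    rcases hd' with rfl | rfl | rfl <;> rfl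
  have hd5 : 5 ∣ dg χ := by
    simp only [List.mem_cons, List.not_mem_nil, or_false] at hd'
    rcases hd' with rfl | rfl | rfl <;> rw [hd] <;> norm_num
  simp only [cols, List.map_cons, List.map_nil, hd, hv11, w_zero X hF hw hwI hd5] at hbf
  rw [← hl, pts4_eq X hF S hP hL hw hwI] at hb
  simp only [rowT, extraPt] at hb
  rw [hb] at hbf
  exact Bool.noConfusion hbf

omit hl hok hL in
/-- The cofactor 24 does not occur. -/
theorem not_twentyFour : False := by
  obtain ⟨l, hl, hlv⟩ := family X hF S hP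
  rw [famsFor, if_neg (by norm_num)] at hl
  obtain ⟨F, hFm, hperm⟩ := List.any_eq_true.1 (List.all_eq_true.1 data_perm l hl)
  rw [List.isPerm_iff] at hperm
  have hp' : F.l.Perm ((five (χa := χa) S).toList.map (sd S)) := by
    refine hperm.symm.trans ?_
    rw [← Multiset.coe_eq_coe, hlv, ← Multiset.map_coe, Finset.coe_toList]
  obtain ⟨L, hL1, hLl⟩ := MTwentyTwo.exists_perm_map hp' _ rfl
  have hL : FamList S χa L := ⟨hL1.nodup_iff.2 (five (χa := χa) S).nodup_toList,
    fun χ => hL1.mem_iff.trans Finset.mem_toList⟩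
  refine family_false X hF S hP hL hLl (data_ok F hFm) fun χ hχ => ?_
  have hm : sd S χ ∈ l := hperm.mem_iff.2 (hLl ▸ List.mem_map.2 ⟨χ, hχ, rfl⟩)
  have h := List.all_eq_true.1 (List.all_eq_true.1 family_weight l hl) _ hm
  simp only [Bool.and_eq_true, beq_iff_eq] at h
  rw [← sd_natAbs S (fam_facts X hF S hP hL hχ).1]
  exact h.1

omit hl hok hL hF S hP in
/-- The automizer at 7 does not have order 6. -/
theorem not_six (P : Sylow 7 G)
    (he : (C[(P : Subgroup G)]).relIndex (Subgroup.normalizer ((P : Subgroup G) : Set G)) = 6) : False := by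
  obtain ⟨Q, q, S5, χA, χa, χB, χE, hF⟩ := exists_five_family X
  obtain ⟨S⟩ := Small.exists_shape (p := 7) (by norm_num) P (sylow_seven X P) he (by norm_num)
  obtain ⟨c, hP⟩ : 7 ∣ Nat.card C[(P : Subgroup G)] := by
    have := Subgroup.card_dvd_of_le (le_centralizer_self (sylow_seven X P))
    rwa [sylow_seven X P] at this
  rcases cof X hF S hP with rfl | rfl | rfl
  · exact not_three X hF S hP rfl
  · exact not_twentyFour X hF S hP
  · exact not_big X hF S hP rfl

end Cfsg.Lib.MTwentyFour.Six
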